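import Cfsg.Agent.Lib.OddOrder.PF8.TypeP
import Cfsg.Agent.Lib.OddOrder.TypeP
import Cfsg.Agent.Lib.OddOrder.MinSimple
import Cfsg.Agent.Lib.OddOrder.Interface.PF12
import Cfsg.Agent.Lib.OddOrder.Interface.PF13Needs
import Cfsg.Agent.S1545

/-!
# Peterfalvi (13.2): the group theory of one side of the pair

`Facts` collects what §§8-11 give for a maximal subgroup `S` of type II or III with datum
`(W₁, U, W₂)`; the lemmas below derive the chief factor properties of `P = S_F`.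
-/

set_option autoImplicit false

open scoped commutatorElement

namespace Cfsg.Agent.Lib.OddOrder.PF13

open Cfsg.Agent.Lib.OddOrder.Basic

universe u

/-- The part of §11 used here: in types III and IV, `U` is cyclic, `M_F` is elementary abelian of
order `p ^ q` and `p < q`. -/
def TypeThreeFacts (G : Type u) [Group G] : Prop :=
  ∀ M W₁ U W₂ : Subgroup G, IsCoatom M → Cfsg.IsTypePWith M W₁ U W₂ →
    (Cfsg.IsOfTypeIII M ∨ Cfsg.IsOfTypeIV M) → (Nat.card W₂).Prime →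
      IsCyclic U ∧ Cfsg.IsElementaryAbelian (Nat.card W₂) (Cfsg.fittingHallOf M) ∧
        Nat.card (Cfsg.fittingHallOf M) = Nat.card W₂ ^ Nat.card W₁ ∧ Nat.card W₂ < Nat.card W₁

variable {G : Type u} [Group G]

/-- What is known about one side. -/
structure Facts (S W₁ U W₂ : Subgroup G) : Prop where
  maxS : IsCoatom S
  typeP : Cfsg.IsTypePWith S W₁ U W₂
  odd : Odd (Nat.card G)
  simple : IsSimpleGroup G
  U_ne : U ≠ ⊥
  U_comm : ∀ x ∈ U, ∀ y ∈ U, x * y = y * x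
  q_prime : (Nat.card W₁).Prime
  p_prime : (Nat.card W₂).Prime
  P_comm : ∀ x ∈ Cfsg.fittingHallOf S, ∀ y ∈ Cfsg.fittingHallOf S, x * y = y * x
  P_exp : ∀ x ∈ Cfsg.fittingHallOf S, x ^ Nat.card W₂ = 1
  P_card : Nat.card (Cfsg.fittingHallOf S) = Nat.card W₂ ^ Nat.card W₁
  ti_F : Cfsg.IsTISubset (Cfsg.fittingOf S : Set G)

variable [Finite G]

/-- A type II–V subgroup opposite to a type II–V one is of type II–IV, so `|W₂|` is prime. -/
theorem prime_of_types (h5 : Interface.PF12.NoTypeV G) {M W₁ U W₂ : Subgroup G} (hM : IsCoatom M)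
    (hP : Cfsg.IsTypePWith M W₁ U W₂)
    (h25 : Cfsg.IsOfTypeII M ∨ Cfsg.IsOfTypeIII M ∨ Cfsg.IsOfTypeIV M ∨ Cfsg.IsOfTypeV M) :
    (Nat.card W₁).Prime := by
  rcases h25 with h | h | h | h
  · exact (PF8.TypeP.II_facts hP h).2.1
  · exact (PF8.TypeP.III_facts hP h).2.1
  · exact (PF8.TypeP.IV_facts hP h).2.1
  · exact absurd h (h5 M hM)

/-- The types occurring in Hypothesis (13.1) and the facts for the first member. -/
theorem facts_of_pair (hG : Cfsg.IsMinSimpleOddOrder G) (h5 : Interface.PF12.NoTypeV G)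
    (h10 : Interface.PF13Needs.Step_10_11 G) (h11 : TypeThreeFacts G)
    {S T W₁ W₂ U V : Subgroup G} (hS : IsCoatom S) (hT : IsCoatom T)
    (hSP : Cfsg.IsTypePWith S W₁ U W₂) (hTP : Cfsg.IsTypePWith T W₂ V W₁)
    (hS25 : Cfsg.IsOfTypeII S ∨ Cfsg.IsOfTypeIII S ∨ Cfsg.IsOfTypeIV S ∨ Cfsg.IsOfTypeV S)
    (hT25 : Cfsg.IsOfTypeII T ∨ Cfsg.IsOfTypeIII T ∨ Cfsg.IsOfTypeIV T ∨ Cfsg.IsOfTypeV T) :
    Facts S W₁ U W₂ ∧
      (Cfsg.IsOfTypeII S ∨ (Cfsg.IsOfTypeIII S ∧ Nat.card W₂ < Nat.card W₁)) := by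
  have hp := prime_of_types h5 hT hTP hT25
  have hq := prime_of_types h5 hS hSP hS25
  have mk : U ≠ ⊥ → Cfsg.IsTISubset (Cfsg.fittingOf S : Set G) → IsMulCommutative U →
      Cfsg.IsElementaryAbelian (Nat.card W₂) (Cfsg.fittingHallOf S) →
      Nat.card (Cfsg.fittingHallOf S) = Nat.card W₂ ^ Nat.card W₁ → Facts S W₁ U W₂ := by
    intro h1 h2 h3 h4 h6
    exact
      { maxS := hS, typeP := hSP, odd := hG.1, simple := MinSimple.isSimpleGroup hG, U_ne := h1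
        U_comm := fun x hx y hy => congrArg Subtype.val (h3.is_comm.comm ⟨x, hx⟩ ⟨y, hy⟩)
        q_prime := hq, p_prime := hp
        P_comm := fun x hx y hy => congrArg Subtype.val (h4.1.is_comm.comm ⟨x, hx⟩ ⟨y, hy⟩)
        P_exp := h4.2, P_card := h6, ti_F := h2 }
  have h34 : Cfsg.IsOfTypeIII S ∨ Cfsg.IsOfTypeIV S → Facts S W₁ U W₂ ∧
      Cfsg.IsOfTypeIII S ∧ Nat.card W₂ < Nat.card W₁ := by
    intro h
    obtain ⟨hc, he, hcard, hlt⟩ := h11 S W₁ U W₂ hS hSP h hp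
    have hIII : Cfsg.IsOfTypeIII S := by
      rcases h with h | h
      · exact h
      · haveI := hc
        exact absurd (inferInstance : IsMulCommutative U) (PF8.TypeP.IV_facts hSP h).2.2.2.1
    obtain ⟨h1, -, h2, h3, -⟩ := PF8.TypeP.III_facts hSP hIII
    exact ⟨mk h1 h2 h3 he hcard, hIII, hlt⟩
  rcases hS25 with h | h | h | h
  · obtain ⟨h1, -, h2, h3, -⟩ := PF8.TypeP.II_facts hSP h
    obtain ⟨-, he, hcard⟩ := h10 S W₁ U W₂ hS hSP h
    exact ⟨mk h1 h2 h3 he hcard, Or.inl h⟩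
  · exact ⟨(h34 (Or.inl h)).1, Or.inr (h34 (Or.inl h)).2⟩
  · exact ⟨(h34 (Or.inr h)).1, Or.inr (h34 (Or.inr h)).2⟩
  · exact absurd h (h5 S hS)

namespace Facts

variable {S W₁ U W₂ : Subgroup G} (F : Facts S W₁ U W₂)
include F

theorem q_ne_two : Nat.card W₁ ≠ 2 := by
  intro h
  exact (Nat.not_even_iff_odd.2 F.odd)
    (even_iff_two_dvd.2 (h ▸ Subgroup.card_subgroup_dvd_card W₁))

theorem p_ne_two : Nat.card W₂ ≠ 2 := by
  intro h
  exact (Nat.not_even_iff_odd.2 F.odd)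
    (even_iff_two_dvd.2 (h ▸ Subgroup.card_subgroup_dvd_card W₂))

theorem W₂_le_P : W₂ ≤ Cfsg.fittingHallOf S := F.typeP.W₂_le.trans inf_le_left

theorem derived_le : ⁅S, S⁆ ≤ S := F.typeP.W₁_compl.1

theorem U_le_derived : U ≤ ⁅S, S⁆ := F.typeP.U_compl.2.1

theorem P_le_derived : Cfsg.fittingHallOf S ≤ ⁅S, S⁆ := F.typeP.U_compl.1

theorem U_le : U ≤ S := F.U_le_derived.trans F.derived_le

theorem P_le : Cfsg.fittingHallOf S ≤ S := fittingHallOf_le S

theorem W₁_le : W₁ ≤ S := F.typeP.W₁_compl.2.1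

theorem card_derived : Nat.card (Cfsg.fittingHallOf S) * Nat.card U = Nat.card ↥⁅S, S⁆ :=
  isComplIn_card F.typeP.U_compl

theorem card_S : Nat.card S = Nat.card (Cfsg.fittingHallOf S) * Nat.card U * Nat.card W₁ := by
  rw [F.card_derived, isComplIn_card F.typeP.W₁_compl]

theorem coprime_q : (Nat.card W₁).Coprime (Nat.card ↥⁅S, S⁆) := PF8.TypeP.coprime_W₁ F.typeP

theorem not_dvd_q : ¬ Nat.card W₁ ∣ Nat.card U := fun h =>
  F.q_prime.one_lt.ne' (Nat.eq_one_of_dvd_coprimes F.coprime_q dvd_rfl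
    (h.trans (Subgroup.card_dvd_of_le F.U_le_derived)))

theorem coprime_PU : (Nat.card (Cfsg.fittingHallOf S)).Coprime (Nat.card U) := by
  refine (fittingHallOf_coprime S).coprime_dvd_right ?_
  rw [← isComplIn_relIndex F.typeP.U_compl]
  exact dvd_of_mul_right_eq _ (Subgroup.relIndex_mul_relIndex _ _ _ F.P_le_derived F.derived_le)

theorem not_dvd_p : ¬ Nat.card W₂ ∣ Nat.card U := fun h =>
  F.p_prime.one_lt.ne' (Nat.eq_one_of_dvd_coprimes F.coprime_PU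
    (by rw [F.P_card]; exact dvd_pow_self _ F.q_prime.pos.ne') h)

theorem p_ne_q : Nat.card W₂ ≠ Nat.card W₁ := fun h =>
  F.q_prime.one_lt.ne' (Nat.eq_one_of_dvd_coprimes F.coprime_q dvd_rfl
    (h ▸ Subgroup.card_dvd_of_le (F.W₂_le_P.trans F.P_le_derived)))

theorem decomp {s : G} (hs : s ∈ S) :
    ∃ x ∈ Cfsg.fittingHallOf S, ∃ a ∈ U, ∃ w ∈ W₁, s = x * a * w := by
  obtain ⟨k, hk, w, hw, rfl⟩ := F.typeP.W₁_compl.2.2.2 s hs
  obtain ⟨x, hx, a, ha, rfl⟩ := F.typeP.U_compl.2.2.2 k hk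
  exact ⟨x, hx, a, ha, w, hw, rfl⟩

/-- `W₁` acts on `U` without fixed points. -/
theorem fpf {w : G} (hw : w ∈ W₁) (hw1 : w ≠ 1) {a : G} (ha : a ∈ U) (h : w * a = a * w) :
    a = 1 := by
  have h1 : a ∈ W₂ := by
    rw [← F.typeP.W₂_centralizer w hw hw1]
    exact Subgroup.mem_inf.2 ⟨F.U_le_derived ha,
      Subgroup.mem_centralizer_singleton_iff.2 h.symm⟩
  have h2 : a ∈ Cfsg.fittingHallOf S ⊓ U := Subgroup.mem_inf.2 ⟨F.W₂_le_P h1, ha⟩
  rwa [F.typeP.U_compl.2.2.1, Subgroup.mem_bot] at h2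

theorem exists_W₁ : ∃ w ∈ W₁, w ≠ 1 :=
  (Subgroup.bot_or_exists_ne_one W₁).resolve_left F.typeP.W₁_ne

theorem W₂_comm {w y : G} (hw : w ∈ W₁) (hy : y ∈ W₂) : w * y = y * w :=
  PF8.TypeP.W₂_commute F.typeP hw hy

theorem fixed_P {x : G} (hx : x ∈ Cfsg.fittingHallOf S) {w : G} (hw : w ∈ W₁) (hw1 : w ≠ 1)
    (h : w * x = x * w) : x ∈ W₂ := by
  rw [← F.typeP.W₂_centralizer w hw hw1]
  exact Subgroup.mem_inf.2 ⟨F.P_le_derived hx, Subgroup.mem_centralizer_singleton_iff.2 h.symm⟩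

theorem conj_P {s : G} (hs : s ∈ S) {x : G} (hx : x ∈ Cfsg.fittingHallOf S) :
    s * x * s⁻¹ ∈ Cfsg.fittingHallOf S :=
  (Subgroup.mem_normalizer_iff.1 (fittingHallOf_normal S hs) x).1 hx

theorem conj_U {w : G} (hw : w ∈ W₁) {a : G} (ha : a ∈ U) : w * a * w⁻¹ ∈ U :=
  (Subgroup.mem_normalizer_iff.1 (F.typeP.U_normal hw) a).1 ha

theorem UW_le : U ⊔ W₁ ≤ S := sup_le F.U_le F.W₁_le

theorem compl_UW : Cfsg.IsComplIn U W₁ (U ⊔ W₁) := by
  refine ⟨le_sup_left, le_sup_right, inf_eq_bot_of_coprime ?_, fun m hm => ?_⟩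
  · exact (F.coprime_q.coprime_dvd_right (Subgroup.card_dvd_of_le F.U_le_derived)).symm
  · have hm' : m ∈ (↑(U ⊔ W₁) : Set G) := hm
    rw [Subgroup.coe_mul_of_right_le_normalizer_left _ _ F.typeP.U_normal] at hm'
    obtain ⟨a, ha, b, hb, rfl⟩ := hm'
    exact ⟨a, ha, b, hb, rfl⟩

theorem coprime_P_UW :
    (Nat.card (Cfsg.fittingHallOf S)).Coprime (Nat.card ↥(U ⊔ W₁)) := by
  rw [← isComplIn_card F.compl_UW]
  exact F.coprime_PU.mul_right
    (F.coprime_q.coprime_dvd_right (Subgroup.card_dvd_of_le F.P_le_derived)).symm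

/-- The Frobenius count on a subgroup of `P` invariant under `U W₁`. -/
theorem frobenius_count {X : Subgroup G} (hX : X ≤ Cfsg.fittingHallOf S)
    (hn : U ⊔ W₁ ≤ Subgroup.normalizer (X : Set G)) :
    Nat.card ↥(X ⊓ Subgroup.centralizer ((U ⊔ W₁ : Subgroup G) : Set G)) ^ Nat.card W₁ *
        Nat.card X =
      Nat.card ↥(X ⊓ W₂) ^ Nat.card W₁ * Nat.card ↥(X ⊓ Subgroup.centralizer (U : Set G)) := by
  have hcop := F.coprime_P_UW.coprime_dvd_left (Subgroup.card_dvd_of_le hX)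
  have hsolv : Group.IsSolvable X :=
    Group.isSolvable_of_comm fun a b => Subtype.ext (F.P_comm a (hX a.2) b (hX b.2))
  have e : X ⊓ Subgroup.centralizer (W₁ : Set G) = X ⊓ W₂ := by
    obtain ⟨w, hw, hw1⟩ := F.exists_W₁
    refine le_antisymm (fun x hx => Subgroup.mem_inf.2 ⟨(Subgroup.mem_inf.1 hx).1,
      F.fixed_P (hX (Subgroup.mem_inf.1 hx).1) hw hw1
        (Subgroup.mem_centralizer_iff.1 (Subgroup.mem_inf.1 hx).2 w hw)⟩) ?_
    refine fun x hx => Subgroup.mem_inf.2 ⟨(Subgroup.mem_inf.1 hx).1,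
      Subgroup.mem_centralizer_iff.2 fun v hv => F.W₂_comm hv (Subgroup.mem_inf.1 hx).2⟩
  rw [← e]
  exact Cfsg.Agent.S1545.result U W₁ X F.U_ne F.typeP.W₁_ne F.compl_UW.2.2.1
    (fun w hw a ha => F.conj_U hw ha) (fun w hw hw1 a ha h => F.fpf hw hw1 ha h)
    (fun g hg x hx => (Subgroup.mem_normalizer_iff.1 (hn hg) x).1 hx)
    (inf_eq_bot_of_coprime hcop) hsolv hcop

theorem W₂_not_cent : W₂ ⊓ Subgroup.centralizer (U : Set G) = ⊥ := by
  by_contra h
  haveI : Fact (Nat.card W₂).Prime := ⟨F.p_prime⟩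
  rcases Subgroup.eq_bot_or_eq_top_of_prime_card
    ((W₂ ⊓ Subgroup.centralizer (U : Set G)).subgroupOf W₂) with h1 | h1
  · rw [Subgroup.subgroupOf_eq_bot, inf_comm W₂, disjoint_iff, inf_assoc, inf_idem] at h1
    exact h (inf_comm W₂ _ ▸ h1)
  · rw [Subgroup.subgroupOf_eq_top] at h1
    have hW : W₂ ≤ Subgroup.centralizer (U : Set G) := h1.trans inf_le_right
    have hn : U ⊔ W₁ ≤ Subgroup.normalizer (Cfsg.fittingHallOf S : Set G) :=
      F.UW_le.trans (fittingHallOf_normal S)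
    have hc := F.frobenius_count le_rfl hn
    have e1 : Cfsg.fittingHallOf S ⊓ W₂ = W₂ := inf_eq_right.2 F.W₂_le_P
    have e2 : Cfsg.fittingHallOf S ⊓ Subgroup.centralizer ((U ⊔ W₁ : Subgroup G) : Set G) = W₂ := by
      refine le_antisymm ?_ (le_inf F.W₂_le_P ?_)
      · intro x hx
        obtain ⟨w, hw, hw1⟩ := F.exists_W₁
        exact F.fixed_P (Subgroup.mem_inf.1 hx).1 hw hw1
          (Subgroup.mem_centralizer_iff.1 (Subgroup.mem_inf.1 hx).2 w
            (Subgroup.mem_sup_right hw))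
      · rw [Subgroup.le_centralizer_iff, sup_le_iff]
        exact ⟨Subgroup.le_centralizer_iff.1 hW, fun w hw => Subgroup.mem_centralizer_iff.2
          fun y hy => (F.W₂_comm hw hy).symm⟩
    rw [e1, e2] at hc
    have hall : Nat.card ↥(Cfsg.fittingHallOf S ⊓ Subgroup.centralizer (U : Set G)) =
        Nat.card (Cfsg.fittingHallOf S) :=
      (Nat.eq_of_mul_eq_mul_left (Nat.pos_of_ne_zero (pow_ne_zero _ Nat.card_pos.ne')) hc).symm
    have hle := Subgroup.eq_of_le_of_card_ge inf_le_left hall.ge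
    exact F.U_ne (TypeP.U_eq_bot_of_centralizes F.typeP
      (Subgroup.le_centralizer_iff.1 (inf_eq_left.1 hle)))

theorem cent_UW_eq_bot {X : Subgroup G} (hX : X ≤ Cfsg.fittingHallOf S) :
    X ⊓ Subgroup.centralizer ((U ⊔ W₁ : Subgroup G) : Set G) = ⊥ := by
  rw [Subgroup.eq_bot_iff_forall]
  intro x hx
  obtain ⟨w, hw, hw1⟩ := F.exists_W₁
  have hx2 : x ∈ W₂ ⊓ Subgroup.centralizer (U : Set G) := by
    refine Subgroup.mem_inf.2 ⟨F.fixed_P (hX (Subgroup.mem_inf.1 hx).1) hw hw1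
      (Subgroup.mem_centralizer_iff.1 (Subgroup.mem_inf.1 hx).2 w (Subgroup.mem_sup_right hw)),
      Subgroup.mem_centralizer_iff.2 fun a ha =>
        Subgroup.mem_centralizer_iff.1 (Subgroup.mem_inf.1 hx).2 a (Subgroup.mem_sup_left ha)⟩
  rwa [F.W₂_not_cent, Subgroup.mem_bot] at hx2

theorem cent_P_U : Cfsg.fittingHallOf S ⊓ Subgroup.centralizer (U : Set G) = ⊥ := by
  have hc := F.frobenius_count le_rfl (F.UW_le.trans (fittingHallOf_normal S))
  rw [F.cent_UW_eq_bot le_rfl, Subgroup.card_bot, one_pow, one_mul,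
    inf_eq_right.2 F.W₂_le_P, ← F.P_card] at hc
  exact Subgroup.card_eq_one.1 ((Nat.mul_eq_left Nat.card_pos.ne').1 hc.symm)

/-- `P` is a minimal subgroup invariant under `U W₁`. -/
theorem minimal {X : Subgroup G} (hX : X ≤ Cfsg.fittingHallOf S)
    (hU : U ≤ Subgroup.normalizer (X : Set G)) (hW : W₁ ≤ Subgroup.normalizer (X : Set G)) :
    X = ⊥ ∨ X = Cfsg.fittingHallOf S := by
  have hc := F.frobenius_count hX (sup_le hU hW)
  have e : X ⊓ Subgroup.centralizer (U : Set G) = ⊥ :=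
    eq_bot_iff.2 ((inf_le_inf_right _ hX).trans F.cent_P_U.le)
  rw [F.cent_UW_eq_bot hX, e, Subgroup.card_bot, one_pow, one_mul, mul_one] at hc
  haveI : Fact (Nat.card W₂).Prime := ⟨F.p_prime⟩
  rcases Subgroup.eq_bot_or_eq_top_of_prime_card ((X ⊓ W₂).subgroupOf W₂) with h1 | h1
  · rw [Subgroup.subgroupOf_eq_bot, disjoint_iff, inf_assoc, inf_idem] at h1
    rw [h1, Subgroup.card_bot, one_pow] at hc
    exact Or.inl (Subgroup.card_eq_one.1 hc)
  · rw [Subgroup.subgroupOf_eq_top] at h1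
    rw [le_antisymm inf_le_right h1, ← F.P_card] at hc
    exact Or.inr (Subgroup.eq_of_le_of_card_ge hX hc.ge)

/-- A subgroup of `P` normalised by `W₁` which is killed by `A ≤ U` invariant under `W₁`. -/
theorem le_centralizer_of_subset {A : Subgroup G} (hA : A ≤ U)
    (hAW : ∀ w ∈ W₁, ∀ a ∈ A, w * a * w⁻¹ ∈ A) {y : G} (hy : y ∈ Cfsg.fittingHallOf S)
    (hy1 : y ≠ 1) (hyA : ∀ a ∈ A, a * y = y * a) :
    A ≤ Subgroup.centralizer (Cfsg.fittingHallOf S : Set G) := by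
  have hUW : ∀ g ∈ U ⊔ W₁, ∀ a ∈ A, g * a * g⁻¹ ∈ A := by
    intro g hg a ha
    obtain ⟨b, hb, w, hw, rfl⟩ := F.compl_UW.2.2.2 g hg
    have h := hAW w hw a ha
    have e : b * w * a * (b * w)⁻¹ = b * (w * a * w⁻¹) * b⁻¹ := by group
    rw [e, F.U_comm b hb _ (hA h), mul_inv_cancel_right]
    exact h
  have hmem : ∀ g ∈ U ⊔ W₁, ∀ x ∈ Cfsg.fittingHallOf S ⊓ Subgroup.centralizer (A : Set G),
      g * x * g⁻¹ ∈ Cfsg.fittingHallOf S ⊓ Subgroup.centralizer (A : Set G) := by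
    intro g hg x hx
    refine Subgroup.mem_inf.2 ⟨F.conj_P (F.UW_le hg) (Subgroup.mem_inf.1 hx).1,
      Subgroup.mem_centralizer_iff.2 fun a ha => ?_⟩
    have h := Subgroup.mem_centralizer_iff.1 (Subgroup.mem_inf.1 hx).2 _
      (hUW g⁻¹ (inv_mem hg) a ha)
    calc a * (g * x * g⁻¹) = g * (g⁻¹ * a * g⁻¹⁻¹ * x) * g⁻¹ := by group
      _ = g * (x * (g⁻¹ * a * g⁻¹⁻¹)) * g⁻¹ := by rw [h]
      _ = g * x * g⁻¹ * a := by group
  have hn : U ⊔ W₁ ≤ Subgroup.normalizer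
      ((Cfsg.fittingHallOf S ⊓ Subgroup.centralizer (A : Set G) : Subgroup G) : Set G) :=
    fun g hg => Subgroup.mem_normalizer_fintype fun x hx => hmem g hg x hx
  rcases F.minimal inf_le_left (le_sup_left.trans hn) (le_sup_right.trans hn) with h | h
  · exfalso
    refine hy1 (Subgroup.mem_bot.1 (h ▸ Subgroup.mem_inf.2 ⟨hy, ?_⟩))
    exact Subgroup.mem_centralizer_iff.2 hyA
  · exact Subgroup.le_centralizer_iff.1 (inf_eq_left.1 h)

/-- `C_U(W₂)` centralises `P`. -/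
theorem cent_W₂ : U ⊓ Subgroup.centralizer (W₂ : Set G) ≤
    Subgroup.centralizer (Cfsg.fittingHallOf S : Set G) := by
  obtain ⟨y, hy, hy1⟩ := (Subgroup.bot_or_exists_ne_one W₂).resolve_left F.typeP.selfNormalizing.2.1
  refine F.le_centralizer_of_subset inf_le_left ?_ (F.W₂_le_P hy) hy1 fun a ha =>
    (Subgroup.mem_centralizer_iff.1 (Subgroup.mem_inf.1 ha).2 y hy).symm
  intro w hw a ha
  refine Subgroup.mem_inf.2 ⟨F.conj_U hw (Subgroup.mem_inf.1 ha).1,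
    Subgroup.mem_centralizer_iff.2 fun z hz => ?_⟩
  have h := Subgroup.mem_centralizer_iff.1 (Subgroup.mem_inf.1 ha).2 z hz
  calc z * (w * a * w⁻¹) = z * w * a * w⁻¹ := by group
    _ = w * (z * a) * w⁻¹ := by rw [← F.W₂_comm hw hz]; group
    _ = w * a * (z * w⁻¹) := by rw [h]; group
    _ = _ := by rw [← F.W₂_comm (inv_mem hw) hz]; group

end Facts

end Cfsg.Agent.Lib.OddOrder.PF13
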