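import Cfsg.Agent.Lib.OddOrder.TypeOne
import Cfsg.Agent.Lib.OddOrder.PF13.Group
import Cfsg.Agent.Lib.OddOrder.PF8.Dade
import Cfsg.Agent.Lib.Frobenius.Basic

/-!
# Peterfalvi (13.2)(c): `A₀(S)` is a TI-subset; S1543 from the interfaces
-/

set_option autoImplicit false

open scoped commutatorElement Pointwise

namespace Cfsg.Agent.Lib.OddOrder.PF13

open Cfsg.Agent.Lib.OddOrder.Basic
open Interface.PF8 (BG16)

universe u

variable {G : Type u} [Group G] [Finite G]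

theorem typeCore_of_typeI {L : Subgroup G} (h : Cfsg.Agent.Lib.OddOrder.TypeOne.IsTypeI L) :
    Cfsg.typeCore L = Cfsg.fittingHallOf L := by
  rw [Cfsg.typeCore, if_neg]
  rintro (k | k)
  · exact PF8.TypeP.not_typeI (PF8.TypeP.isOfTypeP_of (Or.inr (Or.inl k))) h
  · exact PF8.TypeP.not_typeI (PF8.TypeP.isOfTypeP_of (Or.inr (Or.inr (Or.inl k)))) h

/-- A subgroup of type P is not a Frobenius group with kernel `S_F`: `W₁` centralises `W₂`. -/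
theorem not_frobenius_fittingHall {S W₁ U W₂ : Subgroup G} (hP : Cfsg.IsTypePWith S W₁ U W₂)
    (E : Subgroup ↥S) (hE : Cfsg.IsFrobeniusComplement E)
    (hk : Cfsg.frobeniusKernel E = ((Cfsg.fittingHall ↥S : Subgroup ↥S) : Set ↥S)) : False := by
  obtain ⟨w, hw, hw1⟩ := (Subgroup.bot_or_exists_ne_one W₁).resolve_left hP.W₁_ne
  obtain ⟨y, hy, hy1⟩ :=
    (Subgroup.bot_or_exists_ne_one W₂).resolve_left hP.selfNormalizing.2.1
  obtain ⟨y', hy', rfl⟩ := (Subgroup.mem_inf.1 (hP.W₂_le hy)).1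
  have hwS : w ∈ S := hP.W₁_compl.2.1 hw
  have hwk : (⟨w, hwS⟩ : ↥S) ∉ Cfsg.frobeniusKernel E := by
    rw [hk]
    intro h
    have h1 : w ∈ Cfsg.fittingHallOf S := ⟨_, h, rfl⟩
    have h2 : w ∈ ⁅S, S⁆ ⊓ W₁ := Subgroup.mem_inf.2 ⟨hP.U_compl.1 h1, hw⟩
    rw [hP.W₁_compl.2.2.1, Subgroup.mem_bot] at h2
    exact hw1 h2
  simp only [Cfsg.frobeniusKernel, Set.mem_ofPred_eq, not_or, not_forall, not_not] at hwk
  obtain ⟨-, g, hg⟩ := hwk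
  have hc : (⟨w, hwS⟩ : ↥S) * y' = y' * ⟨w, hwS⟩ :=
    Subtype.ext (hP.selfNormalizing.2.2.2.1 w hw _ hy)
  have hy'1 : y' ≠ 1 := fun e => hy1 (by rw [e]; rfl)
  have hmem := Cfsg.Agent.Lib.Frobenius.mem_of_commute
    (Cfsg.Agent.Lib.Frobenius.conj_isFrobeniusComplement hE g) hg
    (fun e => hw1 (congrArg Subtype.val e)) hc
  have hyk : y' ∈ Cfsg.frobeniusKernel E := hk ▸ hy'
  exact (hyk.resolve_left hy'1) g hmem

/-- For `S` of type P every centraliser of an element of `A₀(S)` lies in `S`. -/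
theorem centralizer_le (hB : BG16 G) (h7 : Interface.PF12.Step_12_7 G) {S W₁ U W₂ : Subgroup G}
    (hS : IsCoatom S) (hP : Cfsg.IsTypePWith S W₁ U W₂) {x : G} (hx : x ∈ Cfsg.Agent.Lib.OddOrder.TypeOne.typeA0 S) :
    Subgroup.centralizer ({x} : Set G) ≤ S := by
  by_contra hn
  obtain ⟨-, huniq, hemb⟩ := hB.embed S hS _ (Or.inr rfl)
  obtain ⟨L, hL, hcL⟩ := (huniq x hx hn).2.exists
  obtain ⟨-, -, -, -, ⟨hxA, hxA1⟩, htype, hII⟩ := hemb x hx hn L hL hcL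
  rcases htype with hI | h
  · rw [Cfsg.Agent.Lib.OddOrder.TypeOne.typeA, if_pos hI] at hxA
    obtain ⟨hxL, hx1, y, hy, hy1, hxy⟩ := hxA
    refine hxA1 ⟨?_, hx1⟩
    rw [typeCore_of_typeI hI]
    exact h7 L hL hI y hy hy1
      (Subgroup.mem_inf.2 ⟨hxL, Subgroup.mem_centralizer_singleton_iff.2 hxy⟩)
  · obtain ⟨E, hE, hk⟩ := hII h
    exact not_frobenius_fittingHall hP E hE hk

/-- (13.2)(c). -/
theorem ti_A0 (hG : Cfsg.IsMinSimpleOddOrder G) (hB : BG16 G) (h7 : Interface.PF12.Step_12_7 G)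
    {S W₁ U W₂ : Subgroup G} (hS : IsCoatom S) (hP : Cfsg.IsTypePWith S W₁ U W₂) :
    Cfsg.IsTISubset (Cfsg.Agent.Lib.OddOrder.TypeOne.typeA0 S) ∧ Subgroup.normalizer (Cfsg.Agent.Lib.OddOrder.TypeOne.typeA0 S) = S := by
  obtain ⟨hN, hD⟩ := PF8.Dade.step_8_15 hG hB S hS _ (Or.inr (Or.inr rfl))
  refine ⟨fun g hg a ha hga => absurd ?_ hg, hN⟩
  obtain ⟨m, hm, e⟩ := hD.fusion a ha g hga
  rw [hN]
  have hc : m⁻¹ * g ∈ Subgroup.centralizer ({a} : Set G) := by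
    refine Cfsg.Agent.Lib.Isometry.TI.mem_centralizer_of_conj_eq ?_
    calc m⁻¹ * g * a * (m⁻¹ * g)⁻¹ = m⁻¹ * (g * a * g⁻¹) * m := by group
      _ = m⁻¹ * (m * a * m⁻¹) * m := by rw [e]
      _ = a := by group
  have := mul_mem hm (centralizer_le hB h7 hS hP ha hc)
  rwa [mul_inv_cancel_left] at this

/-- S1543 from the interfaces of §§8-12. -/
theorem s1543 (hG : Cfsg.IsMinSimpleOddOrder G) (hB : BG16 G) (h5 : Interface.PF12.NoTypeV G)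
    (h7 : Interface.PF12.Step_12_7 G) (h10 : Interface.PF13Needs.Step_10_11 G)
    (h11 : TypeThreeFacts G) {S T W₁ W₂ U V : Subgroup G} (hS : IsCoatom S) (hT : IsCoatom T)
    (hSP : Cfsg.IsTypePWith S W₁ U W₂) (hTP : Cfsg.IsTypePWith T W₂ V W₁)
    (hS25 : Cfsg.IsOfTypeII S ∨ Cfsg.IsOfTypeIII S ∨ Cfsg.IsOfTypeIV S ∨ Cfsg.IsOfTypeV S)
    (hT25 : Cfsg.IsOfTypeII T ∨ Cfsg.IsOfTypeIII T ∨ Cfsg.IsOfTypeIV T ∨ Cfsg.IsOfTypeV T) :
    (Cfsg.IsOfTypeII S ∨ Cfsg.IsOfTypeIII S) ∧ (Nat.card W₁ < Nat.card W₂ → Cfsg.IsOfTypeII S) ∧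
      Cfsg.IsElementaryAbelian (Nat.card W₂) (Cfsg.fittingHallOf S) ∧
      Nat.card (Cfsg.fittingHallOf S) = Nat.card W₂ ^ Nat.card W₁ ∧
      Cfsg.IsTISubset (Cfsg.Agent.Lib.OddOrder.TypeOne.typeA0 S) ∧ Subgroup.normalizer (Cfsg.Agent.Lib.OddOrder.TypeOne.typeA0 S) = S := by
  obtain ⟨F, htype⟩ := facts_of_pair hG h5 h10 h11 hS hT hSP hTP hS25 hT25
  refine ⟨htype.imp_right And.left, fun hlt => htype.resolve_right fun h => (lt_asymm hlt) h.2,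
    ?_, F.P_card, ti_A0 hG hB h7 hS hSP⟩
  exact ⟨⟨⟨fun a b => Subtype.ext (F.P_comm a a.2 b b.2)⟩⟩, F.P_exp⟩

end Cfsg.Agent.Lib.OddOrder.PF13
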