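import Mathlib
import Cfsg.Agent.Lib.GaloisMean.AbelianForm
import Cfsg.Agent.Lib.Induced.Basic
import Cfsg.Agent.Lib.Induced.Generalized
import Cfsg.Agent.Lib.Induced.Character

/-!
# Peterfalvi 13: class functions restricted to an abelian subgroup

`restrict_formula`: if a family `X θ`, indexed by the characters `θ` of the abelian subgroup `H`
that are non-trivial on `P`, satisfies `Ind θ - Ind θ' = X θ - X θ'`, then a generalized character
`χ` is, away from `1`, the combination `∑ ⟨χ, X θ⟩ θ` plus a character combination trivial on `P`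
(Peterfalvi 13.5).
-/

set_option autoImplicit false
set_option linter.unusedSectionVars false

namespace Cfsg.Agent.Lib.OddOrder.PF13

open scoped ComplexConjugate
open Cfsg.Agent.Lib.GaloisMean.AbelianForm Cfsg.Agent.Lib.Induced.Basic

universe u

section Abelian

variable {H : Type u} [CommGroup H] [Finite H] [Fintype H]

/-- The coefficients of a combination of linear characters. -/
theorem coeff_combo (b : Dual H → ℂ) (a : Dual H) :
    coeff (fun h => ∑ c : Dual H, b c * ((c h : ℂˣ) : ℂ)) a = b a := by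
  classical
  have hne : (Nat.card H : ℂ) ≠ 0 := Nat.cast_ne_zero.mpr Nat.card_pos.ne'
  have h1 : ∀ c : Dual H, ∑ h : H, ((c h : ℂˣ) : ℂ) * conj ((a h : ℂˣ) : ℂ) =
      if c = a then (Nat.card H : ℂ) else 0 := by
    intro c
    split_ifs with hca
    · subst hca
      rw [Finset.sum_congr rfl fun h _ => by rw [conj_dual, MonoidHom.inv_apply, ← Units.val_mul,
        mul_inv_cancel, Units.val_one], Finset.sum_const, Finset.card_univ, Nat.card_eq_fintype_card,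
        nsmul_one]
    · obtain ⟨y, hy⟩ : ∃ y, (c * a⁻¹) y ≠ 1 := by
        by_contra hh; push Not at hh
        exact hca (MonoidHom.ext fun h => mul_inv_eq_one.mp (hh h))
      have h2 : ∀ h : H, ((c h : ℂˣ) : ℂ) * conj ((a h : ℂˣ) : ℂ) = (((c * a⁻¹) h : ℂˣ) : ℂ) :=
        fun h => by rw [conj_dual]; simp
      simp only [h2]
      have h3 : ∑ h : H, (((c * a⁻¹) h : ℂˣ) : ℂ) =
          (((c * a⁻¹) y : ℂˣ) : ℂ) * ∑ h : H, (((c * a⁻¹) h : ℂˣ) : ℂ) := by
        rw [Finset.mul_sum]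
        exact (Fintype.sum_equiv (Equiv.mulLeft y) _ _ fun h => by simp; ring).symm
      by_contra hne'
      exact hy (Units.ext (mul_right_cancel₀ hne' (h3.symm.trans (one_mul _).symm)))
  simp only [coeff, Finset.sum_mul, mul_assoc]
  rw [Finset.sum_comm]
  simp only [← Finset.mul_sum, h1, mul_ite, mul_zero, Finset.sum_ite_eq', Finset.mem_univ, if_true]
  field_simp

/-- Fourier inversion. -/
theorem sum_coeff_mul (f : H → ℂ) (h : H) :
    ∑ a : Dual H, coeff f a * ((a h : ℂˣ) : ℂ) = f h := by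
  classical
  have hne : (Nat.card H : ℂ) ≠ 0 := Nat.cast_ne_zero.mpr Nat.card_pos.ne'
  simp only [coeff, mul_assoc, Finset.sum_mul, ← Finset.mul_sum]
  rw [Finset.sum_comm]
  have h1 : ∀ (x : H) (a : Dual H), f x * (conj ((a x : ℂˣ) : ℂ) * ((a h : ℂˣ) : ℂ)) =
      f x * ((a (x⁻¹ * h) : ℂˣ) : ℂ) := fun x a => by rw [conj_dual]; simp
  simp only [h1, ← Finset.mul_sum, sum_dual, inv_mul_eq_one, mul_ite, mul_zero, Finset.sum_ite_eq',
    Finset.mem_univ, if_true]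
  field_simp

/-- Parseval for a combination of linear characters. -/
theorem sum_normSq_combo (b : Dual H → ℂ) :
    ∑ h : H, Complex.normSq (∑ c : Dual H, b c * ((c h : ℂˣ) : ℂ)) =
      (Nat.card H : ℝ) * ∑ c : Dual H, Complex.normSq (b c) := by
  classical
  have h := parseval (fun h => ∑ c : Dual H, b c * ((c h : ℂˣ) : ℂ))
  simp only [coeff_combo] at h
  rw [h, ← mul_assoc, mul_inv_cancel₀ (Nat.cast_ne_zero.mpr Nat.card_pos.ne'), one_mul]

end Abelian

variable {G : Type u} [Group G] [Fintype G]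

/-- The shape of the restriction of a generalized character to `H`. -/
theorem restrict_formula {P H : Subgroup G} (hPH : P ≤ H) [Fintype H]
    [iD : Fintype (↥H →* ℂˣ)] [DecidableEq ↥H] (hH : ∀ x ∈ H, ∀ y ∈ H, x * y = y * x)
    (mv : (↥H →* ℂˣ) → Prop) [DecidablePred mv]
    (hmv : ∀ θ, ¬ mv θ → ∀ x : ↥H, (x : G) ∈ P → θ x = 1)
    {X : (↥H →* ℂˣ) → G → ℂ}
    (hX : ∀ θ θ', mv θ → mv θ' →
      Cfsg.indFun H (fun x => (θ x : ℂ)) - Cfsg.indFun H (fun x => (θ' x : ℂ)) = X θ - X θ')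
    {χ : G → ℂ} (hχ : Cfsg.IsGeneralizedCharacter G χ) (Ψ : (↥H →* ℂˣ) → ℤ)
    (hΨ : ∀ θ, mv θ → Cfsg.classInner χ (X θ) = Ψ θ) (hΨ0 : ∀ θ, ¬ mv θ → Ψ θ = 0) :
    ∃ A B : ℤ, A ^ 2 ≤ (Finset.univ.filter fun θ => ¬ mv θ).card * B ∧ |A| ≤ B ∧
      (∀ x : ↥H, x ≠ 1 → (x : G) ∈ P →
        χ (x : G) = (∑ θ : ↥H →* ℂˣ, (Ψ θ : ℂ) * (θ x : ℂ)) + A) ∧
      ∑ x ∈ (Finset.univ : Finset ↥H).erase 1, Complex.normSq (χ (x : G)) =
        (((Nat.card H : ℤ) * ((∑ θ : ↥H →* ℂˣ, Ψ θ ^ 2) + B) -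
          ((∑ θ : ↥H →* ℂˣ, Ψ θ) + A) ^ 2 : ℤ) : ℝ) := by
  classical
  letI : CommGroup ↥H :=
    { (inferInstance : Group ↥H) with mul_comm := fun a b => Subtype.ext (hH a a.2 b b.2) }
  obtain rfl : iD = dualFintype (H := ↥H) := Subsingleton.elim _ _
  let f : ↥H → ℂ := fun x => χ (x : G)
  have hgf : Cfsg.IsGeneralizedCharacter ↥H f := Induced.Generalized.isGen_comp H.subtype hχ
  have hcl := Induced.Generalized.isClassFunction_of_isGen hχ
  have hint : ∀ θ : Dual ↥H, ∃ b : ℤ, coeff f θ = b := fun θ =>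
    Induced.Generalized.exists_classInner_int hgf (Induced.Generalized.of_isCharacter
      (Induced.Character.isCharacter_hom θ))
  choose b hb using hint
  have hfrob : ∀ θ : Dual ↥H, Cfsg.classInner χ (Cfsg.indFun H fun x => (θ x : ℂ)) = b θ := fun θ => by
    rw [frobenius_reciprocity' H _ hcl, ← hb θ]; rfl
  have hbΨ : ∀ θ θ', mv θ → mv θ' → b θ - Ψ θ = b θ' - Ψ θ' := by
    intro θ θ' h h'
    have h1 := congrArg (Cfsg.classInner χ) (hX θ θ' h h')
    rw [classInner_sub_right, classInner_sub_right, hfrob, hfrob, hΨ θ h, hΨ θ' h'] at h1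
    have h2 : b θ - b θ' = Ψ θ - Ψ θ' := by exact_mod_cast h1
    linarith
  obtain ⟨t, ht⟩ : ∃ t : ℤ, ∀ θ, mv θ → b θ = Ψ θ + t := by
    by_cases h : ∃ θ₀, mv θ₀
    · obtain ⟨θ₀, h0⟩ := h
      exact ⟨b θ₀ - Ψ θ₀, fun θ hθ => by have := hbΨ θ θ₀ hθ h0; linarith⟩
    · exact ⟨0, fun θ hθ => absurd ⟨θ, hθ⟩ h⟩
  let β : Dual ↥H → ℤ := fun θ => if mv θ then 0 else b θ - t
  let S₀ : Finset (Dual ↥H) := Finset.univ.filter fun θ => ¬ mv θ
  have hβsum : ∀ g : Dual ↥H → ℤ, (∀ θ, mv θ → g θ = 0) →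
      ∑ θ : Dual ↥H, g θ = ∑ θ ∈ S₀, g θ := fun g hg =>
    (Finset.sum_subset (Finset.filter_subset _ _) fun θ _ h => hg θ (by simpa [S₀] using h)).symm
  refine ⟨∑ θ : Dual ↥H, β θ, ∑ θ : Dual ↥H, β θ ^ 2, ?_, ?_, ?_, ?_⟩
  · rw [hβsum β fun θ h => if_pos h, hβsum (fun θ => β θ ^ 2) fun θ h => by simp [β, h]]
    exact sq_sum_le_card_mul_sum_sq
  · exact (Finset.abs_sum_le_sum_abs _ _).trans (Finset.sum_le_sum fun θ _ => by
      rw [← sq_abs (β θ)]; exact Int.le_self_sq _)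
  all_goals
    have hkey : ∀ x : ↥H, x ≠ 1 → χ (x : G) =
        ∑ θ : Dual ↥H, ((Ψ θ : ℂ) + (β θ : ℂ)) * (θ x : ℂ) := by
      intro x hx
      have h1 : χ (x : G) = ∑ θ : Dual ↥H, (b θ : ℂ) * (θ x : ℂ) :=
        (sum_coeff_mul f x).symm.trans (Finset.sum_congr rfl fun θ _ => by rw [hb θ])
      have h2 : ∀ θ : Dual ↥H, (b θ : ℂ) = (Ψ θ : ℂ) + (β θ : ℂ) + (t : ℂ) := fun θ => by
        by_cases h : mv θ
        · simp [β, h, ht θ h]
        · simp [β, h, hΨ0 θ h]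
      rw [h1, Finset.sum_congr rfl fun θ _ => show (b θ : ℂ) * (θ x : ℂ) =
          ((Ψ θ : ℂ) + (β θ : ℂ)) * (θ x : ℂ) + (t : ℂ) * (θ x : ℂ) by rw [h2]; ring,
        Finset.sum_add_distrib, ← Finset.mul_sum, sum_dual, if_neg hx, mul_zero, add_zero]
  · intro x hx hxP
    rw [hkey x hx, Int.cast_sum, ← Finset.sum_add_distrib]
    refine Finset.sum_congr rfl fun θ _ => ?_
    by_cases h : mv θ
    · simp [β, h]
    · rw [hmv θ h x hxP]; simp
  · have h3 := sum_normSq_combo (fun θ : Dual ↥H => (Ψ θ : ℂ) + (β θ : ℂ))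
    rw [← Finset.sum_erase_add _ _ (Finset.mem_univ (1 : ↥H))] at h3
    rw [Finset.sum_congr rfl fun x hx => by rw [hkey x (Finset.ne_of_mem_erase hx)]]
    have h4 : ∑ θ : Dual ↥H, Complex.normSq ((Ψ θ : ℂ) + (β θ : ℂ)) =
        (((∑ θ : Dual ↥H, Ψ θ ^ 2) + ∑ θ : Dual ↥H, β θ ^ 2 : ℤ) : ℝ) := by
      push_cast
      rw [← Finset.sum_add_distrib]
      refine Finset.sum_congr rfl fun θ _ => ?_
      by_cases h : mv θ
      · simp [β, h, Complex.normSq_apply, sq]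
      · simp [β, h, hΨ0 θ h, Complex.normSq_apply, sq]
    have h5 : Complex.normSq (∑ θ : Dual ↥H, ((Ψ θ : ℂ) + (β θ : ℂ)) * (θ (1 : ↥H) : ℂ)) =
        (((( ∑ θ : Dual ↥H, Ψ θ) + ∑ θ : Dual ↥H, β θ) ^ 2 : ℤ) : ℝ) := by
      simp only [map_one, Units.val_one, mul_one]
      rw [← Finset.sum_add_distrib]
      simp only [← Int.cast_add, ← Int.cast_sum]
      rw [← Complex.ofReal_intCast, Complex.normSq_ofReal]
      push_cast
      ring
    rw [h4, h5] at h3
    push_cast at h3 ⊢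
    linarith

end Cfsg.Agent.Lib.OddOrder.PF13
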