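import Mathlib
import Cfsg.Agent.Lib.OddOrder.PF13.Fourier
import Cfsg.Agent.Lib.Isometry.TI
import Cfsg.Agent.Lib.Isometry.Dade
import Cfsg.Agent.Lib.Isometry.Inner
import Cfsg.Agent.Lib.Blocks.LocalRing

/-!
# Peterfalvi 13: congruences, the Galois mean and sums over conjugates of a TI-subgroup
-/

set_option autoImplicit false
set_option linter.unusedSectionVars false

namespace Cfsg.Agent.Lib.OddOrder.PF13

open scoped ComplexConjugate
open Cfsg.Agent.Lib.BC78.Galois Cfsg.Agent.Lib.Characters.Basic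

universe u

variable {G : Type u} [Group G] [Fintype G]

/-- `a` and `b` differ by a member of `M`. -/
def ModEq (M : Ideal Cfsg.AlgInt) (a b : ℂ) : Prop := ∃ z ∈ M, a - b = (z : ℂ)

theorem ModEq.trans {M : Ideal Cfsg.AlgInt} {a b c : ℂ} (h : ModEq M a b) (h' : ModEq M b c) :
    ModEq M a c := by
  obtain ⟨z, hz, hz'⟩ := h
  obtain ⟨w, hw, hw'⟩ := h'
  exact ⟨z + w, M.add_mem hz hw, by push_cast; rw [← hz', ← hw']; ring⟩

theorem ModEq.symm {M : Ideal Cfsg.AlgInt} {a b : ℂ} (h : ModEq M a b) : ModEq M b a := by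
  obtain ⟨z, hz, hz'⟩ := h
  exact ⟨-z, M.neg_mem hz, by push_cast; rw [← hz']; ring⟩

theorem dvd_of_modEq {M : Ideal Cfsg.AlgInt} {q : ℕ} (hM : Cfsg.IsPModular q M) {a b : ℤ}
    (h : ModEq M (a : ℂ) (b : ℂ)) : (q : ℤ) ∣ a - b := by
  obtain ⟨z, hz, hz'⟩ := h
  have hz2 : z = ((a - b : ℤ) : Cfsg.AlgInt) := Subtype.ext (by rw [← hz']; simp)
  rw [hz2] at hz
  haveI := hM.2.1
  haveI := Blocks.charP_residue hM
  rwa [← Ideal.Quotient.eq_zero_iff_mem, map_intCast, CharP.intCast_eq_zero_iff _ q] at hz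

/-- An element `y` with `y ^ q = 1` does not matter modulo a prime over `q`. -/
theorem modEq_mul {M : Ideal Cfsg.AlgInt} {q : ℕ} (hM : Cfsg.IsPModular q M) {χ : G → ℂ}
    (hχ : Cfsg.IsGeneralizedCharacter G χ) {x y : G} (hxy : x * y = y * x) (hy : y ^ q = 1) :
    ModEq M (χ (x * y)) (χ x) := by
  classical
  haveI := hM.2.1
  haveI : Fact q.Prime := ⟨hM.1⟩
  let E : Subgroup G := Subgroup.closure {x, y}
  letI : CommGroup E := { (inferInstance : Group E) with
    mul_comm := by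
      intro a b
      refine Subtype.ext ?_
      have hsub : E ≤ Subgroup.centralizer ({x, y} : Set G) := by
        refine (Subgroup.closure_le _).2 ?_
        rintro g hg
        refine Subgroup.mem_centralizer_iff.2 fun k hk => ?_
        rcases hg with rfl | rfl <;> rcases hk with rfl | rfl <;> first | rfl | exact hxy | exact hxy.symm
      have hsub2 : E ≤ Subgroup.centralizer (E : Set G) := by
        refine (Subgroup.closure_le _).2 fun g hg => Subgroup.mem_centralizer_iff.2 fun k hk => ?_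
        exact (Subgroup.mem_centralizer_iff.1 (hsub hk) g hg).symm
      exact (Subgroup.mem_centralizer_iff.1 (hsub2 b.2) _ a.2) }
  have hx : x ∈ E := Subgroup.subset_closure (Or.inl rfl)
  have hyE : y ∈ E := Subgroup.subset_closure (Or.inr rfl)
  have hgf : Cfsg.IsGeneralizedCharacter E fun e : E => χ (e : G) :=
    Induced.Generalized.isGen_comp E.subtype hχ
  have hint : ∀ θ : GaloisMean.AbelianForm.Dual E, ∃ b : ℤ,
      GaloisMean.AbelianForm.coeff (fun e : E => χ (e : G)) θ = b := fun θ =>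
    Induced.Generalized.exists_classInner_int hgf (Induced.Generalized.of_isCharacter
      (Induced.Character.isCharacter_hom θ))
  choose b hb using hint
  have hval : ∀ e : E, χ (e : G) = ∑ θ : GaloisMean.AbelianForm.Dual E, (b θ : ℂ) * (θ e : ℂ) :=
    fun e => (sum_coeff_mul (fun e : E => χ (e : G)) e).symm.trans
      (Finset.sum_congr rfl fun θ _ => by rw [hb θ])
  have hterm : ∀ θ : GaloisMean.AbelianForm.Dual E, ∃ z ∈ M,
      (θ (⟨x, hx⟩ * ⟨y, hyE⟩ : E) : ℂ) - (θ (⟨x, hx⟩ : E) : ℂ) = (z : ℂ) := by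
    intro θ
    have hfin : ∀ e : E, IsIntegral ℤ ((θ e : ℂˣ) : ℂ) := fun e =>
      isIntegral_apply (Induced.Character.isCharacter_hom θ) e
    let t : Cfsg.AlgInt := ⟨_, hfin ⟨y, hyE⟩⟩
    let s : Cfsg.AlgInt := ⟨_, hfin ⟨x, hx⟩⟩
    have ht : t ^ q = 1 := Subtype.ext (by
      show ((θ ⟨y, hyE⟩ : ℂˣ) : ℂ) ^ q = 1
      rw [← Units.val_pow_eq_pow_val, ← map_pow, show (⟨y, hyE⟩ : E) ^ q = 1 from Subtype.ext hy,
        map_one, Units.val_one])
    have htM : t - 1 ∈ M := by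
      rw [← Ideal.Quotient.eq_zero_iff_mem, map_sub, map_one, sub_eq_zero]
      haveI := Blocks.charP_residue hM
      have h1 : (Ideal.Quotient.mk M t - 1) ^ q = 0 := by
        rw [sub_pow_char, one_pow, ← map_pow, ht, map_one, sub_self]
      exact sub_eq_zero.1 (eq_zero_of_pow_eq_zero h1)
    refine ⟨s * (t - 1), M.mul_mem_left _ htM, ?_⟩
    rw [map_mul, Units.val_mul]
    simp [s, t, mul_sub]
  choose z hzM hz using hterm
  refine ⟨∑ θ : GaloisMean.AbelianForm.Dual E, (b θ : Cfsg.AlgInt) * z θ,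
    M.sum_mem fun θ _ => M.mul_mem_left _ (hzM θ), ?_⟩
  have h1 := hval (⟨x, hx⟩ * ⟨y, hyE⟩)
  have h2 := hval ⟨x, hx⟩
  simp only [Subgroup.coe_mul] at h1
  rw [h1, h2, ← Finset.sum_sub_distrib]
  push_cast
  exact Finset.sum_congr rfl fun θ _ => by rw [← hz θ]; ring

/-- A generalized character has mean square at least one on the non-zero part of a set closed
under coprime powers. -/
theorem card_le_sum_normSq {χ : G → ℂ} (hχ : Cfsg.IsGeneralizedCharacter G χ) (Z : Finset G)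
    (hZ : ∀ g ∈ Z, ∀ k : ℕ, k.Coprime (Nat.card G) → g ^ k ∈ Z) :
    ((Z.filter fun g => χ g ≠ 0).card : ℝ) ≤ ∑ g ∈ Z, Complex.normSq (χ g) := by
  classical
  obtain ⟨a, b, ha, hb, rfl⟩ := hχ
  have hconj : Cfsg.IsGeneralizedCharacter G fun g => (a - b) g * conj ((a - b) g) := by
    refine Induced.Generalized.isGen_mul ⟨a, b, ha, hb, rfl⟩
      ⟨fun g => conj (a g), fun g => conj (b g), isCharacter_conj ha, isCharacter_conj hb, ?_⟩
    funext g; simp
  obtain ⟨c, d, hc, hd, hcd⟩ := hconj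
  have hsq : ∀ g, (Complex.normSq ((a - b) g) : ℂ) = c g - d g := fun g => by
    rw [← Complex.mul_conj]; exact congrFun hcd g
  have hint : ∀ g, IsIntegral ℤ (Complex.normSq ((a - b) g) : ℂ) := fun g => by
    rw [hsq g]; exact (isIntegral_apply hc g).sub (isIntegral_apply hd g)
  let Z' := Z.filter fun g => (a - b) g ≠ 0
  have hpos : ∀ g : {g // g ∈ Z'}, 0 < Complex.normSq ((a - b) g) := fun g =>
    Complex.normSq_pos.2 (Finset.mem_filter.1 g.2).2
  have hσk : ∀ σ : Alg ≃ₐ[ℚ] Alg, ∃ k : ℕ, k.Coprime (Nat.card G) ∧ ∀ g : G,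
      ((σ ⟨(Complex.normSq ((a - b) g) : ℂ), mem_alg_of_isIntegral (hint g)⟩ : Alg) : ℂ) =
        (Complex.normSq ((a - b) (g ^ k)) : ℂ) := by
    intro σ
    obtain ⟨k, hk, hσ⟩ := exists_exponent_char (G := G) σ
    refine ⟨k, hk, fun g => ?_⟩
    have m1 := mem_alg_of_isIntegral (isIntegral_apply hc g)
    have m2 := mem_alg_of_isIntegral (isIntegral_apply hd g)
    have : (⟨(Complex.normSq ((a - b) g) : ℂ), mem_alg_of_isIntegral (hint g)⟩ : Alg) =
        ⟨c g, m1⟩ - ⟨d g, m2⟩ := Subtype.ext (by simpa using hsq g)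
    rw [this, map_sub, hsq]
    push_cast
    rw [hσ c hc g m1, hσ d hd g m2]
  have h := GaloisMean.Basic.card_le_sum (fun g : {g // g ∈ Z'} => Complex.normSq ((a - b) g))
    (fun g => hint g) hpos (by
    intro σ
    obtain ⟨k, hk, hσ⟩ := hσk σ
    have hmem : ∀ g : {g // g ∈ Z'}, (g : G) ^ k ∈ Z' := fun g => by
      refine Finset.mem_filter.2 ⟨hZ g (Finset.mem_filter.1 g.2).1 k hk, fun h0 => ?_⟩
      have h1 := hσ (g : G)
      rw [h0, map_zero, Complex.ofReal_zero, ZeroMemClass.coe_eq_zero, map_eq_zero,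
        Subtype.ext_iff, ZeroMemClass.coe_zero] at h1
      exact (hpos g).ne' (Complex.ofReal_eq_zero.1 h1)
    let e : {g // g ∈ Z'} → {g // g ∈ Z'} := fun g => ⟨(g : G) ^ k, hmem g⟩
    have he : Function.Injective e := fun x y hxy => Subtype.ext
      ((powCoprime (G := G) hk.symm).injective (congrArg Subtype.val hxy))
    exact ⟨Equiv.ofBijective e (Finite.injective_iff_bijective.mp he), fun g => hσ g⟩)
  rw [Fintype.card_coe, Finset.sum_coe_sort Z' fun g => Complex.normSq ((a - b) g)] at h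
  exact h.trans (Finset.sum_le_sum_of_subset_of_nonneg (Finset.filter_subset _ _)
    fun g _ _ => Complex.normSq_nonneg _)

/-- The non-identity elements of `H` and their conjugates. -/
noncomputable def conjSet (H : Subgroup G) : Finset G := by
  classical exact Finset.univ.filter fun g => g ≠ 1 ∧ ∃ x : G, x * g * x⁻¹ ∈ H

theorem mem_conjSet {H : Subgroup G} {g : G} :
    g ∈ conjSet H ↔ g ≠ 1 ∧ ∃ x : G, x * g * x⁻¹ ∈ H := by
  classical
  simp [conjSet]

/-- The sum over the conjugates of a TI-subgroup. -/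
theorem sum_conjSet {H L : Subgroup G} [Fintype H] [DecidableEq H] (hHL : H ≤ L)
    (hnorm : ∀ l ∈ L, ∀ x ∈ H, l * x * l⁻¹ ∈ H)
    (hTI : ∀ g : G, ∀ x ∈ H, x ≠ 1 → g * x * g⁻¹ ∈ H → g ∈ L) (F : G → ℝ)
    (hF : ∀ g y : G, F (y * g * y⁻¹) = F g) :
    (Nat.card L : ℝ) * ∑ g ∈ conjSet H, F g =
      (Fintype.card G : ℝ) * ∑ x ∈ (Finset.univ : Finset H).erase 1, F (x : G) := by
  classical
  let A : Set G := (H : Set G) \ {1}
  have hD : Cfsg.DadeHypothesis A L (fun _ => ⊥) := {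
    one_not_mem := fun h => h.2 rfl
    subset := fun a ha => hHL ha.1
    conj_mem := fun l hl a ha => ⟨hnorm l hl a ha.1, fun h => ha.2 (conj_eq_one_iff.1 h)⟩
    fusion := fun a ha g hg => ⟨g, hTI g a ha.1 ha.2 hg.1, rfl⟩
    le_centralizer := fun _ _ => bot_le
    conj_mem_H := fun a _ c _ u hu => by simp only [Subgroup.mem_bot] at hu ⊢; simp [hu]
    inf_eq_bot := fun _ _ => bot_inf_eq _
    sup_eq := fun a ha => by
      rw [bot_sup_eq]
      exact inf_eq_right.2 fun c hc => hTI c a ha.1 ha.2 (by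
        rw [Subgroup.mem_centralizer_singleton_iff.1 hc, mul_inv_cancel_right]; exact ha.1)
    coprime := fun a _ b _ => by simp }
  have h := Cfsg.Agent.Lib.Isometry.Dade.sum_support hD F hF
  have e1 : (Finset.univ.filter fun g => g ∈ Cfsg.Agent.Lib.Isometry.Dade.support A fun _ => ⊥) =
      conjSet H := by
    ext g
    simp only [Finset.mem_filter, Finset.mem_univ, true_and, mem_conjSet,
      Cfsg.Agent.Lib.Isometry.Dade.support, Set.mem_setOf_eq, Subgroup.mem_bot, exists_eq_left,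
      mul_one]
    constructor
    · rintro ⟨a, ⟨ha, ha1⟩, x, hx⟩
      exact ⟨fun h => ha1 (by rw [← hx, h]; simp), x, hx ▸ ha⟩
    · rintro ⟨hg, x, hx⟩
      exact ⟨_, ⟨hx, fun h => hg (conj_eq_one_iff.1 h)⟩, x, rfl⟩
  rw [e1] at h
  rw [h]
  congr 1
  refine Eq.symm (Finset.sum_bij (fun (x : H) _ => (x : G)) ?_ ?_ ?_ ?_)
  · intro x hx
    simp only [Finset.mem_erase] at hx
    simp [A, hx.1]
  · intro x _ y _ h; exact Subtype.ext h
  · intro a ha
    simp only [Finset.mem_filter, Finset.mem_univ, true_and, A, Set.mem_diff, SetLike.mem_coe,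
      Set.mem_singleton_iff] at ha
    exact ⟨⟨a, ha.1⟩, by simp [ha.2], rfl⟩
  · intro x _
    have : (Finset.univ.filter fun u : G => u ∈ (⊥ : Subgroup G)) = {1} := by
      ext; simp
    rw [this]
    simp

theorem card_conjSet {H L : Subgroup G} [Fintype H] [DecidableEq H] (hHL : H ≤ L)
    (hnorm : ∀ l ∈ L, ∀ x ∈ H, l * x * l⁻¹ ∈ H)
    (hTI : ∀ g : G, ∀ x ∈ H, x ≠ 1 → g * x * g⁻¹ ∈ H → g ∈ L) :
    (Nat.card L : ℝ) * (conjSet H).card =
      (Fintype.card G : ℝ) * ((Nat.card H : ℝ) - 1) := by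
  have h := sum_conjSet hHL hnorm hTI (fun _ => (1 : ℝ)) fun _ _ => rfl
  simp only [Finset.sum_const, nsmul_one] at h
  rw [h, Finset.card_erase_of_mem (Finset.mem_univ _), Finset.card_univ, Nat.card_eq_fintype_card,
    Nat.cast_sub Fintype.card_pos, Nat.cast_one]

end Cfsg.Agent.Lib.OddOrder.PF13
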