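import Mathlib
import Cfsg.Agent.Lib.OddOrder.Interface.PF13

/-!
# Peterfalvi 13: the characters of `H = P C` under conjugation by `S`

Everything here follows from the `Side` facts alone: the `W₁`-fixed characters, their stabilizers
(`C W₁`), the number `p - 1` of them, and the free characters when `C ≠ 1`.
-/

set_option autoImplicit false
set_option linter.unusedSectionVars false

namespace Cfsg.Agent.Lib.OddOrder.PF13

universe u

variable {G : Type u} [Group G] [Finite G] {p q : ℕ} {S P C U W₁ W₂ : Subgroup G}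

theorem ConjTo.trans {H : Subgroup G} {s t : G} {θ θ' θ'' : ↥H →* ℂˣ}
    (ht : ∀ x ∈ H, t * x * t⁻¹ ∈ H) (h : ConjTo s θ θ') (h' : ConjTo t θ' θ'') :
    ConjTo (s * t) θ θ'' := by
  intro x y hy
  rw [← h' x ⟨_, ht x x.2⟩ rfl]
  exact h ⟨_, ht x x.2⟩ y (by rw [hy]; group)

theorem ConjTo.symm' {H : Subgroup G} {s : G} {θ θ' : ↥H →* ℂˣ} (h : ConjTo s θ θ') :
    ConjTo s⁻¹ θ' θ := by
  intro x y hy
  exact (h y x (by rw [hy]; group)).symm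

namespace Side

variable (h : Side p q S P C U W₁ W₂)
include h

theorem C_le_U : C ≤ U := h.C_eq ▸ inf_le_left

theorem C_comm_P {c : G} (hc : c ∈ C) {x : G} (hx : x ∈ P) : x * c = c * x :=
  h.H_comm x (Subgroup.mem_sup_left hx) c (Subgroup.mem_sup_right hc)

theorem H_le : P ⊔ C ≤ S := sup_le h.P_le (h.C_le_U.trans h.U_le)

theorem conj_H {s : G} (hs : s ∈ S) {x : G} (hx : x ∈ P ⊔ C) : s * x * s⁻¹ ∈ P ⊔ C :=
  ((Subgroup.mem_set_normalizer_iff.1 (h.S_normalizes_H hs)) x).1 hx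

theorem conj_P {s : G} (hs : s ∈ S) {x : G} (hx : x ∈ P) : s * x * s⁻¹ ∈ P :=
  ((Subgroup.mem_set_normalizer_iff.1 (h.S_normalizes_P hs)) x).1 hx

theorem conj_U {w : G} (hw : w ∈ W₁) {a : G} (ha : a ∈ U) : w * a * w⁻¹ ∈ U :=
  ((Subgroup.mem_set_normalizer_iff.1 (h.W₁_normalizes_U hw)) a).1 ha

theorem conj_C {w : G} (hw : w ∈ W₁) {a : G} (ha : a ∈ C) : w * a * w⁻¹ ∈ C := by
  rw [h.C_eq] at ha ⊢
  refine ⟨h.conj_U hw ha.1, Subgroup.mem_centralizer_iff.2 fun x hx => ?_⟩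
  have hx' : w⁻¹ * x * w⁻¹⁻¹ ∈ P := h.conj_P (S.inv_mem (h.W₁_le hw)) hx
  rw [inv_inv] at hx'
  have := congrArg (fun z => w * z * w⁻¹) (Subgroup.mem_centralizer_iff.1 ha.2 _ hx')
  simpa [mul_assoc] using this

theorem P_inf_U : P ⊓ U = ⊥ := by
  refine Subgroup.inf_eq_bot_of_coprime ?_
  rw [h.card_P]
  exact (h.p_prime.coprime_iff_not_dvd.2 h.not_dvd_p).pow_left q

theorem mem_H {x : G} (hx : x ∈ P ⊔ C) : ∃ a ∈ P, ∃ c ∈ C, a * c = x := by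
  have hle : C ≤ Subgroup.normalizer (P : Set G) :=
    (h.C_le_U.trans h.U_le).trans h.S_normalizes_P
  have hx' : x ∈ ((P ⊔ C : Subgroup G) : Set G) := hx
  rw [Subgroup.coe_mul_of_right_le_normalizer_left _ _ hle] at hx'
  obtain ⟨a, ha, c, hc, rfl⟩ := hx'
  exact ⟨a, ha, c, hc, rfl⟩

theorem card_H : Nat.card (P ⊔ C : Subgroup G) = p ^ q * Nat.card C := by
  rw [← h.card_P, ← Nat.card_prod]
  refine (Nat.card_eq_of_bijective (fun z : P × C =>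
    (⟨(z.1 : G) * z.2, mul_mem (Subgroup.mem_sup_left z.1.2) (Subgroup.mem_sup_right z.2.2)⟩ :
      (P ⊔ C : Subgroup G))) ⟨?_, ?_⟩).symm
  · rintro ⟨a, c⟩ ⟨a', c'⟩ e
    have e' : (a : G) * c = a' * c' := congrArg Subtype.val e
    have e2 : (a' : G)⁻¹ * a = c' * (c : G)⁻¹ := by
      rw [eq_mul_inv_iff_mul_eq, mul_assoc, e', inv_mul_cancel_left]
    have e3 : (a' : G)⁻¹ * a ∈ P ⊓ U :=
      ⟨P.mul_mem (P.inv_mem a'.2) a.2, by rw [e2]; exact h.C_le_U (C.mul_mem c'.2 (C.inv_mem c.2))⟩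
    rw [h.P_inf_U, Subgroup.mem_bot, inv_mul_eq_one] at e3
    have e4 : (c : G) = c' := by rw [e3] at e'; exact mul_left_cancel e'
    exact Prod.ext (Subtype.ext e3.symm) (Subtype.ext e4)
  · rintro ⟨x, hx⟩
    obtain ⟨a, ha, c, hc, rfl⟩ := h.mem_H hx
    exact ⟨⟨⟨a, ha⟩, ⟨c, hc⟩⟩, rfl⟩

theorem coprime_q : q.Coprime (Nat.card (P ⊔ C : Subgroup G)) := by
  rw [h.card_H]
  refine Nat.Coprime.mul_right ((Nat.coprime_primes h.q_prime h.p_prime).2 h.p_ne_q.symm |>.pow_right q) ?_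
  exact h.q_prime.coprime_iff_not_dvd.2 fun hd => h.not_dvd_q (hd.trans (Subgroup.card_dvd_of_le h.C_le_U))

theorem W₁_inf_H {w : G} (hw : w ∈ W₁) (hw' : w ∈ P ⊔ C) : w = 1 := by
  have h1 : W₁ ⊓ (P ⊔ C) = ⊥ := Subgroup.inf_eq_bot_of_coprime (h.card_W₁ ▸ h.coprime_q)
  exact Subgroup.mem_bot.1 (h1 ▸ ⟨hw, hw'⟩)

theorem exists_W₁_ne : ∃ w ∈ W₁, w ≠ 1 := by
  have hne : W₁ ≠ ⊥ := fun e => by
    have := h.card_W₁
    rw [e, Subgroup.card_bot] at this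
    exact h.q_prime.one_lt.ne this
  obtain ⟨w, hw⟩ := Subgroup.ne_bot_iff_exists_ne_one.1 hne
  exact ⟨w, w.2, fun h0 => hw (OneMemClass.coe_eq_one.1 h0)⟩

theorem one_lt_card_W₂ : ∃ y ∈ W₂, y ≠ 1 := by
  have hne : W₂ ≠ ⊥ := fun e => by
    have := h.card_W₂
    rw [e, Subgroup.card_bot] at this
    exact h.p_prime.one_lt.ne this
  obtain ⟨w, hw⟩ := Subgroup.ne_bot_iff_exists_ne_one.1 hne
  exact ⟨w, w.2, fun h0 => hw (OneMemClass.coe_eq_one.1 h0)⟩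

/-- Conjugation by an element of `S` on `H`. -/
def conjHom {s : G} (hs : s ∈ S) : ↥(P ⊔ C) →* ↥(P ⊔ C) where
  toFun x := ⟨s * x * s⁻¹, h.conj_H hs x.2⟩
  map_one' := Subtype.ext (by simp)
  map_mul' x y := Subtype.ext (by simp [mul_assoc])

theorem conjTo_iff {s : G} (hs : s ∈ S) {θ θ' : ↥(P ⊔ C) →* ℂˣ} :
    ConjTo s θ θ' ↔ θ.comp (h.conjHom hs) = θ' :=
  ⟨fun hc => MonoidHom.ext fun x => hc x _ rfl, fun e x y hy => by
    rw [← e, show y = h.conjHom hs x from Subtype.ext hy]; rfl⟩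

theorem conjTo_of_mem {x : G} (hx : x ∈ P ⊔ C) (θ : ↥(P ⊔ C) →* ℂˣ) : ConjTo x θ θ := by
  intro y z hz
  congr 1
  apply Subtype.ext
  rw [hz, h.H_comm x hx y y.2, mul_inv_cancel_right]

theorem moves_of_conjTo {s : G} (hs : s ∈ S) {θ θ' : ↥(P ⊔ C) →* ℂˣ} (hθ : Moves P θ)
    (hc : ConjTo s θ θ') : Moves P θ' := by
  obtain ⟨x, hx, hx1⟩ := hθ
  have hy : s⁻¹ * (x : G) * s⁻¹⁻¹ ∈ P := h.conj_P (inv_mem hs) hx
  refine ⟨⟨_, Subgroup.mem_sup_left hy⟩, hy, ?_⟩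
  rw [← hc ⟨_, Subgroup.mem_sup_left hy⟩ x (by show (x : G) = s * _ * s⁻¹; group)]
  exact hx1

/-- A character is fixed by `x a w` iff ... : decomposition of the action. -/
theorem conjTo_decomp {s : G} (hs : s ∈ S) : ∃ x ∈ P, ∃ a ∈ U, ∃ w ∈ W₁, s = x * a * w :=
  h.decomp s hs

theorem trivial_C_of_conjTo {w : G} (hw : w ∈ W₁) (hw1 : w ≠ 1) {θ : ↥(P ⊔ C) →* ℂˣ}
    (hc : ConjTo w θ θ) {x : ↥(P ⊔ C)} (hx : (x : G) ∈ C) : θ x = 1 := by
  let f : C → C := fun c => c⁻¹ * ⟨w * c * w⁻¹, h.conj_C hw c.2⟩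
  have hf : Function.Injective f := by
    intro a b e
    have e' : (a : G)⁻¹ * (w * a * w⁻¹) = (b : G)⁻¹ * (w * b * w⁻¹) := congrArg Subtype.val e
    have hcomm := fun (u v : G) (hu : u ∈ C) (hv : v ∈ C) =>
      h.U_comm u (h.C_le_U hu) v (h.C_le_U hv)
    have e2 : w * (a * (b : G)⁻¹) * w⁻¹ = a * (b : G)⁻¹ := by
      have h1 : w * (a : G) * w⁻¹ = a * ((b : G)⁻¹ * (w * b * w⁻¹)) := by rw [← e']; group
      calc w * (a * (b : G)⁻¹) * w⁻¹ = (w * a * w⁻¹) * (w * b * w⁻¹)⁻¹ := by group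
        _ = a * (b : G)⁻¹ := by rw [h1]; group
    have e3 := h.fpf w hw hw1 _ (h.C_le_U (mul_mem a.2 (inv_mem b.2))) (mul_inv_eq_iff_eq_mul.1 e2)
    exact Subtype.ext (mul_inv_eq_one.1 e3)
  obtain ⟨c, hcx⟩ := (Finite.injective_iff_surjective.1 hf) ⟨x, hx⟩
  have hcH : (c : G) ∈ P ⊔ C := Subgroup.mem_sup_right c.2
  have : x = (⟨c, hcH⟩ : ↥(P ⊔ C))⁻¹ * ⟨w * c * w⁻¹, h.conj_H (h.W₁_le hw) hcH⟩ :=
    Subtype.ext (congrArg Subtype.val hcx).symm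
  rw [this, map_mul, map_inv, hc ⟨c, hcH⟩ ⟨w * c * w⁻¹, h.conj_H (h.W₁_le hw) hcH⟩ rfl,
    inv_mul_cancel]

theorem fixed_trivial_C {θ : ↥(P ⊔ C) →* ℂˣ} (hf : FixedBy W₁ θ) {x : ↥(P ⊔ C)}
    (hx : (x : G) ∈ C) : θ x = 1 := by
  obtain ⟨w, hw, hw1⟩ := h.exists_W₁_ne
  exact h.trivial_C_of_conjTo hw hw1 (hf w hw) hx

theorem pow_p {x : ↥(P ⊔ C)} (hx : (x : G) ∈ P) : x ^ p = 1 :=
  Subtype.ext (by simpa using h.P_exponent _ hx)

open scoped Classical in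
/-- The product of the conjugates of `x` under a subgroup `A` of `S` commutes with `A`. -/
theorem exists_average {A : Subgroup G} (hA : A ≤ S) {x : ↥(P ⊔ C)} (hx : (x : G) ∈ P)
    (θ : ↥(P ⊔ C) →* ℂˣ)
    (hθ : ∀ a ∈ A, ∀ y z : ↥(P ⊔ C), (y : G) ∈ P → (z : G) = a * y * a⁻¹ → θ z = θ y) :
    ∃ n : ↥(P ⊔ C), (n : G) ∈ P ∧ θ n = θ x ^ Nat.card A ∧ (∀ a ∈ A, a * n = n * a) ∧
      ∀ b ∈ S, (∀ a ∈ A, b * a * b⁻¹ ∈ A) → b * x * b⁻¹ = x → b * n * b⁻¹ = n := by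
  haveI := Fintype.ofFinite A
  letI : CommGroup ↥(P ⊔ C) := { (inferInstance : Group ↥(P ⊔ C)) with
    mul_comm := fun a b => Subtype.ext (h.H_comm a a.2 b b.2) }
  let f : A → ↥(P ⊔ C) := fun a => ⟨a * x * (a : G)⁻¹, h.conj_H (hA a.2) x.2⟩
  have key : ∀ b (hb : b ∈ S) (e : A ≃ A), (∀ a : A, b * ((a : G) * x * (a : G)⁻¹) * b⁻¹ =
      (e a : G) * x * (e a : G)⁻¹) → b * ((∏ a : A, f a : ↥(P ⊔ C)) : G) * b⁻¹ =
        ((∏ a : A, f a : ↥(P ⊔ C)) : G) := by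
    intro b hb e he
    refine congrArg Subtype.val (show h.conjHom hb (∏ a : A, f a) = ∏ a : A, f a from ?_)
    rw [map_prod]
    exact Fintype.prod_equiv e _ _ fun a => Subtype.ext (he a)
  refine ⟨∏ a : A, f a, ?_, ?_, ?_, ?_⟩
  · exact Subgroup.mem_subgroupOf.1 ((P.subgroupOf (P ⊔ C)).prod_mem fun a _ =>
      Subgroup.mem_subgroupOf.2 (h.conj_P (hA a.2) hx))
  · rw [map_prod, Finset.prod_congr rfl fun (a : A) _ => hθ a a.2 x (f a) hx rfl, Finset.prod_const,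
      Finset.card_univ, Nat.card_eq_fintype_card]
  · intro b hb
    exact mul_inv_eq_iff_eq_mul.1 (key b (hA hb) (Equiv.mulLeft ⟨b, hb⟩) fun a => by
      simp [mul_assoc])
  · intro b hb hbA hbx
    let g : A → A := fun a => ⟨b * a * b⁻¹, hbA a a.2⟩
    have hg : Function.Injective g := fun a a' e => Subtype.ext (by
      simpa [g] using congrArg Subtype.val e)
    refine key b hb (Equiv.ofBijective g (Finite.injective_iff_bijective.1 hg)) fun a => ?_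
    show b * ((a : G) * x * (a : G)⁻¹) * b⁻¹ = (b * a * b⁻¹) * x * (b * a * b⁻¹)⁻¹
    calc b * ((a : G) * x * (a : G)⁻¹) * b⁻¹
        = (b * a * b⁻¹) * (b * x * b⁻¹) * (b * a * b⁻¹)⁻¹ := by group
      _ = _ := by rw [hbx]

/-- The value of a fixed character on `P` is determined by its restriction to `W₂`. -/
theorem fixed_on_P {θ : ↥(P ⊔ C) →* ℂˣ} (hf : FixedBy W₁ θ) {x : ↥(P ⊔ C)} (hx : (x : G) ∈ P) :
    ∃ n : ↥(P ⊔ C), (n : G) ∈ W₂ ∧ θ n = θ x ^ q := by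
  obtain ⟨n, hn, hv, hc, -⟩ :=
    h.exists_average h.W₁_le hx θ (fun a ha y z _ hz => hf a ha y z hz)
  exact ⟨n, h.fixed_P n hn hc, by rw [hv, h.card_W₁]⟩

theorem mem_H_of_W₂ {y : G} (hy : y ∈ W₂) : y ∈ P ⊔ C := Subgroup.mem_sup_left (h.W₂_le hy)

theorem fixed_ext {θ θ' : ↥(P ⊔ C) →* ℂˣ} (hf : FixedBy W₁ θ) (hf' : FixedBy W₁ θ')
    (he : ∀ y : ↥(P ⊔ C), (y : G) ∈ W₂ → θ y = θ' y) : θ = θ' := by
  have hff : FixedBy W₁ (θ / θ') := fun a ha x y hy => by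
    simp [hf a ha x y hy, hf' a ha x y hy]
  refine MonoidHom.ext fun x => ?_
  obtain ⟨a, ha, c, hc, e⟩ := h.mem_H x.2
  have hx : x = (⟨a, Subgroup.mem_sup_left ha⟩ : ↥(P ⊔ C)) * ⟨c, Subgroup.mem_sup_right hc⟩ :=
    Subtype.ext e.symm
  rw [hx, map_mul, map_mul, h.fixed_trivial_C hf (x := ⟨c, _⟩) hc,
    h.fixed_trivial_C hf' (x := ⟨c, _⟩) hc, mul_one, mul_one, ← div_eq_one]
  have hA : ((⟨a, Subgroup.mem_sup_left ha⟩ : ↥(P ⊔ C)) : G) ∈ P := ha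
  obtain ⟨n, hn, hv⟩ := h.fixed_on_P hff hA
  rw [MonoidHom.div_apply, he n hn, div_self'] at hv
  have h2 : ((θ / θ') ⟨a, Subgroup.mem_sup_left ha⟩) ^ p = 1 := by
    rw [← map_pow, h.pow_p hA, map_one]
  have := pow_gcd_eq_one.2 ⟨h2, hv.symm⟩
  rwa [(Nat.coprime_primes h.p_prime h.q_prime).2 h.p_ne_q, pow_one] at this

theorem ne_one_on_W₂ {θ : ↥(P ⊔ C) →* ℂˣ} (hf : FixedBy W₁ θ) (hm : Moves P θ)
    {y : ↥(P ⊔ C)} (hy : (y : G) ∈ W₂) (hy1 : y ≠ 1) : θ y ≠ 1 := by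
  intro h0
  obtain ⟨x, hx, hx1⟩ := hm
  have hone : FixedBy W₁ (1 : ↥(P ⊔ C) →* ℂˣ) := fun a _ u v _ => rfl
  refine hx1 ?_
  rw [h.fixed_ext hf hone fun z hz => ?_]
  · rfl
  · have hp : Fact (Nat.card W₂).Prime := ⟨h.card_W₂ ▸ h.p_prime⟩
    have hgen : Subgroup.zpowers (⟨y, hy⟩ : W₂) = ⊤ :=
      zpowers_eq_top_of_prime_card rfl fun e => hy1 (Subtype.ext (show (y : G) = 1 from congrArg Subtype.val e))
    obtain ⟨k, hk⟩ := Subgroup.mem_zpowers_iff.1 (hgen ▸ Subgroup.mem_top (⟨z, hz⟩ : W₂))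
    have : z = y ^ k := Subtype.ext (by simpa using (congrArg Subtype.val hk).symm)
    rw [this, map_zpow, h0, one_zpow, MonoidHom.one_apply]

/-- The stabilizer in `U` of a fixed character is `C`. -/
theorem mem_C_of_fix {θ : ↥(P ⊔ C) →* ℂˣ} (hf : FixedBy W₁ θ) (hm : Moves P θ) {a : G}
    (ha : a ∈ U)
    (hfix : ∀ x z : ↥(P ⊔ C), (x : G) ∈ P → (z : G) = a * x * a⁻¹ → θ z = θ x) : a ∈ C := by
  let A : Subgroup G := {
    carrier := {b | b ∈ U ∧ ∀ x z : ↥(P ⊔ C), (x : G) ∈ P → (z : G) = b * x * b⁻¹ → θ z = θ x}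
    one_mem' := ⟨one_mem _, fun x z _ hz => by
      rw [show z = x from Subtype.ext (by simpa using hz)]⟩
    mul_mem' := fun {b c} hb hc => ⟨mul_mem hb.1 hc.1, fun x z hx hz => by
      have hcx : c * (x : G) * c⁻¹ ∈ P := h.conj_P (h.U_le hc.1) hx
      rw [hb.2 ⟨_, Subgroup.mem_sup_left hcx⟩ z hcx (by rw [hz]; group)]
      exact hc.2 x _ hx rfl⟩
    inv_mem' := fun {b} hb => ⟨inv_mem hb.1, fun x z hx hz => by
      have hzP : (z : G) ∈ P := hz ▸ h.conj_P (inv_mem (h.U_le hb.1)) hx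
      exact (hb.2 z x hzP (by rw [hz]; group)).symm⟩ }
  have hAS : A ≤ S := fun b hb => h.U_le hb.1
  refine h.cent_W₂ ⟨ha, Subgroup.mem_centralizer_iff.2 fun y hy => ?_⟩
  by_cases hy1 : y = 1
  · simp [hy1]
  let y' : ↥(P ⊔ C) := ⟨y, h.mem_H_of_W₂ hy⟩
  obtain ⟨n, hn, hv, hc, hb⟩ := h.exists_average hAS (x := y') (h.W₂_le hy) θ
    (fun b hb => hb.2)
  have hnW : (n : G) ∈ W₂ := by
    refine h.fixed_P n hn fun w hw => mul_inv_eq_iff_eq_mul.1 (hb w (h.W₁_le hw) ?_ ?_)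
    · intro b hbA
      refine ⟨h.conj_U hw hbA.1, fun x z hx hz => ?_⟩
      have hx1 : w⁻¹ * (x : G) * w ∈ P := by
        simpa using h.conj_P (S.inv_mem (h.W₁_le hw)) hx
      have hx2 : b * (w⁻¹ * (x : G) * w) * b⁻¹ ∈ P := h.conj_P (h.U_le hbA.1) hx1
      rw [hf w hw ⟨_, Subgroup.mem_sup_left hx2⟩ z (by rw [hz]; group),
        hbA.2 ⟨_, Subgroup.mem_sup_left hx1⟩ _ hx1 rfl,
        hf w hw ⟨_, Subgroup.mem_sup_left hx1⟩ x (by group)]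
    · show w * y * w⁻¹ = y
      rw [h.W₂_comm w hw y hy, mul_inv_cancel_right]
  have hny : n = y' ^ Nat.card A := by
    by_contra hne
    refine h.ne_one_on_W₂ hf hm (y := n * (y' ^ Nat.card A)⁻¹) ?_ ?_ ?_
    · simpa using mul_mem hnW (inv_mem (pow_mem hy (Nat.card A)))
    · rwa [Ne, mul_inv_eq_one]
    · rw [map_mul, map_inv, map_pow, hv, mul_inv_cancel]
  have hcop : (Nat.card A).Coprime (orderOf y) := by
    have hdvd : orderOf y ∣ p := orderOf_dvd_of_pow_eq_one (h.P_exponent y (h.W₂_le hy))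
    refine (Nat.Coprime.coprime_dvd_right hdvd ?_)
    rw [Nat.coprime_comm, h.p_prime.coprime_iff_not_dvd]
    exact fun hd => h.not_dvd_p (hd.trans (Subgroup.card_dvd_of_le fun b hb => hb.1))
  obtain ⟨k, hk⟩ := exists_pow_eq_self_of_coprime hcop
  have h1 : Commute a (y ^ Nat.card A) := by
    have := hc a ⟨ha, hfix⟩
    rw [hny] at this
    simpa [y', Commute, SemiconjBy] using this
  rw [← hk]
  exact (h1.pow_right k).symm

/-- Conjugate fixed characters are equal. -/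
theorem fixed_eq_of_conjTo {s : G} (hs : s ∈ S) {θ θ' : ↥(P ⊔ C) →* ℂˣ} (hf : FixedBy W₁ θ)
    (hf' : FixedBy W₁ θ') (hm : Moves P θ) (hc : ConjTo s θ θ') : θ = θ' := by
  classical
  obtain ⟨x, hx, a, ha, w, hw, rfl⟩ := h.decomp s hs
  have hxH : x ∈ P ⊔ C := Subgroup.mem_sup_left hx
  have hwS := h.W₁_le hw
  have h1 : ConjTo a θ θ' := by
    have e : a = x⁻¹ * (x * a * w) * w⁻¹ := by group
    rw [e]
    exact ((h.conjTo_of_mem (inv_mem hxH) θ).trans (fun y hy => h.conj_H hs hy) hc).trans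
      (fun y hy => h.conj_H (inv_mem hwS) hy) (hf' w⁻¹ (inv_mem hw))
  have hmove : ∀ v : W₁, ConjTo ((v : G) * a * (v : G)⁻¹) θ θ' := fun v =>
    ((hf v v.2).trans (fun y hy => h.conj_H (h.U_le ha) hy) h1).trans
      (fun y hy => h.conj_H (inv_mem (h.W₁_le v.2)) hy) (hf' _ (inv_mem v.2))
  have hstab : ∀ v : W₁, (v : G) * a * (v : G)⁻¹ * a⁻¹ ∈ C := fun v => by
    refine h.mem_C_of_fix hf hm (mul_mem (h.conj_U v.2 ha) (inv_mem ha)) fun y z _ hz => ?_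
    exact ((hmove v).trans (fun y hy => h.conj_H (inv_mem (h.U_le ha)) hy) h1.symm') y z hz
  haveI := Fintype.ofFinite W₁
  letI : CommGroup U := { (inferInstance : Group U) with
    mul_comm := fun a b => Subtype.ext (h.U_comm a a.2 b b.2) }
  let a' : U := ⟨a, ha⟩
  let f : W₁ → U := fun v => ⟨(v : G) * a * (v : G)⁻¹, h.conj_U v.2 ha⟩
  obtain ⟨w₀, hw₀, hw₀1⟩ := h.exists_W₁_ne
  have hN : ∏ v : W₁, f v = 1 := by
    have e : ∀ v : G, ∀ hv : v ∈ W₁, v * ((∏ v : W₁, f v : U) : G) * v⁻¹ =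
        ((∏ v : W₁, f v : U) : G) := by
      intro v hv
      let cv : U →* U := {
        toFun := fun b => ⟨v * b * v⁻¹, h.conj_U hv b.2⟩
        map_one' := Subtype.ext (by simp)
        map_mul' := fun b c => Subtype.ext (by simp [mul_assoc]) }
      refine congrArg Subtype.val (show cv (∏ v : W₁, f v) = ∏ v : W₁, f v from ?_)
      rw [map_prod]
      exact Fintype.prod_equiv (Equiv.mulLeft ⟨v, hv⟩) _ _ fun b => Subtype.ext (by
        simp [cv, f, mul_assoc])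
    exact Subtype.ext (h.fpf w₀ hw₀ hw₀1 _ (∏ v : W₁, f v).2 (mul_inv_eq_iff_eq_mul.1 (e w₀ hw₀)))
  have hprod : ∏ v : W₁, (f v * a'⁻¹) ∈ C.subgroupOf U :=
    Subgroup.prod_mem _ fun v _ => Subgroup.mem_subgroupOf.2 (by simpa [f, a'] using hstab v)
  rw [Finset.prod_mul_distrib, hN, Finset.prod_const, Finset.card_univ, one_mul, inv_pow,
    ← Nat.card_eq_fintype_card, h.card_W₁, inv_mem_iff, Subgroup.mem_subgroupOf] at hprod
  have hcop : q.Coprime (orderOf a) := by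
    refine Nat.Coprime.coprime_dvd_right ?_ (h.q_prime.coprime_iff_not_dvd.2 h.not_dvd_q)
    exact Subgroup.orderOf_dvd_natCard U ha
  obtain ⟨k, hk⟩ := exists_pow_eq_self_of_coprime hcop
  have haC : a ∈ C := by
    rw [← hk]
    exact pow_mem (by simpa [a'] using hprod) k
  refine MonoidHom.ext fun y => ?_
  rw [← h1 y y (by rw [h.H_comm a (Subgroup.mem_sup_right haC) y y.2, mul_inv_cancel_right])]

/-- The stabilizer of a fixed character. -/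
theorem mem_stab_fixed {θ : ↥(P ⊔ C) →* ℂˣ} (hf : FixedBy W₁ θ) (hm : Moves P θ) {s : G}
    (hs : s ∈ S) (hc : ConjTo s θ θ) : ∃ x ∈ P ⊔ C, ∃ w ∈ W₁, s = x * w := by
  obtain ⟨x, hx, a, ha, w, hw, rfl⟩ := h.decomp s hs
  have hxH : x ∈ P ⊔ C := Subgroup.mem_sup_left hx
  have h1 : ConjTo a θ θ := by
    have e : a = x⁻¹ * (x * a * w) * w⁻¹ := by group
    rw [e]
    exact ((h.conjTo_of_mem (inv_mem hxH) θ).trans (fun y hy => h.conj_H hs hy) hc).trans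
      (fun y hy => h.conj_H (S.inv_mem (h.W₁_le hw)) hy) (hf w⁻¹ (inv_mem hw))
  exact ⟨x * a, mul_mem hxH (Subgroup.mem_sup_right (h.mem_C_of_fix hf hm ha fun y z _ hz => h1 y z hz)),
    w, hw, rfl⟩

/-- There is a fixed character moving `P`. -/
theorem exists_fixed : ∃ θ : ↥(P ⊔ C) →* ℂˣ, FixedBy W₁ θ ∧ Moves P θ := by
  classical
  obtain ⟨y, hy, hy1⟩ := h.one_lt_card_W₂
  letI : CommGroup ↥(P ⊔ C) := { (inferInstance : Group ↥(P ⊔ C)) with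
    mul_comm := fun a b => Subtype.ext (h.H_comm a a.2 b b.2) }
  haveI := Fintype.ofFinite W₁
  let y' : ↥(P ⊔ C) := ⟨y, h.mem_H_of_W₂ hy⟩
  obtain ⟨θ₀, h0⟩ := CommGroup.exists_apply_ne_one_of_hasEnoughRootsOfUnity ↥(P ⊔ C) ℂ
    (a := y') fun e => hy1 (congrArg Subtype.val e)
  let θ : ↥(P ⊔ C) →* ℂˣ := ∏ w : W₁, θ₀.comp (h.conjHom (h.W₁_le w.2))
  have hθ : ∀ z, θ z = ∏ w : W₁, θ₀ (h.conjHom (h.W₁_le w.2) z) := fun z => by
    simp [θ, MonoidHom.finsetProd_apply]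
  refine ⟨θ, fun v hv x z hz => ?_, y', h.W₂_le hy, ?_⟩
  · rw [hθ, hθ]
    refine Fintype.prod_equiv (Equiv.mulRight ⟨v, hv⟩) _ _ fun w => ?_
    congr 1
    apply Subtype.ext
    simp [conjHom, hz, mul_assoc]
  · have hv : θ y' = θ₀ y' ^ q := by
      have hcq : (Finset.univ : Finset W₁).card = q := by
        rw [Finset.card_univ, ← Nat.card_eq_fintype_card, h.card_W₁]
      rw [hθ]
      refine (Finset.prod_congr rfl (g := fun _ => θ₀ y') fun w _ => ?_).trans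
        (by rw [Finset.prod_const, hcq])
      congr 1
      apply Subtype.ext
      show (w : G) * y * (w : G)⁻¹ = y
      rw [h.W₂_comm w w.2 y hy, mul_inv_cancel_right]
    rw [hv]
    intro h1
    have h2 : θ₀ y' ^ p = 1 := by rw [← map_pow, h.pow_p (x := y') (h.W₂_le hy), map_one]
    have := pow_gcd_eq_one.2 ⟨h2, h1⟩
    rw [(Nat.coprime_primes h.p_prime h.q_prime).2 h.p_ne_q, pow_one] at this
    exact h0 this

/-- The fixed characters moving `P` are `p - 1` in number. -/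
theorem card_fixed :
    Nat.card {θ : ↥(P ⊔ C) →* ℂˣ // FixedBy W₁ θ ∧ Moves P θ} = p - 1 := by
  classical
  obtain ⟨θ₁, hf, hm⟩ := h.exists_fixed
  obtain ⟨y, hy, hy1⟩ := h.one_lt_card_W₂
  let y' : ↥(P ⊔ C) := ⟨y, h.mem_H_of_W₂ hy⟩
  have hy' : y' ≠ 1 := fun e => hy1 (congrArg Subtype.val e)
  have hz1 := h.ne_one_on_W₂ hf hm (y := y') hy hy'
  have hpow : θ₁ y' ^ p = 1 := by rw [← map_pow, h.pow_p (x := y') (h.W₂_le hy), map_one]
  haveI : Fact p.Prime := ⟨h.p_prime⟩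
  have hord : orderOf (θ₁ y') = p := orderOf_eq_prime hpow hz1
  have hfk : ∀ k : ℕ, FixedBy W₁ (θ₁ ^ k) := fun k a ha x z hz => by simp [hf a ha x z hz]
  have hmk : ∀ k : ℕ, ¬ p ∣ k → Moves P (θ₁ ^ k) := fun k hk =>
    ⟨y', h.W₂_le hy, by
      rw [MonoidHom.pow_apply, Ne, ← orderOf_dvd_iff_pow_eq_one, hord]; exact hk⟩
  let f : Fin (p - 1) → {θ : ↥(P ⊔ C) →* ℂˣ // FixedBy W₁ θ ∧ Moves P θ} := fun k =>
    ⟨θ₁ ^ (k.1 + 1), hfk _, hmk _ fun hd => by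
      have := Nat.le_of_dvd (Nat.succ_pos _) hd; have := k.2; omega⟩
  refine (Nat.card_eq_of_bijective f ⟨?_, ?_⟩).symm.trans (by simp)
  · intro j k e
    have e' := congrArg (fun θ : ↥(P ⊔ C) →* ℂˣ => θ y') (congrArg Subtype.val e)
    simp only [f, MonoidHom.pow_apply] at e'
    rw [pow_eq_pow_iff_modEq, hord] at e'
    have := j.2; have := k.2
    exact Fin.ext (Nat.succ_injective (Nat.ModEq.eq_of_lt_of_lt e' (by omega) (by omega)))
  · rintro ⟨θ, hθf, hθm⟩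
    have hp1 : θ y' ^ p = 1 := by rw [← map_pow, h.pow_p (x := y') (h.W₂_le hy), map_one]
    have hprim : IsPrimitiveRoot ((θ₁ y' : ℂˣ) : ℂ) p :=
      IsPrimitiveRoot.coe_units_iff.2 (hord ▸ IsPrimitiveRoot.orderOf _)
    obtain ⟨i, hi, hiv⟩ := hprim.eq_pow_of_pow_eq_one
      (show ((θ y' : ℂˣ) : ℂ) ^ p = 1 by rw [← Units.val_pow_eq_pow_val, hp1, Units.val_one])
    have hi0 : i ≠ 0 := by
      intro e; subst e
      exact h.ne_one_on_W₂ hθf hθm (y := y') hy hy' (Units.ext (by simpa using hiv.symm))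
    refine ⟨⟨i - 1, by omega⟩, Subtype.ext ?_⟩
    show θ₁ ^ (i - 1 + 1) = θ
    rw [Nat.sub_add_cancel (Nat.pos_of_ne_zero hi0)]
    refine h.fixed_ext (hfk i) hθf fun z hz => ?_
    haveI : Fact (Nat.card W₂).Prime := ⟨h.card_W₂ ▸ h.p_prime⟩
    have hgen : Subgroup.zpowers (⟨y, hy⟩ : W₂) = ⊤ :=
      zpowers_eq_top_of_prime_card rfl fun e => hy1 (congrArg Subtype.val e)
    obtain ⟨k, hk⟩ := Subgroup.mem_zpowers_iff.1 (hgen ▸ Subgroup.mem_top (⟨z, hz⟩ : W₂))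
    have hzy : z = y' ^ k := Subtype.ext (by simpa [y'] using (congrArg Subtype.val hk).symm)
    rw [hzy, map_zpow, map_zpow, MonoidHom.pow_apply,
      show θ₁ y' ^ i = θ y' from Units.ext (by rw [Units.val_pow_eq_pow_val, hiv])]

theorem card_not_moves [Fintype (↥(P ⊔ C) →* ℂˣ)]
    [DecidablePred fun θ : ↥(P ⊔ C) →* ℂˣ => ¬ Moves P θ] :
    (Finset.univ.filter fun θ : ↥(P ⊔ C) →* ℂˣ => ¬ Moves P θ).card ≤ Nat.card C := by
  classical
  letI : CommGroup C := { (inferInstance : Group C) with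
    mul_comm := fun a b => Subtype.ext (h.U_comm a (h.C_le_U a.2) b (h.C_le_U b.2)) }
  rw [← CommGroup.card_monoidHom_of_hasEnoughRootsOfUnity C ℂ, ← Nat.card_eq_finsetCard]
  haveI : Finite (C →* ℂˣ) :=
    .of_equiv _ (CommGroup.monoidHom_mulEquiv_of_hasEnoughRootsOfUnity C ℂ).some.toEquiv.symm
  refine Nat.card_le_card_of_injective (fun θ => θ.1.comp (Subgroup.inclusion le_sup_right)) ?_
  intro θ θ' e
  have h1 := (Finset.mem_filter.1 θ.2).2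
  have h2 := (Finset.mem_filter.1 θ'.2).2
  simp only [Moves, not_exists, not_and, not_not] at h1 h2
  refine Subtype.ext (MonoidHom.ext fun x => ?_)
  obtain ⟨a, ha, c, hc, ex⟩ := h.mem_H x.2
  have hx : x = (⟨a, Subgroup.mem_sup_left ha⟩ : ↥(P ⊔ C)) * ⟨c, Subgroup.mem_sup_right hc⟩ :=
    Subtype.ext ex.symm
  rw [hx, map_mul, map_mul, h1 _ ha, h2 _ ha]
  congr 1
  exact DFunLike.congr_fun e ⟨c, hc⟩

/-- There is a free character when `C ≠ 1`. -/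
theorem exists_free_of_ne_bot (hC : C ≠ ⊥) : ∃ θ : ↥(P ⊔ C) →* ℂˣ, IsFree S P θ := by
  classical
  obtain ⟨θ₁, hf, hm⟩ := h.exists_fixed
  obtain ⟨c₀, hc₀⟩ := Subgroup.ne_bot_iff_exists_ne_one.1 hC
  letI : CommGroup ↥(P ⊔ C) := { (inferInstance : Group ↥(P ⊔ C)) with
    mul_comm := fun a b => Subtype.ext (h.H_comm a a.2 b b.2) }
  let c' : ↥(P ⊔ C) := ⟨c₀, Subgroup.mem_sup_right c₀.2⟩
  have hc' : c' ∉ P.subgroupOf (P ⊔ C) := fun hmem => hc₀ (Subtype.ext (Subgroup.mem_bot.1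
    (h.P_inf_U ▸ ⟨Subgroup.mem_subgroupOf.1 hmem, h.C_le_U c₀.2⟩)))
  rw [← CommGroup.forall_monoidHom_apply_eq_one_iff ℂ] at hc'
  push Not at hc'
  obtain ⟨φ, hφ, hφc⟩ := hc'
  refine ⟨θ₁ * φ, ?_, fun s hs hfix => ?_⟩
  · obtain ⟨x, hx, hx1⟩ := hm
    exact ⟨x, hx, by rwa [MonoidHom.mul_apply, hφ x (Subgroup.mem_subgroupOf.2 hx), mul_one]⟩
  obtain ⟨x, hx, a, ha, w, hw, rfl⟩ := h.decomp s hs
  have hxH : x ∈ P ⊔ C := Subgroup.mem_sup_left hx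
  have haC : a ∈ C := by
    refine h.mem_C_of_fix hf hm ha fun y z hy hz => ?_
    have hy1 : w⁻¹ * (y : G) * w ∈ P := by simpa using h.conj_P (S.inv_mem (h.W₁_le hw)) hy
    have e := hfix ⟨_, Subgroup.mem_sup_left hy1⟩ z (by
      show (z : G) = x * a * w * (w⁻¹ * y * w) * (x * a * w)⁻¹
      rw [show x * a * w * (w⁻¹ * (y : G) * w) * (x * a * w)⁻¹ = x * (a * y * a⁻¹) * x⁻¹ by group,
        ← hz, h.H_comm x hxH z z.2, mul_inv_cancel_right])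
    have hzP : z ∈ P.subgroupOf (P ⊔ C) :=
      Subgroup.mem_subgroupOf.2 (hz ▸ h.conj_P (h.U_le ha) hy)
    rw [MonoidHom.mul_apply, MonoidHom.mul_apply, hφ z hzP,
      hφ _ (Subgroup.mem_subgroupOf.2 hy1), mul_one, mul_one] at e
    rw [e]
    exact (hf w hw ⟨_, Subgroup.mem_sup_left hy1⟩ y (by group)).symm
  have hxa : x * a ∈ P ⊔ C := mul_mem hxH (Subgroup.mem_sup_right haC)
  by_cases hw1 : w = 1
  · rw [hw1, mul_one]; exact hxa
  · exfalso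
    have hfw : ConjTo w (θ₁ * φ) (θ₁ * φ) := by
      have := (h.conjTo_of_mem (inv_mem hxa) (θ₁ * φ)).trans (fun y hy => h.conj_H hs hy) hfix
      rwa [inv_mul_cancel_left] at this
    have := h.trivial_C_of_conjTo hw hw1 hfw (x := c') c₀.2
    rw [MonoidHom.mul_apply, h.fixed_trivial_C hf (x := c') c₀.2, one_mul] at this
    exact hφc this

/-- A free character is not conjugate to a fixed one. -/
theorem not_fixed_of_free {θ θ' : ↥(P ⊔ C) →* ℂˣ} (hfree : IsFree S P θ) {s : G} (hs : s ∈ S)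
    (hc : ConjTo s θ θ') : ¬ FixedBy W₁ θ' := by
  intro hf
  obtain ⟨w, hw, hw1⟩ := h.exists_W₁_ne
  have h1 : ConjTo (s * w * s⁻¹) θ θ :=
    (hc.trans (fun y hy => h.conj_H (h.W₁_le hw) hy) (hf w hw)).trans
      (fun y hy => h.conj_H (inv_mem hs) hy) hc.symm'
  have h2 := hfree.2 _ (mul_mem (mul_mem hs (h.W₁_le hw)) (inv_mem hs)) h1
  refine hw1 (h.W₁_inf_H hw ?_)
  have := h.conj_H (inv_mem hs) h2
  simpa [mul_assoc] using this

end Side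

end Cfsg.Agent.Lib.OddOrder.PF13
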