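import Mathlib
import Cfsg.Agent.Lib.OddOrder.PF13.SideAction
import Cfsg.Agent.Lib.OddOrder.PF13.Basic
import Cfsg.Agent.Lib.CyclicTI.Family

/-!
# Peterfalvi 13: the images `X θ` against the cyclic TI family

For one side: `X` is constant on `S`-orbits, the orbits of the fixed characters correspond to the
non-trivial characters of `W` killing `W₁`, and the inner products with the family are known.
-/

set_option autoImplicit false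
set_option linter.unusedSectionVars false

namespace Cfsg.Agent.Lib.OddOrder.PF13

open scoped ComplexConjugate Classical
open Cfsg.Agent.Lib.Induced.Basic

universe u

variable {G : Type u} [Group G] [Fintype G] {p q : ℕ} {S P C U W W₁ W₂ : Subgroup G}

/-- `θ` lies in the `S`-orbit of `θ₀`. -/
def Orb (S : Subgroup G) {H : Subgroup G} (θ₀ θ : ↥H →* ℂˣ) : Prop := ∃ s ∈ S, ConjTo s θ₀ θ

/-- `ω` is trivial on `A`. -/
def Kills (A : Subgroup G) (ω : ↥W →* ℂˣ) : Prop := ∀ w : ↥W, (w : G) ∈ A → ω w = 1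

/-- The combinatorics of the dual of `W = W₁ W₂`. -/
structure DualFacts (W W₁ W₂ : Subgroup G) (p : ℕ) : Prop where
  pair_inj : ∀ φ φ' ψ ψ' : ↥W →* ℂˣ, Kills W₂ φ → Kills W₂ φ' → Kills W₁ ψ → Kills W₁ ψ' →
    φ * ψ = φ' * ψ' → φ = φ' ∧ ψ = ψ'
  card_Q : Nat.card {ψ : ↥W →* ℂˣ // Kills W₁ ψ} = p

namespace Side

variable (h : Side p q S P C U W₁ W₂)
include h

theorem card_conj_right {s₀ : G} (hs₀ : s₀ ∈ S) {θ θ' θ'' : ↥(P ⊔ C) →* ℂˣ}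
    (hc : ConjTo s₀ θ θ') :
    Nat.card {s : G // s ∈ S ∧ ConjTo s θ' θ''} = Nat.card {s : G // s ∈ S ∧ ConjTo s θ θ''} := by
  refine Nat.card_congr (Equiv.subtypeEquiv (Equiv.mulLeft s₀) fun s => ⟨fun hs => ?_, fun hs => ?_⟩)
  · exact ⟨mul_mem hs₀ hs.1, hc.trans (fun y hy => h.conj_H hs.1 hy) hs.2⟩
  · have h1 : s ∈ S := by simpa using mul_mem (inv_mem hs₀) hs.1
    refine ⟨h1, ?_⟩
    have := hc.symm'.trans (fun y hy => h.conj_H hs.1 hy) hs.2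
    simpa using this

theorem card_conj_left {s₀ : G} (hs₀ : s₀ ∈ S) {θ θ' θ'' : ↥(P ⊔ C) →* ℂˣ}
    (hc : ConjTo s₀ θ' θ'') :
    Nat.card {s : G // s ∈ S ∧ ConjTo s θ θ'} = Nat.card {s : G // s ∈ S ∧ ConjTo s θ θ''} := by
  refine Nat.card_congr (Equiv.subtypeEquiv (Equiv.mulRight s₀) fun s => ⟨fun hs => ?_, fun hs => ?_⟩)
  · exact ⟨mul_mem hs.1 hs₀, hs.2.trans (fun y hy => h.conj_H hs₀ hy) hc⟩
  · have h1 : s ∈ S := by simpa using mul_mem hs.1 (inv_mem hs₀)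
    refine ⟨h1, ?_⟩
    have := hs.2.trans (fun y hy => h.conj_H (inv_mem hs₀) hy) hc.symm'
    simpa using this

theorem card_stab_free {θ : ↥(P ⊔ C) →* ℂˣ} (hf : IsFree S P θ) :
    Nat.card {s : G // s ∈ S ∧ ConjTo s θ θ} = Nat.card (P ⊔ C : Subgroup G) :=
  Nat.card_congr (Equiv.subtypeEquivRight fun s =>
    ⟨fun hs => hf.2 s hs.1 hs.2, fun hs => ⟨h.H_le hs, h.conjTo_of_mem hs θ⟩⟩)

theorem card_stab_fixed {θ : ↥(P ⊔ C) →* ℂˣ} (hf : FixedBy W₁ θ) (hm : Moves P θ) :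
    Nat.card {s : G // s ∈ S ∧ ConjTo s θ θ} = Nat.card (P ⊔ C : Subgroup G) * q := by
  rw [← h.card_W₁, ← Nat.card_prod]
  refine (Nat.card_eq_of_bijective (fun z : ↥(P ⊔ C) × W₁ =>
    (⟨(z.1 : G) * z.2, mul_mem (h.H_le z.1.2) (h.W₁_le z.2.2),
      (h.conjTo_of_mem z.1.2 θ).trans (fun y hy => h.conj_H (h.W₁_le z.2.2) hy) (hf _ z.2.2)⟩ :
      {s : G // s ∈ S ∧ ConjTo s θ θ})) ⟨?_, ?_⟩).symm
  · rintro ⟨a, v⟩ ⟨a', v'⟩ e
    have e' : (a : G) * v = a' * v' := congrArg Subtype.val e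
    have e2 : (v' : G) * (v : G)⁻¹ = (a' : G)⁻¹ * a := by
      rw [mul_inv_eq_iff_eq_mul, mul_assoc, e', inv_mul_cancel_left]
    have e3 := h.W₁_inf_H (mul_mem v'.2 (inv_mem v.2)) (e2 ▸ mul_mem (inv_mem a'.2) a.2)
    rw [mul_inv_eq_one] at e3
    rw [← e3] at e'
    exact Prod.ext (Subtype.ext (mul_right_cancel e')) (Subtype.ext e3.symm)
  · rintro ⟨s, hs, hc⟩
    obtain ⟨x, hx, w, hw, rfl⟩ := h.mem_stab_fixed hf hm hs hc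
    exact ⟨⟨⟨x, hx⟩, ⟨w, hw⟩⟩, rfl⟩

theorem card_conjTo_of_orb {θ₀ θ : ↥(P ⊔ C) →* ℂˣ} (ho : Orb S θ₀ θ) :
    Nat.card {s : G // s ∈ S ∧ ConjTo s θ₀ θ} = Nat.card {s : G // s ∈ S ∧ ConjTo s θ₀ θ₀} := by
  obtain ⟨s, hs, hc⟩ := ho
  exact (h.card_conj_left hs hc).symm

theorem card_conjTo_of_not_orb {θ₀ θ : ↥(P ⊔ C) →* ℂˣ} (ho : ¬ Orb S θ₀ θ) :
    Nat.card {s : G // s ∈ S ∧ ConjTo s θ₀ θ} = 0 := by
  rw [Nat.card_eq_zero]
  exact Or.inl ⟨fun s => ho ⟨s, s.2.1, s.2.2⟩⟩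

/-- Summing over an orbit. -/
theorem sum_orb [Fintype (↥(P ⊔ C) →* ℂˣ)] (θ₀ : ↥(P ⊔ C) →* ℂˣ) (x : ↥(P ⊔ C)) :
    (Nat.card {s : G // s ∈ S ∧ ConjTo s θ₀ θ₀} : ℂ) *
        ∑ θ : ↥(P ⊔ C) →* ℂˣ, (if Orb S θ₀ θ then (θ x : ℂ) else 0) =
      ∑ s : ↥S, (θ₀ ⟨(s : G) * x * (s : G)⁻¹, h.conj_H s.2 x.2⟩ : ℂ) := by
  let g : ↥S → (↥(P ⊔ C) →* ℂˣ) := fun s => θ₀.comp (h.conjHom s.2)
  rw [← Finset.sum_fiberwise Finset.univ g, Finset.mul_sum]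
  refine Finset.sum_congr rfl fun θ _ => ?_
  have hfib : ∀ s : ↥S, g s = θ ↔ ConjTo (s : G) θ₀ θ := fun s => (h.conjTo_iff s.2).symm
  rw [Finset.sum_congr rfl (g := fun _ => (θ x : ℂ)) fun s hs => by
    rw [← (Finset.mem_filter.1 hs).2]; rfl]
  rw [Finset.sum_const, nsmul_eq_mul]
  have hcard : (Finset.univ.filter fun s : ↥S => g s = θ).card =
      Nat.card {s : G // s ∈ S ∧ ConjTo s θ₀ θ} := by
    rw [← Nat.card_eq_finsetCard]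
    exact Nat.card_congr
      { toFun := fun s => ⟨(s.1 : G), s.1.2, (hfib s.1).1 (Finset.mem_filter.1 s.2).2⟩
        invFun := fun s => ⟨⟨s.1, s.2.1⟩, Finset.mem_filter.2 ⟨Finset.mem_univ _, (hfib _).2 s.2.2⟩⟩
        left_inv := fun _ => rfl
        right_inv := fun _ => rfl }
  rw [hcard]
  split_ifs with ho
  · rw [h.card_conjTo_of_orb ho]
  · rw [h.card_conjTo_of_not_orb ho]; simp

theorem card_orb [Fintype (↥(P ⊔ C) →* ℂˣ)] (θ₀ : ↥(P ⊔ C) →* ℂˣ) :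
    Nat.card {s : G // s ∈ S ∧ ConjTo s θ₀ θ₀} *
        (Finset.univ.filter fun θ : ↥(P ⊔ C) →* ℂˣ => Orb S θ₀ θ).card = Nat.card S := by
  have := h.sum_orb θ₀ 1
  simp only [map_one, Units.val_one, OneMemClass.coe_one, mul_one, mul_inv_cancel,
    Finset.sum_boole] at this
  rw [Finset.sum_congr rfl (g := fun _ => (1 : ℂ)) fun s _ => by
    rw [show (⟨1, _⟩ : ↥(P ⊔ C)) = 1 from rfl, map_one, Units.val_one],
    Finset.sum_const, Finset.card_univ, nsmul_one, ← Nat.card_eq_fintype_card] at this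
  exact_mod_cast this

theorem card_orb_free [Fintype (↥(P ⊔ C) →* ℂˣ)] {θ₀ : ↥(P ⊔ C) →* ℂˣ} (hf : IsFree S P θ₀) :
    Nat.card C * (Finset.univ.filter fun θ : ↥(P ⊔ C) →* ℂˣ => Orb S θ₀ θ).card =
      Nat.card U * q := by
  have := h.card_orb θ₀
  rw [h.card_stab_free hf, h.card_H, h.card_S, h.card_P, mul_assoc, mul_assoc] at this
  exact Nat.eq_of_mul_eq_mul_left (pow_pos h.p_prime.pos q) this

theorem card_orb_fixed [Fintype (↥(P ⊔ C) →* ℂˣ)] {θ₀ : ↥(P ⊔ C) →* ℂˣ} (hf : FixedBy W₁ θ₀)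
    (hm : Moves P θ₀) :
    Nat.card C * (Finset.univ.filter fun θ : ↥(P ⊔ C) →* ℂˣ => Orb S θ₀ θ).card = Nat.card U := by
  have := h.card_orb θ₀
  rw [h.card_stab_fixed hf hm, h.card_H, h.card_S, h.card_P, mul_right_comm _ q, mul_assoc (p ^ q)]
    at this
  have h2 := Nat.eq_of_mul_eq_mul_right h.q_prime.pos this
  exact Nat.eq_of_mul_eq_mul_left (pow_pos h.p_prime.pos q) h2

theorem moves_of_orb {θ₀ θ : ↥(P ⊔ C) →* ℂˣ} (hm : Moves P θ₀) (ho : Orb S θ₀ θ) : Moves P θ := by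
  obtain ⟨s, hs, hc⟩ := ho
  exact h.moves_of_conjTo hs hm hc

variable {η : (↥W →* ℂˣ) → G → ℂ} {X : (↥(P ⊔ C) →* ℂˣ) → G → ℂ} {δ : ℤ}
  (hX : SideChar W W₁ W₂ S P (P ⊔ C) η X δ)
include hX

theorem X_eq_of_orb {θ θ' : ↥(P ⊔ C) →* ℂˣ} (hm : Moves P θ) (ho : Orb S θ θ') : X θ = X θ' := by
  obtain ⟨s, hs, hc⟩ := ho
  have hm' := h.moves_of_conjTo hs hm hc
  refine sub_eq_zero.1 (Isometry.Inner.eq_zero_of_classInner_self ?_)
  rw [classInner_sub_left, classInner_sub_right, classInner_sub_right, hX.inner θ θ hm hm,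
    hX.inner θ θ' hm hm', hX.inner θ' θ hm' hm, hX.inner θ' θ' hm' hm',
    h.card_conj_left hs hc, h.card_conj_right hs hc, h.card_conj_right hs hc,
    ← h.card_conj_left hs hc]
  simp

/-- The inner products of a free image. -/
theorem inner_free {lam θ : ↥(P ⊔ C) →* ℂˣ} (hf : IsFree S P lam) (hm : Moves P θ) :
    Cfsg.classInner (X lam) (X θ) = if Orb S lam θ then 1 else 0 := by
  rw [hX.inner lam θ hf.1 hm]
  split_ifs with ho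
  · rw [h.card_conjTo_of_orb ho, h.card_stab_free hf,
      div_self (Nat.cast_ne_zero.2 Nat.card_pos.ne')]
  · rw [h.card_conjTo_of_not_orb ho]; simp

variable (hW : DualFacts W W₁ W₂ p)
  (hη : ∀ ω ω', Cfsg.classInner (η ω) (η ω') = if ω = ω' then 1 else 0)
include hW hη

theorem inner_eta_fixed {θ : ↥(P ⊔ C) →* ℂˣ} (hf : FixedBy W₁ θ) (hm : Moves P θ) :
    ∃ ψ : ↥W →* ℂˣ, ψ ≠ 1 ∧ Kills W₁ ψ ∧ X θ =
      (δ : ℂ) • ∑ᶠ φ ∈ {φ : ↥W →* ℂˣ | Kills W₂ φ}, η (φ * ψ) ∧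
      ∀ φ₀ ψ₀ : ↥W →* ℂˣ, Kills W₂ φ₀ → Kills W₁ ψ₀ →
        Cfsg.classInner (η (φ₀ * ψ₀)) (X θ) = if ψ₀ = ψ then (δ : ℂ) else 0 := by
  obtain ⟨ψ, hψ1, hψ, hX'⟩ := hX.fixed θ hm hf
  refine ⟨ψ, hψ1, hψ, hX', fun φ₀ ψ₀ h0 h0' => ?_⟩
  rw [hX']
  haveI : Finite (↥W →* ℂˣ) := Finite.of_injective
    (fun ω : ↥W →* ℂˣ => (fun w : ↥W => (⟨ω w, by
      rw [mem_rootsOfUnity, ← map_pow, pow_card_eq_one', map_one]⟩ :
        rootsOfUnity (Nat.card ↥W) ℂ)))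
    fun ω ω' e => MonoidHom.ext fun w => congrArg Subtype.val (congrFun e w)
  haveI := Fintype.ofFinite (↥W →* ℂˣ)
  rw [classInner_smul_right, finsum_mem_eq_toFinset_sum, Characters.Basic.classInner_sum_right,
    Finset.sum_congr rfl fun φ hφ => show Cfsg.classInner (η (φ₀ * ψ₀)) (η (φ * ψ)) =
      if φ = φ₀ ∧ ψ₀ = ψ then 1 else 0 by
        rw [hη]
        refine if_congr ⟨fun e => ?_, fun e => by rw [e.1, e.2]⟩ rfl rfl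
        obtain ⟨a, b⟩ := hW.pair_inj φ₀ φ ψ₀ ψ h0 (Set.mem_toFinset.1 hφ) h0' hψ e
        exact ⟨a.symm, b⟩]
  by_cases e : ψ₀ = ψ
  · rw [if_pos e, Finset.sum_congr rfl (g := fun φ : ↥W →* ℂˣ => if φ = φ₀ then (1 : ℂ) else 0)
      (fun φ _ => by simp [e]), Finset.sum_ite_eq', if_pos (Set.mem_toFinset.2 h0)]
    simp
  · rw [if_neg e]
    simp [e]

/-- The family at a character killing `W₂` is orthogonal to all images. -/
theorem inner_eta_P {φ₀ : ↥W →* ℂˣ} (hφ : Kills W₂ φ₀) {θ : ↥(P ⊔ C) →* ℂˣ} (hm : Moves P θ) :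
    Cfsg.classInner (η φ₀) (X θ) = 0 := by
  classical
  by_cases ho : ∃ θ', Orb S θ θ' ∧ FixedBy W₁ θ'
  · obtain ⟨θ', ho, hf⟩ := ho
    obtain ⟨ψ, hψ1, hψ, -, hval⟩ := h.inner_eta_fixed hX hW hη hf (h.moves_of_orb hm ho)
    have := hval φ₀ 1 hφ fun _ _ => rfl
    rw [show φ₀ * (1 : ↥W →* ℂˣ) = φ₀ from MonoidHom.ext fun w => mul_one _,
      if_neg (Ne.symm hψ1)] at this
    rw [h.X_eq_of_orb hX hm ho, this]
  · rw [← classInner_conj_symm, hX.orth θ hm (fun s hs θ' hc hf => ho ⟨θ', ⟨s, hs, hc⟩, hf⟩), map_zero]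

/-- The family at a character killing `W₁` picks one orbit of fixed characters. -/
theorem inner_eta_Q {ψ₀ : ↥W →* ℂˣ} (hψ₀ : Kills W₁ ψ₀) (hψ1 : ψ₀ ≠ 1) :
    ∃ θ₀, FixedBy W₁ θ₀ ∧ Moves P θ₀ ∧
      X θ₀ = (δ : ℂ) • ∑ᶠ φ ∈ {φ : ↥W →* ℂˣ | Kills W₂ φ}, η (φ * ψ₀) ∧
      ∀ θ, Moves P θ → Cfsg.classInner (η ψ₀) (X θ) = if Orb S θ₀ θ then (δ : ℂ) else 0 := by
  have hone : Kills (W := W) W₂ 1 := fun _ _ => rfl
  have hpick : ∀ θ : {θ : ↥(P ⊔ C) →* ℂˣ // FixedBy W₁ θ ∧ Moves P θ}, ∃ ψ : ↥W →* ℂˣ,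
      ψ ≠ 1 ∧ Kills W₁ ψ ∧ X θ.1 = (δ : ℂ) • ∑ᶠ φ ∈ {φ : ↥W →* ℂˣ | Kills W₂ φ}, η (φ * ψ) ∧
      ∀ φ₀ ψ' : ↥W →* ℂˣ, Kills W₂ φ₀ → Kills W₁ ψ' →
        Cfsg.classInner (η (φ₀ * ψ')) (X θ.1) = if ψ' = ψ then (δ : ℂ) else 0 :=
    fun θ => h.inner_eta_fixed hX hW hη θ.2.1 θ.2.2
  choose f hf1 hf2 hf3 hf4 using hpick
  have hδ : (δ : ℂ) ≠ 0 := by rcases hX.sign with e | e <;> simp [e]
  have hqne : (Nat.card (P ⊔ C : Subgroup G) : ℂ) ≠ 0 := Nat.cast_ne_zero.2 Nat.card_pos.ne'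
  have hinj : Function.Injective f := by
    intro a b e
    have hXe : X a.1 = X b.1 := by rw [hf3 a, hf3 b, e]
    have h1 : Cfsg.classInner (X a.1) (X b.1) = Cfsg.classInner (X a.1) (X a.1) := by rw [hXe]
    rw [hX.inner _ _ a.2.2 b.2.2, hX.inner _ _ a.2.2 a.2.2, h.card_stab_fixed a.2.1 a.2.2] at h1
    have ho : Orb S a.1 b.1 := by
      by_contra ho
      rw [h.card_conjTo_of_not_orb ho, Nat.cast_zero, zero_div, eq_comm, div_eq_zero_iff] at h1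
      rcases h1 with h1 | h1
      · exact (Nat.mul_pos Nat.card_pos h.q_prime.pos).ne' (Nat.cast_eq_zero.1 h1)
      · exact hqne h1
    obtain ⟨s, hs, hc⟩ := ho
    exact Subtype.ext (h.fixed_eq_of_conjTo hs a.2.1 b.2.1 a.2.2 hc)
  haveI : Finite (↥W →* ℂˣ) := Finite.of_injective
    (fun ω : ↥W →* ℂˣ => (fun w : ↥W => (⟨ω w, by
      rw [mem_rootsOfUnity, ← map_pow, pow_card_eq_one', map_one]⟩ :
        rootsOfUnity (Nat.card ↥W) ℂ)))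
    fun ω ω' e => MonoidHom.ext fun w => congrArg Subtype.val (congrFun e w)
  haveI := Fintype.ofFinite (↥W →* ℂˣ)
  let T := {ψ : ↥W →* ℂˣ // Kills W₁ ψ ∧ ψ ≠ 1}
  let g : {θ : ↥(P ⊔ C) →* ℂˣ // FixedBy W₁ θ ∧ Moves P θ} → T := fun θ => ⟨f θ, hf2 θ, hf1 θ⟩
  have hcard : Nat.card T = p - 1 := by
    rw [Nat.card_eq_fintype_card, Fintype.card_subtype]
    have hc := hW.card_Q
    rw [Nat.card_eq_fintype_card, Fintype.card_subtype] at hc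
    rw [show (Finset.univ.filter fun ψ : ↥W →* ℂˣ => Kills W₁ ψ ∧ ψ ≠ 1) =
      (Finset.univ.filter fun ψ : ↥W →* ℂˣ => Kills W₁ ψ).erase 1 by ext; simp [and_comm],
      Finset.card_erase_of_mem (Finset.mem_filter.2 ⟨Finset.mem_univ _, fun _ _ => rfl⟩), hc]
  haveI : Finite {θ : ↥(P ⊔ C) →* ℂˣ // FixedBy W₁ θ ∧ Moves P θ} :=
    Finite.of_injective g fun a b e => hinj (congrArg Subtype.val e)
  have hbij : Function.Bijective g := (Nat.bijective_iff_injective_and_card g).2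
    ⟨fun a b e => hinj (congrArg Subtype.val e), h.card_fixed.trans hcard.symm⟩
  obtain ⟨θ₀, hθ₀⟩ := hbij.2 ⟨ψ₀, hψ₀, hψ1⟩
  have hfθ : f θ₀ = ψ₀ := congrArg Subtype.val hθ₀
  refine ⟨θ₀.1, θ₀.2.1, θ₀.2.2, hfθ ▸ hf3 θ₀, fun θ hm => ?_⟩
  by_cases ho : ∃ θ', Orb S θ θ' ∧ FixedBy W₁ θ'
  · obtain ⟨θ', ho, hf'⟩ := ho
    have hm' := h.moves_of_orb hm ho
    have hv := hf4 ⟨θ', hf', hm'⟩ 1 ψ₀ hone hψ₀
    rw [show (1 : ↥W →* ℂˣ) * ψ₀ = ψ₀ from MonoidHom.ext fun w => one_mul _,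
      ← h.X_eq_of_orb hX hm ho] at hv
    rw [hv]
    refine if_congr ⟨fun e => ?_, fun e => ?_⟩ rfl rfl
    · have : θ₀ = ⟨θ', hf', hm'⟩ := hinj (hfθ.trans e)
      obtain ⟨s, hs, hc⟩ := ho
      refine ⟨s⁻¹, inv_mem hs, ?_⟩
      rw [this]
      exact hc.symm'
    · obtain ⟨t, ht, hct⟩ := e
      obtain ⟨s, hs, hc⟩ := ho
      have := h.fixed_eq_of_conjTo (mul_mem ht hs) θ₀.2.1 hf' θ₀.2.2
        (hct.trans (fun y hy => h.conj_H hs hy) hc)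
      rw [← hfθ, show θ₀ = ⟨θ', hf', hm'⟩ from Subtype.ext this]
  · rw [← classInner_conj_symm, hX.orth θ hm (fun s hs θ' hc hf => ho ⟨θ', ⟨s, hs, hc⟩, hf⟩), map_zero,
      if_neg]
    rintro ⟨t, ht, hct⟩
    exact ho ⟨θ₀.1, ⟨t⁻¹, inv_mem ht, hct.symm'⟩, θ₀.2.1⟩

end Side

end Cfsg.Agent.Lib.OddOrder.PF13
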