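import Mathlib
import Cfsg.Agent.Lib.OddOrder.PF13.Facts

/-!
# Peterfalvi 13: the count

If the side `S` has a free character `λ` then `v` is maximal (`full_of_free`), and the sum over
`G` of `|τ₁ λ|²` and `|η₁₀|²` gives the lower bound for `u / c` (`count_ineq`, 13.9-13.10).
-/

set_option autoImplicit false
set_option linter.unusedSectionVars false

namespace Cfsg.Agent.Lib.OddOrder.PF13

open scoped ComplexConjugate Classical
open Cfsg.Agent.Lib.Induced.Basic Cfsg.Agent.Lib.Characters.Basic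
open Cfsg.Agent.Lib.CyclicTI

universe u

theorem exists_int_of_rat {z : ℂ} (hz : IsIntegral ℤ z) (r : ℚ) (hr : (r : ℂ) = z) :
    ∃ m : ℤ, (m : ℂ) = z := by
  have hr' : algebraMap ℚ ℂ r = z := by rw [eq_ratCast]; exact hr
  have h2 : IsIntegral ℤ r := by
    rw [← isIntegral_algebraMap_iff (algebraMap ℚ ℂ).injective, hr']
    exact hz
  obtain ⟨m, hm⟩ := IsIntegrallyClosed.isIntegral_iff.1 h2
  exact ⟨m, by rw [← hr, ← hm]; simp⟩

theorem isIntegral_of_isGen {G : Type u} [Group G] [Finite G] {χ : G → ℂ}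
    (hχ : Cfsg.IsGeneralizedCharacter G χ) (g : G) : IsIntegral ℤ (χ g) := by
  obtain ⟨a, b, ha, hb, rfl⟩ := hχ
  exact (isIntegral_apply ha g).sub (isIntegral_apply hb g)

variable {G : Type u} [Group G] [Fintype G] {p q : ℕ} {S T P C Q D U V W₁ W₂ : Subgroup G}
  {η : (↥(W₁ ⊔ W₂) →* ℂˣ) → G → ℂ} {X : (↥(P ⊔ C) →* ℂˣ) → G → ℂ}
  {Y : (↥(Q ⊔ D) →* ℂˣ) → G → ℂ} {δ ε : ℤ}

/-- The duals of `W` for the side `S`. -/
theorem dualFacts_left (hW : Cfsg.IsSelfNormalizingCyclic W₁ W₂) (hp : Nat.card W₂ = p) :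
    DualFacts (W₁ ⊔ W₂) W₁ W₂ p := by
  haveI := CyclicTI.finite_hom (G := G) (W₁ := W₁) (W₂ := W₂)
  haveI := Fintype.ofFinite (↥(W₁ ⊔ W₂) →* ℂˣ)
  refine ⟨fun φ φ' ψ ψ' a b c d e => CyclicTI.pair_inj a b c d e, ?_⟩
  rw [Nat.card_eq_fintype_card, Fintype.card_subtype, ← hp]
  exact card_isQ hW

/-- The duals of `W` for the side `T`. -/
theorem dualFacts_right (hW : Cfsg.IsSelfNormalizingCyclic W₁ W₂) (hq : Nat.card W₁ = q) :
    DualFacts (W₁ ⊔ W₂) W₂ W₁ q := by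
  haveI := CyclicTI.finite_hom (G := G) (W₁ := W₁) (W₂ := W₂)
  haveI := Fintype.ofFinite (↥(W₁ ⊔ W₂) →* ℂˣ)
  refine ⟨fun φ φ' ψ ψ' a b c d e => ?_, ?_⟩
  · have h := CyclicTI.pair_inj c d a b (by
      ext w
      have := congrArg (fun t : ℂˣ => (t : ℂ)) (DFunLike.congr_fun e w)
      simpa [mul_comm] using this)
    exact ⟨h.2, h.1⟩
  · rw [Nat.card_eq_fintype_card, Fintype.card_subtype, ← hq]
    exact card_isP hW

/-- The elements conjugate to one of `W` outside the two factors. -/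
noncomputable def crossSet (W₁ W₂ : Subgroup G) : Finset G :=
  Finset.univ.filter fun g => ∃ x : G, x * g * x⁻¹ ∈ W₁ ⊔ W₂ ∧ x * g * x⁻¹ ∉ W₁ ∧ x * g * x⁻¹ ∉ W₂

theorem mem_crossSet {g : G} : g ∈ crossSet W₁ W₂ ↔
    ∃ x : G, x * g * x⁻¹ ∈ W₁ ⊔ W₂ ∧ x * g * x⁻¹ ∉ W₁ ∧ x * g * x⁻¹ ∉ W₂ := by
  simp [crossSet]

theorem finsum_isP {A : Type*} [AddCommMonoid A] [Fintype (↥(W₁ ⊔ W₂) →* ℂˣ)]
    (f : (↥(W₁ ⊔ W₂) →* ℂˣ) → A) :
    ∑ᶠ φ ∈ {φ : ↥(W₁ ⊔ W₂) →* ℂˣ | IsP φ}, f φ = ∑ φ ∈ Finset.univ.filter IsP, f φ := by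
  rw [finsum_mem_eq_toFinset_sum]
  refine Finset.sum_congr ?_ fun _ _ => rfl
  ext φ
  rw [Set.mem_toFinset, Finset.mem_filter]
  exact ⟨fun h => ⟨Finset.mem_univ _, h⟩, fun h => h.2⟩

section Values

variable (hη : Cfsg.IsCyclicTIFamily W₁ W₂ η)
include hη

theorem gen_eta (ω : ↥(W₁ ⊔ W₂) →* ℂˣ) : Cfsg.IsGeneralizedCharacter G (η ω) :=
  Isometry.Inner.gen_of_signed (hη.irr_or_neg ω)

theorem cls_eta (ω : ↥(W₁ ⊔ W₂) →* ℂˣ) : Cfsg.IsClassFunction G (η ω) :=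
  Isometry.Inner.gen_classFun (gen_eta hη ω)

/-- The relation between the family members away from the cross set. -/
theorem eta_mul_apply {φ ψ : ↥(W₁ ⊔ W₂) →* ℂˣ} (hφ : IsP φ) (hψ : IsQ ψ) {g : G}
    (hg : g ∉ crossSet W₁ W₂) : η (φ * ψ) g = η φ g + η ψ g - 1 := by
  have h1 : ∀ h, η 1 h = 1 := fun h => by rw [hη.map_one]
  by_cases e1 : φ = 1
  · subst e1
    rw [show (1 : ↥(W₁ ⊔ W₂) →* ℂˣ) * ψ = ψ from MonoidHom.ext fun w => one_mul _, h1]; ring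
  by_cases e2 : ψ = 1
  · subst e2
    rw [show φ * (1 : ↥(W₁ ⊔ W₂) →* ℂˣ) = φ from MonoidHom.ext fun w => mul_one _, h1]; ring
  have h2 : Cfsg.indFun (W₁ ⊔ W₂) (CyclicTI.beta φ ψ) g = 0 := by
    rw [indFun_congr (W₁ ⊔ W₂) (θ' := (0 : ↥(W₁ ⊔ W₂) → ℂ)) g fun x hx => ?_, indFun_zero]
    · rfl
    · refine beta_eq_zero hφ hψ ?_
      by_contra hn
      push Not at hn
      exact hg (mem_crossSet.2 ⟨x⁻¹, by simpa using hx, by simpa using hn.1, by simpa using hn.2⟩)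
  have h3 := congrFun (hη.induced_eq φ ψ e1 e2 hφ hψ) g
  unfold CyclicTI.beta at h2
  rw [h2] at h3
  linear_combination -h3

end Values

variable (hW : Cfsg.IsSelfNormalizingCyclic W₁ W₂) (hodd : Odd (Nat.card G))
  (hη : Cfsg.IsCyclicTIFamily W₁ W₂ η)
  (hS : Side p q S P C U W₁ W₂) (hT : Side q p T Q D V W₂ W₁)
  (hX : SideChar (W₁ ⊔ W₂) W₁ W₂ S P (P ⊔ C) η X δ)
  (hY : SideChar (W₁ ⊔ W₂) W₂ W₁ T Q (Q ⊔ D) η Y ε)
  (hcr : CrossOrth S P X Q Y) {lam : ↥(P ⊔ C) →* ℂˣ} (hlam : IsFree S P lam)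

include hS hT in
/-- An element of `H#` is not conjugate into `K`. -/
theorem not_conjSet_of_conjSet {g : G} (hg : g ∈ conjSet (Q ⊔ D)) : g ∉ conjSet (P ⊔ C) := by
  intro hg'
  obtain ⟨hg1, x, hx⟩ := mem_conjSet.1 hg
  obtain ⟨-, y, hy⟩ := mem_conjSet.1 hg'
  have hle : (Q ⊔ D).map (MulAut.conj (y * x⁻¹)).toMonoidHom ≤ S := by
    rintro _ ⟨k, hk, rfl⟩
    refine hS.ti _ (y * g * y⁻¹) hy (by simpa using hg1) ?_
    have e : (y * x⁻¹) * k * (y * x⁻¹)⁻¹ * (y * g * y⁻¹) * ((y * x⁻¹) * k * (y * x⁻¹)⁻¹)⁻¹ =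
        y * g * y⁻¹ := by
      calc _ = y * x⁻¹ * (k * (x * g * x⁻¹) * k⁻¹) * x * y⁻¹ := by group
        _ = _ := by rw [hT.H_comm k hk _ hx, mul_inv_cancel_right]; group
    simp only [MulEquiv.coe_toMonoidHom, MulAut.conj_apply]
    rw [e]; exact hy
  have hd : q ^ p ∣ p ^ q * Nat.card U * q := by
    rw [← hS.card_P, ← hS.card_S]
    refine dvd_trans ?_ (Subgroup.card_dvd_of_le hle)
    rw [Nat.card_congr ((Q ⊔ D).equivMapOfInjective (MulAut.conj (y * x⁻¹)).toMonoidHom (MulAut.conj _).injective).toEquiv.symm,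
      hT.card_H]
    exact dvd_mul_right _ _
  have hcop : Nat.Coprime (q ^ p) (p ^ q * Nat.card U) :=
    Nat.Coprime.pow_left p (Nat.Coprime.mul_right
      (((Nat.coprime_primes hS.q_prime hS.p_prime).2 hS.p_ne_q.symm).pow_right q)
      (hS.q_prime.coprime_iff_not_dvd.2 hS.not_dvd_q))
  have h2 := Nat.le_of_dvd hS.q_prime.pos (hcop.dvd_of_dvd_mul_left hd)
  have h3 : q ^ 1 < q ^ p := Nat.pow_lt_pow_right hS.q_prime.one_lt hS.p_prime.one_lt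
  rw [pow_one] at h3
  omega

include hW hS in
/-- An element of `H#` is not conjugate into the cross set. -/
theorem not_crossSet_of_conjSet {g : G} (hg : g ∈ conjSet (P ⊔ C)) : g ∉ crossSet W₁ W₂ := by
  intro hg'
  obtain ⟨-, y, hy⟩ := mem_conjSet.1 hg
  obtain ⟨x, hx, hx1, hx2⟩ := mem_crossSet.1 hg'
  have hle : (P ⊔ C).map (MulAut.conj (x * y⁻¹)).toMonoidHom ≤ W₁ ⊔ W₂ := by
    rintro _ ⟨k, hk, rfl⟩
    rw [← hW.2.2.2.2.2 {x * g * x⁻¹} (Set.singleton_subset_iff.2 ⟨hx, fun h => h.elim hx1 hx2⟩)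
      (Set.singleton_nonempty _)]
    refine Isometry.TI.mem_normalizer_of_mapsTo fun s hs => ?_
    rw [Set.mem_singleton_iff] at hs ⊢
    subst hs
    simp only [MulEquiv.coe_toMonoidHom, MulAut.conj_apply]
    calc _ = x * y⁻¹ * (k * (y * g * y⁻¹) * k⁻¹) * y * x⁻¹ := by group
      _ = _ := by rw [hS.H_comm k hk _ hy, mul_inv_cancel_right]; group
  have h1 : Nat.card (P ⊔ C : Subgroup G) ≤ Nat.card ↥(W₁ ⊔ W₂) := by
    rw [Nat.card_congr ((P ⊔ C).equivMapOfInjective (MulAut.conj (x * y⁻¹)).toMonoidHom (MulAut.conj _).injective).toEquiv]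
    exact Subgroup.card_le_of_le hle
  have h2 : Nat.card ↥(W₁ ⊔ W₂) ≤ q * p := by
    rw [← hS.card_W₁, ← hS.card_W₂, ← Nat.card_prod]
    refine Nat.card_le_card_of_surjective (fun z : W₁ × W₂ =>
      CyclicTI.inl z.1.2 * CyclicTI.inr z.2.2) fun w => ?_
    obtain ⟨π₁, π₂, hπ⟩ := exists_proj hW
    exact ⟨⟨⟨π₁ w, (hπ w).2.1⟩, ⟨π₂ w, (hπ w).2.2⟩⟩, (hπ w).1.symm⟩
  rw [hS.card_H] at h1
  have h3 : p ^ q ≤ q * p := le_trans (Nat.le_mul_of_pos_right _ Nat.card_pos) (h1.trans h2)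
  have hp2 : 2 < p := lt_of_le_of_ne hS.p_prime.two_le hS.p_odd.symm
  obtain ⟨r, rfl⟩ : ∃ r, q = r + 1 := ⟨q - 1, by have := hS.q_prime.pos; omega⟩
  rw [pow_succ] at h3
  have h4 : 2 * r < p ^ r ∧ 2 ≤ p ^ r := by
    have h5 : 2 ≤ r := by
      have := hS.q_prime.two_le; have := hS.q_odd; omega
    have h6 : 3 ^ r ≤ p ^ r := Nat.pow_le_pow_left hp2 r
    have h7 : ∀ n, 2 * n < 3 ^ n := fun n => by
      induction n with
      | zero => simp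
      | succ n ih => rw [pow_succ]; have := Nat.one_le_pow n 3 (by norm_num); omega
    exact ⟨lt_of_lt_of_le (h7 r) h6, by have := h7 r; omega⟩
  have := Nat.le_of_mul_le_mul_right h3 hS.p_prime.pos
  omega

include hS hX hlam in
theorem gen_zeta : Cfsg.IsGeneralizedCharacter G (X lam) := hX.generalized lam hlam.1

include hW hη hS hX hlam in
/-- `ζ = X λ` vanishes on the cross set. -/
theorem zeta_cross {g : G} (hg : g ∈ crossSet W₁ W₂) : X lam g = 0 := by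
  haveI := Fintype.ofFinite ↥(W₁ ⊔ W₂)
  obtain ⟨x, hx, hx1, hx2⟩ := mem_crossSet.1 hg
  have hcl := Isometry.Inner.gen_classFun (hX.generalized lam hlam.1)
  have horth : ∀ ω, Cfsg.classInner (X lam) (η ω) = 0 := hX.orth lam hlam.1
    (fun s hs θ' hc => hS.not_fixed_of_free hlam hs hc)
  rw [← hcl g x]
  refine eq_zero_of_orthogonal hW (fun u : ↥(W₁ ⊔ W₂) => X lam u) (fun φ ψ h1 h2 hP hQ => ?_)
    (v := ⟨_, hx⟩) hx1 hx2
  rw [← frobenius_reciprocity' _ _ hcl,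
    show Cfsg.indFun (W₁ ⊔ W₂) (CyclicTI.beta φ ψ) = η 1 - η φ - η ψ + η (φ * ψ) by
      rw [hη.map_one]; exact hη.induced_eq φ ψ h1 h2 hP hQ]
  simp only [classInner_add_right, classInner_sub_right, horth, sub_zero, add_zero]

include hW hη in
theorem normSq_eta_cross {ω : ↥(W₁ ⊔ W₂) →* ℂˣ} {g : G} (hg : g ∈ crossSet W₁ W₂) :
    Complex.normSq (η ω g) = 1 := by
  obtain ⟨x, hx, hx1, hx2⟩ := mem_crossSet.1 hg
  rw [← cls_eta hη ω g x, show η ω (x * g * x⁻¹) = (ω ⟨_, hx⟩ : ℂ) from hη.eq_on ω ⟨_, hx⟩ hx1 hx2]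
  have h1 : ((ω ⟨_, hx⟩ : ℂˣ) : ℂ) ^ Nat.card ↥(W₁ ⊔ W₂) = 1 := by
    rw [← Units.val_pow_eq_pow_val, ← map_pow, pow_card_eq_one', map_one, Units.val_one]
  rw [Complex.normSq_eq_norm_sq, Complex.norm_eq_one_of_pow_eq_one h1 Nat.card_pos.ne', one_pow]

include hW hη hS hX hlam in
/-- `ζ` outside the conjugates of `H#` and of the cross set. -/
theorem zeta_outside : ∃ ψ₁ : ↥(W₁ ⊔ W₂) →* ℂˣ, ψ₁ ≠ 1 ∧ IsQ ψ₁ ∧ ∀ g,
    g ∉ conjSet (P ⊔ C) → g ∉ crossSet W₁ W₂ →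
      X lam g = (δ : ℂ) * ((∑ᶠ φ ∈ {φ : ↥(W₁ ⊔ W₂) →* ℂˣ | IsP φ}, η φ g) +
        (q : ℂ) * (η ψ₁ g - 1)) := by
  obtain ⟨θ₁, hf, hm⟩ := hS.exists_fixed
  obtain ⟨ψ, hψ1, hψ, hX1⟩ := hX.fixed θ₁ hm hf
  refine ⟨ψ, hψ1, hψ, fun g hg1 hg2 => ?_⟩
  haveI := CyclicTI.finite_hom (G := G) (W₁ := W₁) (W₂ := W₂)
  haveI := Fintype.ofFinite (↥(W₁ ⊔ W₂) →* ℂˣ)
  have hdiff : Cfsg.indFun (P ⊔ C) (fun x => (lam x : ℂ)) g =
      Cfsg.indFun (P ⊔ C) (fun x => (θ₁ x : ℂ)) g := by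
    by_cases h1 : g = 1
    · subst h1
      simp [indFun_one]
    · rw [indFun_eq_zero_of_forall_not_mem _ _ fun x hx =>
          hg1 (mem_conjSet.2 ⟨h1, x⁻¹, by simpa using hx⟩),
        indFun_eq_zero_of_forall_not_mem _ _ fun x hx =>
          hg1 (mem_conjSet.2 ⟨h1, x⁻¹, by simpa using hx⟩)]
  have h2 := congrFun (hX.ind_sub lam θ₁ hlam.1 hm) g
  simp only [Pi.sub_apply, hdiff, sub_self] at h2
  have hX1' : X θ₁ = (δ : ℂ) • ∑ᶠ φ ∈ {φ : ↥(W₁ ⊔ W₂) →* ℂˣ | IsP φ}, η (φ * ψ) := hX1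
  rw [sub_eq_zero.1 h2.symm, hX1', finsum_isP, finsum_isP]
  simp only [Pi.smul_apply, smul_eq_mul, Finset.sum_apply]
  congr 1
  refine (Finset.sum_congr rfl fun φ hφ => eta_mul_apply hη
    (Finset.mem_filter.1 hφ).2 hψ hg2).trans ?_
  rw [Finset.sum_sub_distrib, Finset.sum_add_distrib, Finset.sum_const, Finset.sum_const,
    card_isP hW, hS.card_W₁, nsmul_eq_mul, nsmul_one]
  ring

include hW hη hS hT hX hY hcr hlam in
/-- If `S` has a free character, `v` is maximal. -/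
theorem full_of_free : Nat.card V * (q - 1) = (q ^ p - 1) * Nat.card D := by
  haveI := CyclicTI.finite_hom (G := G) (W₁ := W₁) (W₂ := W₂)
  haveI := Fintype.ofFinite (↥(W₁ ⊔ W₂) →* ℂˣ)
  letI : CommGroup ↥(Q ⊔ D) := { (inferInstance : Group ↥(Q ⊔ D)) with
    mul_comm := fun a b => Subtype.ext (hT.H_comm a a.2 b b.2) }
  haveI : Fintype (↥(Q ⊔ D) →* ℂˣ) := GaloisMean.AbelianForm.dualFintype
  have hdR := dualFacts_right hW hS.card_W₁
  obtain ⟨ψ₁, hψ₁1, hψ₁, hz⟩ := zeta_outside hW hη hS hX hlam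
  have hmvP : ∀ θ : ↥(Q ⊔ D) →* ℂˣ, ¬ Moves Q θ → ∀ x : ↥(Q ⊔ D), (x : G) ∈ Q → θ x = 1 := by
    intro θ hθ x hx; by_contra h; exact hθ ⟨x, hx, h⟩
  have hgz := hX.generalized lam hlam.1
  obtain ⟨Az, -, -, -, hAz, -⟩ := restrict_formula (P := Q) (H := Q ⊔ D) le_sup_left hT.H_comm
    (Moves Q) hmvP hY.ind_sub hgz (fun _ => 0)
    (fun θ hθ => by rw [hcr lam hlam θ hθ]; simp) (fun _ _ => rfl)
  obtain ⟨Aq, -, -, -, hAq, -⟩ := restrict_formula (P := Q) (H := Q ⊔ D) le_sup_left hT.H_comm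
    (Moves Q) hmvP hY.ind_sub (gen_eta hη ψ₁) (fun _ => 0)
    (fun θ hθ => by rw [hT.inner_eta_P hY hdR (fun a b => by convert hη.orthonormal a b) hψ₁ hθ]; simp) (fun _ _ => rfl)
  -- every non-trivial `φ` selects an orbit
  let R := {φ : ↥(W₁ ⊔ W₂) →* ℂˣ // IsP φ ∧ φ ≠ 1}
  have hR : ∀ φ : R, ∃ θ₀ : ↥(Q ⊔ D) →* ℂˣ, FixedBy W₂ θ₀ ∧ Moves Q θ₀ ∧
      ∃ A : ℤ, ∀ x : ↥(Q ⊔ D), x ≠ 1 → (x : G) ∈ Q →
        η φ.1 (x : G) = (ε : ℂ) * (∑ θ : ↥(Q ⊔ D) →* ℂˣ, if Orb T θ₀ θ then (θ x : ℂ) else 0) + A := by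
    intro φ
    obtain ⟨θ₀, h1, h2, -, h4⟩ := hT.inner_eta_Q hY hdR (fun a b => by convert hη.orthonormal a b) φ.2.1 φ.2.2
    obtain ⟨A, -, -, -, hA, -⟩ := restrict_formula (P := Q) (H := Q ⊔ D) le_sup_left hT.H_comm
      (Moves Q) hmvP hY.ind_sub (gen_eta hη φ.1) (fun θ => if Orb T θ₀ θ then ε else 0)
      (fun θ hθ => by rw [h4 θ hθ]; split_ifs <;> simp)
      (fun θ hθ => if_neg fun ho => hθ (hT.moves_of_orb h2 ho))
    refine ⟨θ₀, h1, h2, A, fun x hx hxQ => ?_⟩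
    rw [hA x hx hxQ, Finset.mul_sum]
    congr 1
    exact Finset.sum_congr rfl fun θ _ => by split_ifs <;> simp
  choose θ₀ hfx hmv A hA using hR
  let g : ↥(Q ⊔ D) → ℂ := fun x =>
    ∑ φ : R, ∑ θ : ↥(Q ⊔ D) →* ℂˣ, if Orb T (θ₀ φ) θ then (θ x : ℂ) else 0
  have hδ : (δ : ℂ) * δ = 1 := by rcases hX.sign with e | e <;> simp [e]
  have hε : (ε : ℂ) * ε = 1 := by rcases hY.sign with e | e <;> simp [e]
  let k : ℤ := ε * (δ * Az - q * (Aq - 1) - 1 - ∑ φ : R, A φ)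
  have hgk : ∀ x : ↥(Q ⊔ D), x ≠ 1 → (x : G) ∈ Q → g x = (k : ℂ) := by
    intro x hx hxQ
    have hxc : (x : G) ∈ conjSet (Q ⊔ D) :=
      mem_conjSet.2 ⟨fun e => hx (Subtype.ext e), 1, by simp⟩
    have hx1 : (x : G) ∉ conjSet (P ⊔ C) := not_conjSet_of_conjSet hS hT hxc
    have hx2 : (x : G) ∉ crossSet W₁ W₂ := by
      intro hc
      obtain ⟨y, h1, h2, h3⟩ := mem_crossSet.1 hc
      refine not_crossSet_of_conjSet (W₁ := W₂) (W₂ := W₁) ?_ hT hxc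
        (mem_crossSet.2 ⟨y, sup_comm W₁ W₂ ▸ h1, h3, h2⟩)
      obtain ⟨a, b, c, d, e, f⟩ := hW
      refine ⟨b, a, by rwa [inf_comm], fun u hu v hv => (d v hv u hu).symm, sup_comm W₁ W₂ ▸ e, ?_⟩
      rw [sup_comm W₂ W₁, Set.union_comm]
      exact f
    have h := hz x hx1 hx2
    have hAz' := hAz x hx hxQ
    have hAq' := hAq x hx hxQ
    simp only [Int.cast_zero, zero_mul, Finset.sum_const_zero, zero_add] at hAz' hAq'
    rw [hAz', hAq', finsum_isP, ← Finset.add_sum_erase _ _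
      (show (1 : ↥(W₁ ⊔ W₂) →* ℂˣ) ∈ Finset.univ.filter IsP from
        Finset.mem_filter.2 ⟨Finset.mem_univ _, isP_one⟩)] at h
    have hsum : ∑ φ ∈ ((Finset.univ : Finset (↥(W₁ ⊔ W₂) →* ℂˣ)).filter IsP).erase 1, η φ (x : G) =
        (ε : ℂ) * g x + ∑ φ : R, (A φ : ℂ) := by
      rw [Finset.sum_subtype (p := fun φ : ↥(W₁ ⊔ W₂) →* ℂˣ => IsP φ ∧ φ ≠ 1)
        (((Finset.univ : Finset (↥(W₁ ⊔ W₂) →* ℂˣ)).filter IsP).erase 1) (fun φ => by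
          simp [and_comm])]
      rw [show (ε : ℂ) * g x = ∑ φ : R, (ε : ℂ) * (∑ θ : ↥(Q ⊔ D) →* ℂˣ,
        if Orb T (θ₀ φ) θ then (θ x : ℂ) else 0) from Finset.mul_sum _ _ _, ← Finset.sum_add_distrib]
      exact Finset.sum_congr rfl fun φ _ => hA φ x hx hxQ
    rw [hsum, hη.map_one] at h
    simp only [k]
    push_cast
    linear_combination (-(δ : ℂ) * ε) * h - g x * hε
      - (ε : ℂ) * (1 + (ε : ℂ) * g x + (∑ φ : R, (A φ : ℂ)) + q * ((Aq : ℂ) - 1)) * hδ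
  -- sum over Q
  obtain ⟨N, hNdef⟩ : ∃ N : ℕ, N = ∑ φ : R,
      (Finset.univ.filter fun θ : ↥(Q ⊔ D) →* ℂˣ => Orb T (θ₀ φ) θ).card := ⟨_, rfl⟩
  have hND : Nat.card D * N = (q - 1) * Nat.card V := by
    rw [hNdef, Finset.mul_sum, Finset.sum_congr rfl fun φ _ => hT.card_orb_fixed (hfx φ) (hmv φ),
      Finset.sum_const, smul_eq_mul, Finset.card_univ]
    congr 1
    rw [Fintype.card_subtype, show (Finset.univ.filter fun φ : ↥(W₁ ⊔ W₂) →* ℂˣ => IsP φ ∧ φ ≠ 1) =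
      (Finset.univ.filter fun φ : ↥(W₁ ⊔ W₂) →* ℂˣ => IsP φ).erase 1 by ext; simp [and_comm],
      Finset.card_erase_of_mem (Finset.mem_filter.2 ⟨Finset.mem_univ _, isP_one⟩), card_isP hW,
      hS.card_W₁]
  let Qs : Finset ↥(Q ⊔ D) := Finset.univ.filter fun x => (x : G) ∈ Q
  have h1Q : (1 : ↥(Q ⊔ D)) ∈ Qs := Finset.mem_filter.2 ⟨Finset.mem_univ _, Q.one_mem⟩
  have hQcard : Qs.card = q ^ p := by
    rw [← hT.card_P, ← Fintype.card_subtype, ← Nat.card_eq_fintype_card]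
    exact Nat.card_congr ⟨fun x => ⟨(x.1 : G), x.2⟩, fun a => ⟨⟨a, Subgroup.mem_sup_left a.2⟩, a.2⟩,
      fun _ => rfl, fun _ => rfl⟩
  have hzero : ∑ x ∈ Qs, g x = 0 := by
    rw [Finset.sum_comm]
    refine Finset.sum_eq_zero fun φ _ => ?_
    rw [Finset.sum_comm]
    refine Finset.sum_eq_zero fun θ _ => ?_
    split_ifs with ho
    · obtain ⟨y, hy, hy1⟩ := hT.moves_of_orb (hmv φ) ho
      have h3 : ∑ x ∈ Qs, (θ x : ℂ) = (θ y : ℂ) * ∑ x ∈ Qs, (θ x : ℂ) := by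
        rw [Finset.mul_sum]
        refine (Finset.sum_equiv (Equiv.mulLeft y) (fun x => ?_) fun x _ => by simp).symm
        simp only [Qs, Finset.mem_filter, Finset.mem_univ, true_and, Equiv.coe_mulLeft,
          Subgroup.coe_mul]
        exact (Q.mul_mem_cancel_left hy).symm
      by_contra hne
      exact hy1 (Units.ext (mul_right_cancel₀ hne (h3.symm.trans (one_mul _).symm)))
    · exact Finset.sum_const_zero
  have hg1 : g 1 = (N : ℂ) := by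
    simp only [g, map_one, Units.val_one, Finset.sum_boole, hNdef]
    push_cast
    rfl
  rw [← Finset.add_sum_erase _ _ h1Q, hg1, Finset.sum_congr rfl fun x hx => hgk x
    (Finset.mem_erase.1 hx).1 (Finset.mem_filter.1 (Finset.mem_erase.1 hx).2).2, Finset.sum_const,
    Finset.card_erase_of_mem h1Q, hQcard, nsmul_eq_mul] at hzero
  have hqp : 0 < q ^ p - 1 := by
    have := Nat.one_lt_pow hS.p_prime.ne_zero hS.q_prime.one_lt; omega
  have hdvd : (q ^ p - 1) ∣ N := by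
    have : (N : ℂ) = ((((q ^ p - 1 : ℕ) : ℤ) * (-k) : ℤ) : ℂ) := by
      push_cast
      linear_combination hzero
    have h2 : (N : ℤ) = ((q ^ p - 1 : ℕ) : ℤ) * (-k) := by exact_mod_cast this
    exact Int.natCast_dvd_natCast.1 ⟨_, h2⟩
  have hD : 0 < Nat.card D := Nat.card_pos
  have hub : N ≤ q ^ p - 1 := by
    refine Nat.le_of_mul_le_mul_left ?_ hD
    rw [hND, mul_comm (q - 1), mul_comm (Nat.card D)]
    exact hT.u_le
  have hN0 : N ≠ 0 := by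
    intro e
    rw [e, mul_zero] at hND
    have := hS.q_prime.two_le
    have : 0 < (q - 1) * Nat.card V := Nat.mul_pos (by omega) Nat.card_pos
    omega
  have hNeq : N = q ^ p - 1 := le_antisymm hub (Nat.le_of_dvd (Nat.pos_of_ne_zero hN0) hdvd)
  rw [mul_comm, ← hND, hNeq, mul_comm]

end Cfsg.Agent.Lib.OddOrder.PF13
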