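import Mathlib
import Cfsg.Agent.Lib.OddOrder.PF13.Count

/-!
# Peterfalvi 13: the inequality (13.10)

`|τ₁ λ|² + |η₁₀|²` summed over `G` is `2 |G|`; off the conjugates of `H#`, `K#` and of the cross
set one of the two is non-zero, which gives a lower bound for `u / c`.
-/

set_option autoImplicit false
set_option linter.unusedSectionVars false

namespace Cfsg.Agent.Lib.OddOrder.PF13

open scoped ComplexConjugate Classical
open Cfsg.Agent.Lib.Induced.Basic Cfsg.Agent.Lib.Characters.Basic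
open Cfsg.Agent.Lib.CyclicTI

universe u

theorem bound_orbit {P c M A B r : ℤ} (hP : 1 ≤ P) (hA : A ^ 2 ≤ c * B)
    (hr : A = 0 ∨ r ≤ |A|) (hM : 2 * M ≤ (P - 1) * r) (hM0 : 0 ≤ M) :
    P * c * M - M ^ 2 ≤ P * c * (M + B) - (M + A) ^ 2 := by
  have h1 : P * A ^ 2 ≤ P * (c * B) := mul_le_mul_of_nonneg_left hA (by linarith)
  have h2 : 2 * M * |A| ≤ (P - 1) * A ^ 2 := by
    rcases hr with h | h
    · simp [h]
    · calc 2 * M * |A| ≤ (P - 1) * r * |A| := mul_le_mul_of_nonneg_right hM (abs_nonneg _)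
        _ ≤ (P - 1) * |A| * |A| := by
          refine mul_le_mul_of_nonneg_right ?_ (abs_nonneg _)
          exact mul_le_mul_of_nonneg_left h (by linarith)
        _ = (P - 1) * A ^ 2 := by rw [← sq_abs A]; ring
  have h3 : M * A ≤ M * |A| := mul_le_mul_of_nonneg_left (le_abs_self A) hM0
  nlinarith

theorem bound_const {P c A B : ℤ} (hP : 2 ≤ P) (hc : 1 ≤ c) (hA : A ^ 2 ≤ c * B) (hAB : |A| ≤ B)
    (hA0 : A ≠ 0) : P * c - 1 ≤ P * c * B - A ^ 2 := by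
  have h1 : 1 ≤ |A| := Int.one_le_abs hA0
  by_cases hB : B = 1
  · subst hB
    have : |A| = 1 := le_antisymm hAB h1
    rw [← sq_abs A, this]; linarith
  · have h2 : 2 ≤ B := by omega
    nlinarith [mul_le_mul_of_nonneg_left h2 (mul_nonneg (by linarith : (0:ℤ) ≤ P - 1) (by linarith : (0:ℤ) ≤ c))]

/-- The final computation of (13.10). -/
theorem final_arith {g sS sT P Q c d q u v p nH nK a b e : ℝ} (hG : 0 < g) (hS0 : 0 < sS)
    (hT0 : 0 < sT) (hu : 1 ≤ u) (hv : 1 ≤ v) (hd : 1 ≤ d) (hq : 1 ≤ q)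
    (hQv : v * (q - 1) = Q - 1) (e1 : sS = P * c * (q * u)) (e2 : sT = Q * d * v * p)
    (Z1 : g * (P * c * (q * u) - (q * u) ^ 2) ≤ sS * a) (E1 : g * (P * c - 1) ≤ sS * b)
    (K1 : g * (Q * d * v - v ^ 2) ≤ sT * e) (ch : sS * nH = g * (P * c - 1))
    (ck : sT * nK = g * (Q * d - 1)) (hle : a + b + e ≤ g + nH + nK) :
    P * c * ((v - 1) * (q - 2)) ≤ Q * p * (q * u) := by
  have key : sS * (Q * d * v - v ^ 2 - (Q * d - 1)) ≤ sT * (q * u) ^ 2 := by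
    refine le_of_mul_le_mul_left ?_ hG
    have h1 := mul_le_mul_of_nonneg_left hle (mul_nonneg hS0.le hT0.le)
    have h2 := mul_le_mul_of_nonneg_left Z1 hT0.le
    have h3 := mul_le_mul_of_nonneg_left E1 hT0.le
    have h4 := mul_le_mul_of_nonneg_left K1 hS0.le
    linear_combination h1 + h2 + h3 + h4 + sT * ch + sS * ck + sT * g * e1
  have h5 : (v - 1) * (d * ((q - 2) * v)) ≤ Q * d * v - v ^ 2 - (Q * d - 1) := by
    have hQ : Q = v * (q - 1) + 1 := by linarith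
    subst hQ
    nlinarith [mul_nonneg (mul_nonneg (sub_nonneg.2 hv) (sub_nonneg.2 hd)) (by linarith : (0 : ℝ) ≤ v + 1)]
  rw [e1] at key
  rw [e2] at key
  rw [e1] at hS0
  have h6 : P * c * (q * u) * ((v - 1) * (d * ((q - 2) * v))) ≤ Q * d * v * p * (q * u) ^ 2 :=
    le_trans (mul_le_mul_of_nonneg_left h5 hS0.le) key
  refine le_of_mul_le_mul_left ?_ (by positivity : (0 : ℝ) < q * u * (d * v))
  linarith [h6]

/-- A `q`-th root of unity is `1` modulo a prime over `q`. -/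
theorem modEq_root {W : Type u} [Group W] [Finite W] {M : Ideal Cfsg.AlgInt} {q : ℕ}
    (hM : Cfsg.IsPModular q M) (φ : W →* ℂˣ) {w : W} (hw : w ^ q = 1) :
    ModEq M (φ w : ℂ) 1 := by
  haveI := Fintype.ofFinite W
  have h := modEq_mul hM (Induced.Generalized.of_isCharacter (Induced.Character.isCharacter_hom φ))
    (x := 1) (y := w) (by simp) hw
  simpa using h

theorem ModEq.of_eq_mul {M : Ideal Cfsg.AlgInt} {q : ℕ} (hM : Cfsg.IsPModular q M) {z : ℂ}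
    (hz : IsIntegral ℤ z) : ModEq M ((q : ℂ) * z) 0 :=
  ⟨(q : Cfsg.AlgInt) * ⟨z, hz⟩, M.mul_mem_right _ hM.2.2, by simp⟩

theorem sum_normSq_of_norm_one {G : Type u} [Group G] [Fintype G] {χ : G → ℂ}
    (h : Cfsg.classInner χ χ = 1) : ∑ g, Complex.normSq (χ g) = (Fintype.card G : ℝ) := by
  rw [Cfsg.classInner, inv_mul_eq_iff_eq_mul₀ (Nat.cast_ne_zero.2 Nat.card_pos.ne'), mul_one,
    Nat.card_eq_fintype_card] at h
  simp only [Complex.mul_conj] at h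
  exact_mod_cast h

variable {G : Type u} [Group G] [Fintype G] {p q : ℕ} {S T P C Q D U V W₁ W₂ : Subgroup G}
  {η : (↥(W₁ ⊔ W₂) →* ℂˣ) → G → ℂ} {X : (↥(P ⊔ C) →* ℂˣ) → G → ℂ}
  {Y : (↥(Q ⊔ D) →* ℂˣ) → G → ℂ} {δ ε : ℤ}

theorem pow_mem_conjSet {H : Subgroup G} {k : ℕ} (hk : k.Coprime (Nat.card G)) {g : G}
    (h : g ^ k ∈ conjSet H) : g ∈ conjSet H := by
  obtain ⟨h1, x, hx⟩ := mem_conjSet.1 h
  refine mem_conjSet.2 ⟨fun e => h1 (by rw [e, one_pow]), x, ?_⟩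
  by_contra hn
  refine GaloisMean.Basic.pow_notMem H hn hk ?_
  rwa [conj_pow]

theorem pow_mem_crossSet {k : ℕ} (hk : k.Coprime (Nat.card G)) {g : G}
    (h : g ^ k ∈ crossSet W₁ W₂) : g ∈ crossSet W₁ W₂ := by
  obtain ⟨x, hx, h1, h2⟩ := mem_crossSet.1 h
  rw [← conj_pow] at hx h1 h2
  refine mem_crossSet.2 ⟨x, ?_, fun e => h1 (pow_mem e k), fun e => h2 (pow_mem e k)⟩
  by_contra hn
  exact GaloisMean.Basic.pow_notMem _ hn hk hx

theorem exists_coprime_lift {N q : ℕ} (hN : N ≠ 0) (hq : q ∣ N) {j : ℕ} (hj : j.Coprime q) :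
    ∃ k l : ℕ, k.Coprime N ∧ k * l ≡ 1 [MOD N] ∧ l ≡ j [MOD q] := by
  haveI : NeZero N := ⟨hN⟩
  obtain ⟨w, hw⟩ := ZMod.unitsMap_surjective hq (ZMod.unitOfCoprime j hj)
  refine ⟨((w⁻¹ : (ZMod N)ˣ) : ZMod N).val, (w : ZMod N).val, ZMod.val_coe_unit_coprime _, ?_, ?_⟩
  · rw [← ZMod.natCast_eq_natCast_iff, Nat.cast_mul, ZMod.natCast_zmod_val, ZMod.natCast_zmod_val,
      Nat.cast_one, ← Units.val_mul, inv_mul_cancel, Units.val_one]
  · rw [← ZMod.natCast_eq_natCast_iff]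
    have h := congrArg (fun t : (ZMod q)ˣ => (t : ZMod q)) hw
    simp only [ZMod.unitsMap_def, Units.coe_map, MonoidHom.coe_coe, ZMod.coe_unitOfCoprime] at h
    rw [← h, ZMod.castHom_apply, ZMod.cast_eq_val]

variable (hW : Cfsg.IsSelfNormalizingCyclic W₁ W₂) (hodd : Odd (Nat.card G))
  (hη : Cfsg.IsCyclicTIFamily W₁ W₂ η)
  (hS : Side p q S P C U W₁ W₂) (hT : Side q p T Q D V W₂ W₁)
  (hX : SideChar (W₁ ⊔ W₂) W₁ W₂ S P (P ⊔ C) η X δ)
  (hY : SideChar (W₁ ⊔ W₂) W₂ W₁ T Q (Q ⊔ D) η Y ε)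
  (hcr : CrossOrth S P X Q Y) {lam : ↥(P ⊔ C) →* ℂˣ} (hlam : IsFree S P lam)

include hW hodd hη hS hX hlam in
/-- Off the conjugates of `H#` and the cross set `τ₁ λ` or `η₁₀` is non-zero. -/
theorem ne_zero_or_ne_zero {φ₀ : ↥(W₁ ⊔ W₂) →* ℂˣ} (hφ : IsP φ₀) (hφ1 : φ₀ ≠ 1) {g : G}
    (hg1 : g ∉ conjSet (P ⊔ C)) (hg2 : g ∉ crossSet W₁ W₂) : X lam g ≠ 0 ∨ η φ₀ g ≠ 0 := by
  by_contra hcon
  push Not at hcon
  obtain ⟨hz0, he0⟩ := hcon
  obtain ⟨ψ₁, -, -, hz⟩ := zeta_outside hW hη hS hX hlam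
  haveI := CyclicTI.finite_hom (G := G) (W₁ := W₁) (W₂ := W₂)
  haveI := Fintype.ofFinite (↥(W₁ ⊔ W₂) →* ℂˣ)
  have hWodd : Odd (Nat.card ↥(W₁ ⊔ W₂)) := hodd.of_dvd_nat (Subgroup.card_subgroup_dvd_card _)
  have hall : ∀ φ : ↥(W₁ ⊔ W₂) →* ℂˣ, IsP φ → φ ≠ 1 → η φ g = 0 := by
    intro φ hP hne
    let K : Subgroup (↥(W₁ ⊔ W₂) →* ℂˣ) :=
      { carrier := {φ | IsP φ}
        one_mem' := isP_one
        mul_mem' := fun a b => a.mul b
        inv_mem' := fun {a} ha w hw => by simp [ha w hw] }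
    have hK : Nat.card K = q := by
      rw [← hS.card_W₁, ← card_isP hW, Nat.card_eq_fintype_card]
      exact Fintype.card_subtype _
    haveI : Fact (Nat.card K).Prime := ⟨hK ▸ hS.q_prime⟩
    have hgen : Subgroup.zpowers (⟨φ₀, hφ⟩ : K) = ⊤ :=
      zpowers_eq_top_of_prime_card rfl fun e => hφ1 (congrArg Subtype.val e)
    obtain ⟨j, hj⟩ := (isOfFinOrder_of_finite (⟨φ₀, hφ⟩ : K)).mem_powers_iff_mem_zpowers.2
      (hgen ▸ Subgroup.mem_top (⟨φ, hP⟩ : K))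
    let x₀ : K := ⟨φ₀, hφ⟩
    have hx₀ : x₀ ^ q = 1 := hK ▸ pow_card_eq_one' (x := x₀)
    have hjq : j.Coprime q := by
      rw [Nat.coprime_comm, hS.q_prime.coprime_iff_not_dvd]
      rintro ⟨t, rfl⟩
      have h1 : (⟨φ, hP⟩ : K) = 1 := hj.symm.trans (by
        show x₀ ^ (q * t) = 1
        rw [pow_mul, hx₀, one_pow])
      exact hne (congrArg Subtype.val h1)
    obtain ⟨k, l, hk, hkl, hlj⟩ := exists_coprime_lift Nat.card_pos.ne'
      (hS.card_W₁ ▸ Subgroup.card_subgroup_dvd_card W₁) hjq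
    have hpl : φ₀ ^ l = φ := by
      have h1 : x₀ ^ l = x₀ ^ j := by
        rw [pow_eq_pow_iff_modEq]
        exact hlj.of_dvd (orderOf_dvd_of_pow_eq_one hx₀)
      have h2 : ((x₀ ^ l : K) : ↥(W₁ ⊔ W₂) →* ℂˣ) = φ := congrArg Subtype.val (h1.trans hj)
      rw [← h2, SubgroupClass.coe_pow]
    have hgl : (g ^ l) ^ k = g := by
      rw [← pow_mul, mul_comm]
      conv_rhs => rw [← pow_one g]
      rw [pow_eq_pow_iff_modEq]
      exact hkl.of_dvd (orderOf_dvd_natCard g)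
    have h1 := family_pow hW hWodd hη hk hkl φ₀ (g ^ l)
    rw [hgl, hpl] at h1
    rw [h1]
    by_contra h2
    obtain h | h := hη.irr_or_neg φ₀
    · have := GaloisMean.Basic.char_pow_ne_zero (IsCharacter_of_isIrrCharacter h) h2 hk
      rw [hgl] at this; exact this he0
    · have := GaloisMean.Basic.char_pow_ne_zero (IsCharacter_of_isIrrCharacter h)
        (show (-η φ₀) (g ^ l) ≠ 0 by simpa using h2) hk
      rw [hgl] at this; exact this (by simpa using he0)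
  have h := hz g hg1 hg2
  rw [hz0, finsum_isP, Finset.sum_eq_single (1 : ↥(W₁ ⊔ W₂) →* ℂˣ)
    (fun φ hφ' hne => hall φ (Finset.mem_filter.1 hφ').2 hne)
    (fun h => absurd (Finset.mem_filter.2 ⟨Finset.mem_univ _, isP_one⟩) h), hη.map_one] at h
  have hδ : (δ : ℂ) ≠ 0 := by rcases hX.sign with e | e <;> simp [e]
  have h2 := (mul_eq_zero.1 h.symm).resolve_left hδ
  have hqC : (q : ℂ) ≠ 0 := Nat.cast_ne_zero.2 hS.q_prime.ne_zero
  obtain ⟨m, hm⟩ := exists_int_of_rat (z := 1 - η ψ₁ g)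
    (isIntegral_one.sub (isIntegral_of_isGen (gen_eta hη ψ₁) g)) (1 / q) (by
      push_cast
      rw [div_eq_iff hqC]
      linear_combination h2)
  have h3 : ((m * q : ℤ) : ℂ) = ((1 : ℤ) : ℂ) := by
    push_cast
    rw [hm]
    linear_combination -h2
  have h4 : m * q = 1 := by exact_mod_cast h3
  have := Int.eq_one_of_mul_eq_one_left (by positivity) h4
  exact hS.q_prime.one_lt.ne' (by exact_mod_cast this)

include hW hη hS hX hlam in
/-- The value of `∑_{orbit} θ` at an element of `W₂` is divisible by `q`. -/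
theorem orbit_sum_W₂ [Fintype (↥(P ⊔ C) →* ℂˣ)] (y : ↥(P ⊔ C)) (hy : (y : G) ∈ W₂) :
    ∃ z : ℂ, IsIntegral ℤ z ∧
      (∑ θ : ↥(P ⊔ C) →* ℂˣ, if Orb S lam θ then (θ y : ℂ) else 0) = (q : ℂ) * z := by
  have h := hS.sum_orb lam y
  rw [hS.card_stab_free hlam] at h
  let K : Subgroup ↥S := (Subgroup.centralizer ({(y : G)} : Set G)).subgroupOf S
  let f : ↥S → ℂ := fun s => (lam ⟨(s : G) * y * (s : G)⁻¹, hS.conj_H s.2 y.2⟩ : ℂ)
  have hinv : ∀ (s : ↥S) (k : K), f (s * (k : ↥S)) = f s := by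
    intro s k
    show (lam _ : ℂ) = (lam _ : ℂ)
    congr 2
    apply Subtype.ext
    show ((s : G) * ((k : ↥S) : G)) * y * ((s : G) * ((k : ↥S) : G))⁻¹ = (s : G) * y * (s : G)⁻¹
    have hk : ((k : ↥S) : G) * y = y * ((k : ↥S) : G) :=
      Subgroup.mem_centralizer_singleton_iff.1 (Subgroup.mem_subgroupOf.1 k.2)
    rw [mul_inv_rev, mul_assoc (s : G), hk]
    group
  have hsum : ∑ s : ↥S, f s = (Nat.card K : ℂ) * ∑ c : ↥S ⧸ K, f c.out := by
    rw [← Finset.sum_fiberwise Finset.univ (fun s : ↥S => (s : ↥S ⧸ K)), Finset.mul_sum]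
    refine Finset.sum_congr rfl fun c _ => ?_
    rw [Finset.sum_congr rfl (g := fun _ => f c.out) fun s hs => ?_, Finset.sum_const, nsmul_eq_mul]
    · congr 2
      rw [← Nat.card_eq_finsetCard]
      refine Nat.card_congr ((Equiv.subtypeEquivRight fun s => ?_).trans
        ((Subgroup.leftCosetEquivSubgroup c.out).trans (Equiv.refl _)))
      simp only [Finset.mem_filter, Finset.mem_univ, true_and]
      rw [mem_leftCoset_iff, SetLike.mem_coe, ← QuotientGroup.eq]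
      rw [QuotientGroup.out_eq', eq_comm]
    · have hs' := (Finset.mem_filter.1 hs).2
      obtain ⟨k, hk⟩ := QuotientGroup.mk_out_eq_mul K s
      rw [← hs', hk]
      exact (hinv s k).symm
  have hdvd : Nat.card (P ⊔ C : Subgroup G) * q ∣ Nat.card K := by
    have hK : Nat.card K = Nat.card ↥(Subgroup.centralizer ({(y : G)} : Set G) ⊓ S) := by
      rw [← Subgroup.subgroupOf_map_subtype]
      exact Nat.card_congr (K.equivMapOfInjective _ S.subtype_injective).toEquiv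
    rw [hK]
    refine Nat.Coprime.mul_dvd_of_dvd_of_dvd hS.coprime_q.symm ?_ ?_
    · exact Subgroup.card_dvd_of_le fun x hx =>
        ⟨Subgroup.mem_centralizer_singleton_iff.2 (hS.H_comm x hx y y.2), hS.H_le hx⟩
    · rw [← hS.card_W₁]
      exact Subgroup.card_dvd_of_le fun x hx =>
        ⟨Subgroup.mem_centralizer_singleton_iff.2 (hS.W₂_comm x hx y hy), hS.W₁_le hx⟩
  obtain ⟨r, hr⟩ := hdvd
  refine ⟨(r : ℂ) * ∑ c : ↥S ⧸ K, f c.out, ?_, ?_⟩
  · have hri : IsIntegral ℤ (r : ℂ) := by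
      simpa using (isIntegral_algebraMap (R := ℤ) (A := ℂ) (x := (r : ℤ)))
    exact hri.mul
      (IsIntegral.sum _ fun c _ => isIntegral_apply (Induced.Character.isCharacter_hom lam) _)
  · refine mul_left_cancel₀ (Nat.cast_ne_zero.2 (Nat.card_pos (α := ↥(P ⊔ C))).ne' :
      (Nat.card ↥(P ⊔ C) : ℂ) ≠ 0) ?_
    rw [h, hsum, hr]
    push_cast
    ring

include hW hodd hη hS hT hX hY hcr hlam in
/-- Peterfalvi (13.10). -/
theorem count_ineq {u v : ℕ} (hu : Nat.card U = u * Nat.card C)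
    (hv : Nat.card V = v * Nat.card D) :
    Nat.card C * p ^ (q - 1) * (q - 2) * (v - 1) ≤ q * u * q ^ p := by
  have hfull := full_of_free hW hη hS hT hX hY hcr hlam
  haveI := CyclicTI.finite_hom (G := G) (W₁ := W₁) (W₂ := W₂)
  haveI := Fintype.ofFinite (↥(W₁ ⊔ W₂) →* ℂˣ)
  letI : CommGroup ↥(P ⊔ C) := { (inferInstance : Group ↥(P ⊔ C)) with
    mul_comm := fun a b => Subtype.ext (hS.H_comm a a.2 b b.2) }
  letI : CommGroup ↥(Q ⊔ D) := { (inferInstance : Group ↥(Q ⊔ D)) with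
    mul_comm := fun a b => Subtype.ext (hT.H_comm a a.2 b b.2) }
  haveI iP : Fintype (↥(P ⊔ C) →* ℂˣ) := GaloisMean.AbelianForm.dualFintype
  haveI iQ : Fintype (↥(Q ⊔ D) →* ℂˣ) := GaloisMean.AbelianForm.dualFintype
  have hmvP : ∀ θ : ↥(P ⊔ C) →* ℂˣ, ¬ Moves P θ → ∀ x : ↥(P ⊔ C), (x : G) ∈ P → θ x = 1 := by
    intro θ hθ x hx; by_contra h; exact hθ ⟨x, hx, h⟩
  have hmvQ : ∀ θ : ↥(Q ⊔ D) →* ℂˣ, ¬ Moves Q θ → ∀ x : ↥(Q ⊔ D), (x : G) ∈ Q → θ x = 1 := by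
    intro θ hθ x hx; by_contra h; exact hθ ⟨x, hx, h⟩
  have hgz := hX.generalized lam hlam.1
  -- a non-trivial `φ₀` killing `W₂`
  obtain ⟨w₁, hw₁, hw₁1⟩ := hS.exists_W₁_ne
  obtain ⟨φ₀, hφ, hφw⟩ := exists_isP_apply_ne_one hW
    (w := CyclicTI.inl (W₂ := W₂) hw₁) (fun h => hw₁1 (eq_one_of_mem hW hw₁ h))
  have hφ1 : φ₀ ≠ 1 := fun e => hφw (by rw [e]; rfl)
  obtain ⟨y, hy, hy1⟩ := hS.one_lt_card_W₂
  let y' : ↥(P ⊔ C) := ⟨y, hS.mem_H_of_W₂ hy⟩
  have hy' : y' ≠ 1 := fun e => hy1 (congrArg Subtype.val e)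
  have hcross : y * w₁ ∈ crossSet W₁ W₂ := by
    refine mem_crossSet.2 ⟨1, ?_⟩
    simp only [one_mul, inv_one, mul_one]
    refine ⟨mul_mem (Subgroup.mem_sup_right hy) (Subgroup.mem_sup_left hw₁), fun h => ?_, fun h => ?_⟩
    · exact hy1 (eq_one_of_mem hW (by simpa using mul_mem h (inv_mem hw₁)) hy)
    · exact hw₁1 (eq_one_of_mem hW hw₁ (by simpa using mul_mem (inv_mem hy) h))
  have hcomm : y * w₁ = w₁ * y := (hW.2.2.2.1 w₁ hw₁ y hy).symm
  have hw₁q : w₁ ^ q = 1 := by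
    rw [← hS.card_W₁]
    exact congrArg Subtype.val (show (⟨w₁, hw₁⟩ : W₁) ^ Nat.card W₁ = 1 from pow_card_eq_one')
  obtain ⟨M, hM⟩ := Blocks.exists_isPModular q hS.q_prime
  -- `ζ` on H
  let Ψz : (↥(P ⊔ C) →* ℂˣ) → ℤ := fun θ => if Orb S lam θ then 1 else 0
  obtain ⟨Az, Bz, hzA, hzB, hzP, hzS⟩ := restrict_formula (P := P) (H := P ⊔ C) le_sup_left hS.H_comm
    (Moves P) hmvP hX.ind_sub hgz Ψz
    (fun θ hθ => by rw [hS.inner_free hX hlam hθ]; simp only [Ψz]; split_ifs <;> simp)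
    (fun θ hθ => if_neg fun ho => hθ (hS.moves_of_orb hlam.1 ho))
  let Mz : ℕ := (Finset.univ.filter fun θ : ↥(P ⊔ C) →* ℂˣ => Orb S lam θ).card
  have hΨz1 : ∑ θ, Ψz θ = (Mz : ℤ) := by simp [Ψz, Mz, Finset.sum_boole]
  have hΨz2 : ∑ θ, Ψz θ ^ 2 = (Mz : ℤ) := by
    rw [← hΨz1]; exact Finset.sum_congr rfl fun θ _ => by simp only [Ψz]; split_ifs <;> simp
  have hc0 : 0 < Nat.card C := Nat.card_pos
  have hd0 : 0 < Nat.card D := Nat.card_pos
  have hMz : Mz = q * u := by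
    have h1 := hS.card_orb_free hlam
    rw [hu] at h1
    refine Nat.eq_of_mul_eq_mul_left hc0 (h1.trans ?_)
    ring
  have hAz : Az = 0 ∨ (q : ℤ) ≤ |Az| := by
    obtain ⟨z, hzi, hz⟩ := orbit_sum_W₂ hW hη hS hX hlam y' hy
    have h1 := modEq_mul hM hgz (x := y) (y := w₁) hcomm hw₁q
    rw [zeta_cross hW hη hS hX hlam hcross, hzP y' hy' (hS.W₂_le hy)] at h1
    have h2 : (∑ θ, (Ψz θ : ℂ) * (θ y' : ℂ)) = (q : ℂ) * z := by
      rw [← hz]; exact Finset.sum_congr rfl fun θ _ => by simp only [Ψz]; split_ifs <;> simp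
    have h3 : ModEq M ((q : ℂ) * z + (Az : ℂ)) (Az : ℂ) := by
      obtain ⟨t, ht, ht'⟩ := ModEq.of_eq_mul hM hzi
      exact ⟨t, ht, by rw [← ht']; ring⟩
    rw [h2] at h1
    have h4 : ModEq M ((0 : ℤ) : ℂ) (Az : ℂ) := by simpa using h1.trans h3
    have h5 := dvd_of_modEq hM h4
    rw [zero_sub, Int.dvd_neg] at h5
    by_cases h0 : Az = 0
    · exact Or.inl h0
    · exact Or.inr (Int.le_of_dvd (abs_pos.2 h0) ((dvd_abs _ _).2 h5))
  -- `η φ₀` on H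
  obtain ⟨Ah, Bh, hhA, hhB, hhP, hhS⟩ := restrict_formula (P := P) (H := P ⊔ C) le_sup_left
    hS.H_comm (Moves P) hmvP hX.ind_sub (gen_eta hη φ₀) (fun _ => 0)
    (fun θ hθ => by
      rw [hS.inner_eta_P hX (dualFacts_left hW hS.card_W₂)
        (fun a b => by convert hη.orthonormal a b) hφ hθ]; simp) (fun _ _ => rfl)
  have hAh : Ah ≠ 0 := by
    have h1 := modEq_mul hM (gen_eta hη φ₀) (x := y) (y := w₁) hcomm hw₁q
    rw [hhP y' hy' (hS.W₂_le hy)] at h1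
    simp only [Int.cast_zero, zero_mul, Finset.sum_const_zero, zero_add] at h1
    obtain ⟨-, hc1, hc2⟩ : (y * w₁ ∈ W₁ ⊔ W₂) ∧ y * w₁ ∉ W₁ ∧ y * w₁ ∉ W₂ := by
      refine ⟨mul_mem (Subgroup.mem_sup_right hy) (Subgroup.mem_sup_left hw₁), fun h => ?_, fun h => ?_⟩
      · exact hy1 (eq_one_of_mem hW (by simpa using mul_mem h (inv_mem hw₁)) hy)
      · exact hw₁1 (eq_one_of_mem hW hw₁ (by simpa using mul_mem (inv_mem hy) h))
    have h2 : η φ₀ (y * w₁) = (φ₀ (CyclicTI.inl (W₂ := W₂) hw₁) : ℂ) := by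
      have h3 := hη.eq_on φ₀ (CyclicTI.inr (W₁ := W₁) hy * CyclicTI.inl (W₂ := W₂) hw₁) hc1 hc2
      rw [map_mul, hφ (CyclicTI.inr hy) hy, one_mul] at h3
      exact h3
    rw [h2] at h1
    have h4 : ModEq M ((Ah : ℤ) : ℂ) ((1 : ℤ) : ℂ) := by
      simpa using h1.symm.trans (modEq_root hM φ₀ (w := CyclicTI.inl (W₂ := W₂) hw₁)
        (Subtype.ext (by simpa [CyclicTI.inl] using hw₁q)))
    have h5 := dvd_of_modEq hM h4
    intro h0
    rw [h0, zero_sub, Int.dvd_neg] at h5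
    have := Int.le_of_dvd one_pos h5
    have := hS.q_prime.two_le
    omega
  -- `η φ₀` on K
  obtain ⟨θ₀, hf₀, hm₀, -, hin⟩ := hT.inner_eta_Q hY (dualFacts_right hW hS.card_W₁)
    (fun a b => by convert hη.orthonormal a b) hφ hφ1
  obtain ⟨Ak, Bk, hkA, hkB, -, hkS⟩ := restrict_formula (P := Q) (H := Q ⊔ D) le_sup_left hT.H_comm
    (Moves Q) hmvQ hY.ind_sub (gen_eta hη φ₀) (fun θ => if Orb T θ₀ θ then ε else 0)
    (fun θ hθ => by rw [hin θ hθ]; split_ifs <;> simp)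
    (fun θ hθ => if_neg fun ho => hθ (hT.moves_of_orb hm₀ ho))
  let Mk : ℕ := (Finset.univ.filter fun θ : ↥(Q ⊔ D) →* ℂˣ => Orb T θ₀ θ).card
  have hεsq : ε ^ 2 = 1 := by rcases hY.sign with e | e <;> simp [e]
  have hΨk1 : ∑ θ : ↥(Q ⊔ D) →* ℂˣ, (if Orb T θ₀ θ then ε else 0) = (Mk : ℤ) * ε := by
    rw [← Finset.sum_filter, Finset.sum_const, nsmul_eq_mul]
  have hΨk2 : ∑ θ : ↥(Q ⊔ D) →* ℂˣ, (if Orb T θ₀ θ then ε else 0) ^ 2 = (Mk : ℤ) := by
    simp [ite_pow, hεsq, Mk, Finset.sum_boole]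
  have hMk : Mk = v := by
    have h1 := hT.card_orb_fixed hf₀ hm₀
    rw [hv] at h1
    exact Nat.eq_of_mul_eq_mul_left hd0 (h1.trans (mul_comm _ _))
  -- numeric facts
  have hp2 : 2 ≤ p - 1 := by have := hS.p_prime.two_le; have := hS.p_odd; omega
  have hq2 : 2 ≤ q - 1 := by have := hS.q_prime.two_le; have := hS.q_odd; omega
  have hPq : 1 ≤ p ^ q := Nat.one_le_pow _ _ hS.p_prime.pos
  have hQp : 1 ≤ q ^ p := Nat.one_le_pow _ _ hS.q_prime.pos
  have hu_le : u * (p - 1) ≤ p ^ q - 1 := by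
    refine Nat.le_of_mul_le_mul_left ?_ hc0
    have h1 := hS.u_le
    rw [hu] at h1
    calc Nat.card C * (u * (p - 1)) = u * Nat.card C * (p - 1) := by ring
      _ ≤ _ := h1
      _ = _ := mul_comm _ _
  have hv_eq : v * (q - 1) = q ^ p - 1 := by
    refine Nat.eq_of_mul_eq_mul_left hd0 ?_
    rw [hv] at hfull
    calc Nat.card D * (v * (q - 1)) = v * Nat.card D * (q - 1) := by ring
      _ = _ := hfull
      _ = _ := mul_comm _ _
  have hHcard : ((Nat.card ↥(P ⊔ C) : ℕ) : ℤ) = ((p ^ q : ℕ) : ℤ) * (Nat.card C : ℤ) := by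
    rw [hS.card_H]; push_cast; ring
  have hKcard : ((Nat.card ↥(Q ⊔ D) : ℕ) : ℤ) = ((q ^ p : ℕ) : ℤ) * (Nat.card D : ℤ) := by
    rw [hT.card_H]; push_cast; ring
  have hNc : ((Finset.univ.filter fun θ : ↥(P ⊔ C) →* ℂˣ => ¬ Moves P θ).card : ℤ) ≤ Nat.card C := by
    exact_mod_cast hS.card_not_moves
  have hNd : ((Finset.univ.filter fun θ : ↥(Q ⊔ D) →* ℂˣ => ¬ Moves Q θ).card : ℤ) ≤ Nat.card D := by
    exact_mod_cast hT.card_not_moves
  have bz : ((p ^ q : ℕ) : ℤ) * Nat.card C * Mz - (Mz : ℤ) ^ 2 ≤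
      ((p ^ q : ℕ) : ℤ) * Nat.card C * (Mz + Bz) - ((Mz : ℤ) + Az) ^ 2 := by
    refine bound_orbit (r := q) (by exact_mod_cast hPq) ?_ hAz ?_ (Nat.cast_nonneg _)
    · exact hzA.trans (mul_le_mul_of_nonneg_right hNc (le_trans (abs_nonneg _) hzB))
    · rw [hMz]
      have h1 : 2 * (q * u) ≤ (p ^ q - 1) * q := by
        calc 2 * (q * u) = q * (u * 2) := by ring
          _ ≤ q * (u * (p - 1)) := by gcongr
          _ ≤ q * (p ^ q - 1) := by gcongr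
          _ = _ := mul_comm _ _
      have h1' : ((2 * (q * u) : ℕ) : ℤ) ≤ (((p ^ q - 1) * q : ℕ) : ℤ) := by exact_mod_cast h1
      push_cast [Nat.cast_sub hPq] at h1' ⊢
      exact h1'
  have bh : ((p ^ q : ℕ) : ℤ) * Nat.card C - 1 ≤ ((p ^ q : ℕ) : ℤ) * Nat.card C * Bh - Ah ^ 2 := by
    refine bound_const ?_ (by exact_mod_cast hc0) ?_ hhB hAh
    · exact_mod_cast Nat.one_lt_pow hS.q_prime.ne_zero hS.p_prime.one_lt
    · exact hhA.trans (mul_le_mul_of_nonneg_right hNc (le_trans (abs_nonneg _) hhB))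
  have bk : ((q ^ p : ℕ) : ℤ) * Nat.card D * Mk - (Mk : ℤ) ^ 2 ≤
      ((q ^ p : ℕ) : ℤ) * Nat.card D * (Mk + Bk) - ((Mk : ℤ) + ε * Ak) ^ 2 := by
    refine bound_orbit (r := 1) (by exact_mod_cast hQp) ?_ ?_ ?_ (Nat.cast_nonneg _)
    · rw [mul_pow, hεsq, one_mul]
      exact hkA.trans (mul_le_mul_of_nonneg_right hNd (le_trans (abs_nonneg _) hkB))
    · by_cases h0 : ε * Ak = 0
      · exact Or.inl h0
      · exact Or.inr (Int.one_le_abs h0)
    · rw [hMk, mul_one]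
      have h1 : 2 * v ≤ q ^ p - 1 := by rw [← hv_eq, mul_comm]; gcongr
      have h1' : ((2 * v : ℕ) : ℤ) ≤ ((q ^ p - 1 : ℕ) : ℤ) := by exact_mod_cast h1
      push_cast [Nat.cast_sub hQp] at h1' ⊢
      exact h1'
  -- sums over the conjugates
  have hnH : ∀ l ∈ S, ∀ x ∈ P ⊔ C, l * x * l⁻¹ ∈ P ⊔ C := fun l hl x hx => hS.conj_H hl hx
  have hnK : ∀ l ∈ T, ∀ x ∈ Q ⊔ D, l * x * l⁻¹ ∈ Q ⊔ D := fun l hl x hx => hT.conj_H hl hx
  have hclass : ∀ χ : G → ℂ, Cfsg.IsGeneralizedCharacter G χ → ∀ g y : G,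
      Complex.normSq (χ (y * g * y⁻¹)) = Complex.normSq (χ g) :=
    fun χ hχ g y => by rw [Induced.Generalized.isClassFunction_of_isGen hχ g y]
  have sz := sum_conjSet hS.H_le hnH hS.ti (fun g => Complex.normSq (X lam g)) (hclass _ hgz)
  have sh := sum_conjSet hS.H_le hnH hS.ti (fun g => Complex.normSq (η φ₀ g))
    (hclass _ (gen_eta hη φ₀))
  have sk := sum_conjSet hT.H_le hnK hT.ti (fun g => Complex.normSq (η φ₀ g))
    (hclass _ (gen_eta hη φ₀))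
  have ch := card_conjSet hS.H_le hnH hS.ti
  have ck := card_conjSet hT.H_le hnK hT.ti
  rw [hzS, hΨz2, hΨz1, hHcard] at sz
  simp only [zero_pow two_ne_zero, Finset.sum_const_zero, zero_add, hHcard] at hhS
  rw [hhS] at sh
  rw [hkS, hΨk2, hΨk1, hKcard, show ((Mk : ℤ) * ε + Ak) ^ 2 = ((Mk : ℤ) + ε * Ak) ^ 2 by
    linear_combination ((Mk : ℤ) ^ 2 - Ak ^ 2) * hεsq] at sk
  -- the partition
  let n : Finset G → ℝ := fun s => (s.card : ℝ)
  set Hs := conjSet (P ⊔ C) with hHs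
  set Ks := conjSet (Q ⊔ D) with hKs
  set Xs := crossSet W₁ W₂ with hXs
  have d12 : Disjoint Hs Ks := Finset.disjoint_right.2 fun g hg => not_conjSet_of_conjSet hS hT hg
  have d13 : Disjoint Hs Xs := Finset.disjoint_left.2 fun g hg => not_crossSet_of_conjSet hW hS hg
  have d23 : Disjoint Ks Xs := by
    refine Finset.disjoint_left.2 fun g hg hc => ?_
    obtain ⟨y₂, h1, h2, h3⟩ := mem_crossSet.1 hc
    refine not_crossSet_of_conjSet (W₁ := W₂) (W₂ := W₁) ?_ hT hg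
      (mem_crossSet.2 ⟨y₂, sup_comm W₁ W₂ ▸ h1, h3, h2⟩)
    obtain ⟨a, b, c, d, e, f⟩ := hW
    refine ⟨b, a, by rwa [inf_comm], fun a hu v hv => (d v hv a hu).symm, sup_comm W₁ W₂ ▸ e, ?_⟩
    rw [sup_comm W₂ W₁, Set.union_comm]
    exact f
  set Z := (Finset.univ : Finset G) \ (Hs ∪ Ks ∪ Xs) with hZ
  have hsplit : ∀ F : G → ℝ, ∑ g, F g =
      ∑ g ∈ Z, F g + (∑ g ∈ Hs, F g + ∑ g ∈ Ks, F g + ∑ g ∈ Xs, F g) := fun F => by
    rw [← Finset.sum_union d12, ← Finset.sum_union (Finset.disjoint_union_left.2 ⟨d13, d23⟩), hZ,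
      Finset.sum_sdiff (Finset.subset_univ _)]
  have hZclosed : ∀ g ∈ Z, ∀ k : ℕ, k.Coprime (Nat.card G) → g ^ k ∈ Z := by
    intro g hg k hk
    simp only [hZ, Finset.mem_sdiff, Finset.mem_univ, true_and, Finset.mem_union] at hg ⊢
    rintro ((h | h) | h)
    · exact hg (Or.inl (Or.inl (pow_mem_conjSet hk h)))
    · exact hg (Or.inl (Or.inr (pow_mem_conjSet hk h)))
    · exact hg (Or.inr (pow_mem_crossSet hk h))
  have gz := card_le_sum_normSq hgz Z hZclosed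
  have ge := card_le_sum_normSq (gen_eta hη φ₀) Z hZclosed
  have hZle : (Z.card : ℝ) ≤ (Z.filter fun g => X lam g ≠ 0).card +
      ((Z.filter fun g => η φ₀ g ≠ 0).card : ℝ) := by
    have : Z.card ≤ (Z.filter fun g => X lam g ≠ 0).card + (Z.filter fun g => η φ₀ g ≠ 0).card := by
      refine le_trans (Finset.card_le_card ?_) (Finset.card_union_le _ _)
      intro g hg
      have hg' := hg
      simp only [hZ, Finset.mem_sdiff, Finset.mem_union, not_or] at hg'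
      rcases ne_zero_or_ne_zero hW hodd hη hS hX hlam hφ hφ1 hg'.2.1.1 hg'.2.2 with h | h
      · exact Finset.mem_union_left _ (Finset.mem_filter.2 ⟨hg, h⟩)
      · exact Finset.mem_union_right _ (Finset.mem_filter.2 ⟨hg, h⟩)
    exact_mod_cast this
  have hcardG := hsplit (fun _ => (1 : ℝ))
  simp only [Finset.sum_const, nsmul_one, Finset.card_univ] at hcardG
  have hnz : Cfsg.classInner (X lam) (X lam) = 1 := by
    rw [hS.inner_free hX hlam hlam.1,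
      if_pos ⟨1, S.one_mem, hS.conjTo_of_mem (Subgroup.one_mem _) lam⟩]
  have hne : Cfsg.classInner (η φ₀) (η φ₀) = 1 := by rw [hη.orthonormal]; simp
  have tz := sum_normSq_of_norm_one hnz
  have te := sum_normSq_of_norm_one hne
  rw [hsplit] at tz te
  have hXe : ∑ g ∈ Xs, Complex.normSq (η φ₀ g) = (Xs.card : ℝ) := by
    rw [Finset.sum_congr rfl fun g hg => normSq_eta_cross hW hη hg, Finset.sum_const, nsmul_one]
  have hKz : 0 ≤ ∑ g ∈ Ks, Complex.normSq (X lam g) :=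
    Finset.sum_nonneg fun _ _ => Complex.normSq_nonneg _
  have hXz : 0 ≤ ∑ g ∈ Xs, Complex.normSq (X lam g) :=
    Finset.sum_nonneg fun _ _ => Complex.normSq_nonneg _
  -- real bounds
  have hG0 : (0 : ℝ) < Fintype.card G := by exact_mod_cast Fintype.card_pos
  have hS0 : (0 : ℝ) < Nat.card S := by exact_mod_cast Nat.card_pos
  have hT0 : (0 : ℝ) < Nat.card T := by exact_mod_cast Nat.card_pos
  set P' : ℝ := ((p ^ q : ℕ) : ℝ) with hP'
  set Q' : ℝ := ((q ^ p : ℕ) : ℝ) with hQ'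
  set c : ℝ := (Nat.card C : ℝ) with hc
  set d : ℝ := (Nat.card D : ℝ) with hd
  have Z1 : (Nat.card S : ℝ) * ∑ g ∈ Hs, Complex.normSq (X lam g) ≥
      (Fintype.card G : ℝ) * (P' * c * Mz - (Mz : ℝ) ^ 2) := by
    rw [sz]
    refine mul_le_mul_of_nonneg_left ?_ hG0.le
    have := (Int.cast_le (R := ℝ)).2 bz
    push_cast [hP', hc] at this ⊢
    exact this
  have E1 : (Nat.card S : ℝ) * ∑ g ∈ Hs, Complex.normSq (η φ₀ g) ≥
      (Fintype.card G : ℝ) * (P' * c - 1) := by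
    rw [sh]
    refine mul_le_mul_of_nonneg_left ?_ hG0.le
    have := (Int.cast_le (R := ℝ)).2 bh
    push_cast [hP', hc] at this ⊢
    exact this
  have K1 : (Nat.card T : ℝ) * ∑ g ∈ Ks, Complex.normSq (η φ₀ g) ≥
      (Fintype.card G : ℝ) * (Q' * d * Mk - (Mk : ℝ) ^ 2) := by
    rw [sk]
    refine mul_le_mul_of_nonneg_left ?_ hG0.le
    have := (Int.cast_le (R := ℝ)).2 bk
    push_cast [hQ', hd] at this ⊢
    exact this
  rw [hS.card_H] at ch
  rw [hT.card_H] at ck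
  push_cast at ch ck
  have e1 : (Nat.card S : ℝ) = P' * c * Mz := by
    rw [hP', hc, hMz, hS.card_S, hS.card_P, hu]; push_cast; ring
  have e2 : (Nat.card T : ℝ) = Q' * d * Mk * p := by
    rw [hQ', hd, hMk, hT.card_S, hT.card_P, hv]; push_cast; ring
  have hle : ∑ g ∈ Hs, Complex.normSq (X lam g) + ∑ g ∈ Hs, Complex.normSq (η φ₀ g) +
      ∑ g ∈ Ks, Complex.normSq (η φ₀ g) ≤
        (Fintype.card G : ℝ) + (Hs.card : ℝ) + (Ks.card : ℝ) := by linarith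
  have hQreal : (v : ℝ) * ((q : ℝ) - 1) = Q' - 1 := by
    have h1 : ((v * (q - 1) : ℕ) : ℝ) = ((q ^ p - 1 : ℕ) : ℝ) := by rw [hv_eq]
    push_cast [Nat.cast_sub hS.q_prime.one_le, Nat.cast_sub hQp] at h1
    rw [hQ']; push_cast; exact h1
  have hu1 : 1 ≤ u := Nat.one_le_iff_ne_zero.2 fun e => by
    rw [e, zero_mul] at hu; exact Nat.card_pos.ne' hu
  have hv1 : 1 ≤ v := Nat.one_le_iff_ne_zero.2 fun e => by
    rw [e, zero_mul] at hv; exact Nat.card_pos.ne' hv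
  have hd1 : (1 : ℝ) ≤ d := by rw [hd]; exact_mod_cast hd0
  rw [hMz, Nat.cast_mul] at Z1 e1
  rw [hMk] at K1 e2
  have hv1' : (1 : ℝ) ≤ v := by exact_mod_cast hv1
  have hu1' : (1 : ℝ) ≤ u := by exact_mod_cast hu1
  have hq1' : (1 : ℝ) ≤ q := by exact_mod_cast hS.q_prime.one_le
  have ch' : (Nat.card S : ℝ) * Hs.card = (Fintype.card G : ℝ) * (P' * c - 1) := by
    rw [ch, hP', hc]; push_cast; ring
  have ck' : (Nat.card T : ℝ) * Ks.card = (Fintype.card G : ℝ) * (Q' * d - 1) := by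
    rw [ck, hQ', hd]; push_cast; ring
  have h7 := final_arith hG0 hS0 hT0 hu1' hv1' hd1 hq1' hQreal e1 e2 Z1 E1 K1 ch' ck' hle
  have hqr : q - 1 + 1 = q := Nat.sub_add_cancel hS.q_prime.one_le
  have h8 : ((p ^ (q - 1) : ℕ) : ℝ) * p = P' := by
    rw [hP']; push_cast; rw [← pow_succ, hqr]
  have h9 : c * ((p ^ (q - 1) : ℕ) : ℝ) * ((q : ℝ) - 2) * ((v : ℝ) - 1) ≤ (q : ℝ) * u * Q' := by
    refine le_of_mul_le_mul_left ?_ (by exact_mod_cast hS.p_prime.pos : (0 : ℝ) < p)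
    rw [← h8] at h7
    linarith [h7]
  have h10 : ((Nat.card C * p ^ (q - 1) * (q - 2) * (v - 1) : ℕ) : ℝ) ≤
      ((q * u * q ^ p : ℕ) : ℝ) := by
    push_cast [Nat.cast_sub hS.q_prime.two_le, Nat.cast_sub hv1]
    rw [hQ', hc] at h9
    push_cast at h9
    exact h9
  exact_mod_cast h10

end Cfsg.Agent.Lib.OddOrder.PF13
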