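import Mathlib
import Cfsg.Agent.Lib.OddOrder.PF13.Ineq

/-!
# Peterfalvi (13.3)-(13.12): the core of section 13

`coreResult_of_pairFacts`: `C = D = 1` and one of `u`, `v` is maximal.
-/

set_option autoImplicit false
set_option linter.unusedSectionVars false

namespace Cfsg.Agent.Lib.OddOrder.PF13

open scoped Classical
open Cfsg.Agent.Lib.CyclicTI

universe u

theorem numeric_five {p q c u v : ℕ} (hp : 3 ≤ p) (hq : 5 ≤ q) (hc : 2 * q + 1 ≤ c)
    (hu : u * (p - 1) ≤ p ^ q - 1) (hv : v * (q - 1) = q ^ p - 1)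
    (h : c * p ^ (q - 1) * (q - 2) * (v - 1) ≤ q * u * q ^ p) : False := by
  set Q := q ^ p with hQ
  set P' := p ^ (q - 1) with hP'
  have hP : p ^ q = P' * p := by rw [hP', ← pow_succ, Nat.sub_add_cancel (by omega)]
  have hQ3 : q ^ 3 ≤ Q := Nat.pow_le_pow_right (by omega) hp
  have h1 : (v - 1) * (q - 1) = Q - q := by
    rw [Nat.sub_mul, one_mul, hv]; omega
  have h2 := Nat.mul_le_mul_right ((p - 1) * (q - 1)) h
  have h3 : c * P' * (q - 2) * (v - 1) * ((p - 1) * (q - 1)) = P' * (c * (q - 2) * (Q - q) * (p - 1)) := by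
    rw [← h1]; ring
  have h4 : q * u * Q * ((p - 1) * (q - 1)) ≤ P' * (q * (q - 1) * Q * p) := by
    calc q * u * Q * ((p - 1) * (q - 1)) = q * (q - 1) * Q * (u * (p - 1)) := by ring
      _ ≤ q * (q - 1) * Q * p ^ q := by gcongr; omega
      _ = _ := by rw [hP]; ring
  rw [h3] at h2
  have h5 := Nat.le_of_mul_le_mul_left (h2.trans h4) (by positivity)
  have hqQ : q ≤ Q := Nat.le_self_pow (by omega) q
  have h5' : ((c * (q - 2) * (Q - q) * (p - 1) : ℕ) : ℤ) ≤ ((q * (q - 1) * Q * p : ℕ) : ℤ) := by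
    exact_mod_cast h5
  push_cast [Nat.cast_sub (show 2 ≤ q by omega), Nat.cast_sub hqQ, Nat.cast_sub (show 1 ≤ p by omega),
    Nat.cast_sub (show 1 ≤ q by omega)] at h5'
  have hp' : (3 : ℤ) ≤ p := by exact_mod_cast hp
  have hq' : (5 : ℤ) ≤ q := by exact_mod_cast hq
  have hc' : 2 * (q : ℤ) + 1 ≤ c := by exact_mod_cast hc
  have hQ' : (q : ℤ) ^ 3 ≤ Q := by exact_mod_cast hQ3
  have hQq : (q : ℤ) ≤ Q := by exact_mod_cast hqQ
  generalize (Q : ℤ) = Y at h5' hQ' hQq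
  have e0 : (0 : ℤ) ≤ ((q : ℤ) - 2) * (Y - q) := mul_nonneg (by linarith) (by linarith)
  have e1 : (2 * (q : ℤ) + 1) * (((q : ℤ) - 2) * (Y - q)) * (p - 1) ≤
      c * (((q : ℤ) - 2) * (Y - q)) * (p - 1) :=
    mul_le_mul_of_nonneg_right (mul_le_mul_of_nonneg_right hc' e0) (by linarith)
  have e2 : (2 * (q : ℤ) + 1) * (((q : ℤ) - 2) * (Y - q)) * (2 * p) ≤
      (2 * (q : ℤ) + 1) * (((q : ℤ) - 2) * (Y - q)) * (3 * (p - 1)) :=
    mul_le_mul_of_nonneg_left (by linarith) (mul_nonneg (by linarith) e0)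
  have e3 : 2 * ((2 * (q : ℤ) + 1) * (((q : ℤ) - 2) * (Y - q))) ≤ 3 * ((q : ℤ) * (q - 1) * Y) := by
    refine le_of_mul_le_mul_right ?_ (by linarith : (0 : ℤ) < p)
    linarith [e1, e2, h5']
  have e4 : (q : ℤ) ^ 3 * ((q - 4) * (q + 1)) ≤ Y * ((q - 4) * (q + 1)) :=
    mul_le_mul_of_nonneg_right hQ' (mul_nonneg (by linarith) (by linarith))
  have e5 : (q : ℤ) * (4 * q ^ 2) ≤ (q : ℤ) ^ 3 * ((q - 4) * (q + 1)) := by
    have : (4 : ℤ) ≤ (q - 4) * (q + 1) := by
      calc (4 : ℤ) ≤ 1 * (q + 1) := by linarith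
        _ ≤ _ := mul_le_mul_of_nonneg_right (by linarith) (by linarith)
    calc (q : ℤ) * (4 * q ^ 2) = (q : ℤ) ^ 3 * 4 := by ring
      _ ≤ _ := mul_le_mul_of_nonneg_left this (by positivity)
  have e6 : (0 : ℤ) < (q : ℤ) * (6 * q + 4) := mul_pos (by linarith) (by linarith)
  linarith [e3, e4, e5, e6]

theorem numeric_three {p c u v : ℕ} (hp : 5 ≤ p) (hu : u * (p - 1) ≤ p ^ 3 - 1)
    (hv : v * 2 = 3 ^ p - 1) (h : c * p ^ 2 * (v - 1) ≤ 3 * u * 3 ^ p) :
    c < 13 ∧ (7 ≤ c → p < 11) := by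
  have hu' : u ≤ p ^ 2 + p + 1 := by
    refine Nat.le_of_mul_le_mul_right (hu.trans_eq ?_) (by omega : 0 < p - 1)
    obtain ⟨r, rfl⟩ : ∃ r, p = r + 1 := ⟨p - 1, by omega⟩
    simp only [Nat.add_sub_cancel]
    have : (r + 1) ^ 3 = ((r + 1) ^ 2 + (r + 1) + 1) * r + 1 := by ring
    omega
  set Q := 3 ^ p with hQ
  have h243 : 243 ≤ Q := le_trans (by norm_num) (Nat.pow_le_pow_right (by norm_num) hp)
  have h1 : c * p ^ 2 * (Q - 3) ≤ 6 * (p ^ 2 + p + 1) * Q := by
    have : (v - 1) * 2 = Q - 3 := by omega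
    calc c * p ^ 2 * (Q - 3) = c * p ^ 2 * (v - 1) * 2 := by rw [← this]; ring
      _ ≤ 3 * u * Q * 2 := Nat.mul_le_mul_right 2 h
      _ ≤ 3 * (p ^ 2 + p + 1) * Q * 2 := by gcongr
      _ = _ := by ring
  refine ⟨?_, fun hc => ?_⟩
  · by_contra hc
    push Not at hc
    have h2 : 25 * (p ^ 2 + p + 1) ≤ 31 * p ^ 2 := by nlinarith
    have h3 : 13 * 25 * p ^ 2 * (Q - 3) ≤ 6 * 31 * p ^ 2 * Q := by
      calc 13 * 25 * p ^ 2 * (Q - 3) ≤ 25 * (c * p ^ 2 * (Q - 3)) := by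
            rw [show 25 * (c * p ^ 2 * (Q - 3)) = c * 25 * p ^ 2 * (Q - 3) by ring]
            gcongr
        _ ≤ 25 * (6 * (p ^ 2 + p + 1) * Q) := Nat.mul_le_mul_left 25 h1
        _ = 6 * (25 * (p ^ 2 + p + 1)) * Q := by ring
        _ ≤ 6 * (31 * p ^ 2) * Q := by gcongr
        _ = _ := by ring
    have h4 : 325 * (Q - 3) ≤ 186 * Q := Nat.le_of_mul_le_mul_left
      (show p ^ 2 * (325 * (Q - 3)) ≤ p ^ 2 * (186 * Q) by
        calc p ^ 2 * (325 * (Q - 3)) = 13 * 25 * p ^ 2 * (Q - 3) := by ring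
          _ ≤ _ := h3
          _ = _ := by ring) (by positivity)
    omega
  · by_contra hp11
    push Not at hp11
    have h2 : 121 * (p ^ 2 + p + 1) ≤ 133 * p ^ 2 := by nlinarith
    have h3 : 7 * 121 * p ^ 2 * (Q - 3) ≤ 6 * 133 * p ^ 2 * Q := by
      calc 7 * 121 * p ^ 2 * (Q - 3) ≤ 121 * (c * p ^ 2 * (Q - 3)) := by
            rw [show 121 * (c * p ^ 2 * (Q - 3)) = c * 121 * p ^ 2 * (Q - 3) by ring]
            gcongr
        _ ≤ 121 * (6 * (p ^ 2 + p + 1) * Q) := Nat.mul_le_mul_left 121 h1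
        _ = 6 * (121 * (p ^ 2 + p + 1)) * Q := by ring
        _ ≤ 6 * (133 * p ^ 2) * Q := by gcongr
        _ = _ := by ring
    have h4 : 847 * (Q - 3) ≤ 798 * Q := Nat.le_of_mul_le_mul_left
      (show p ^ 2 * (847 * (Q - 3)) ≤ p ^ 2 * (798 * Q) by
        calc p ^ 2 * (847 * (Q - 3)) = 7 * 121 * p ^ 2 * (Q - 3) := by ring
          _ ≤ _ := h3
          _ = _ := by ring) (by positivity)
    omega

variable {G : Type u} [Group G] [Fintype G] {p q : ℕ} {S T P C Q D U V W₁ W₂ : Subgroup G}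
  {η : (↥(W₁ ⊔ W₂) →* ℂˣ) → G → ℂ} {X : (↥(P ⊔ C) →* ℂˣ) → G → ℂ}
  {Y : (↥(Q ⊔ D) →* ℂˣ) → G → ℂ} {δ ε : ℤ}

/-- A subgroup on which `W₁` acts without fixed points has order `1` modulo `q`. -/
theorem Side.card_mod (h : Side p q S P C U W₁ W₂) {A : Subgroup G} (hA : A ≤ U)
    (hn : ∀ w ∈ W₁, ∀ a ∈ A, w * a * w⁻¹ ∈ A) : Nat.card A ≡ 1 [MOD q] := by
  haveI : Fact q.Prime := ⟨h.q_prime⟩
  letI : MulAction W₁ A :=
    { smul := fun w a => ⟨(w : G) * a * (w : G)⁻¹, hn w w.2 a a.2⟩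
      one_smul := fun a => Subtype.ext (show (1 : G) * a * (1 : G)⁻¹ = a by simp)
      mul_smul := fun v w a => Subtype.ext
        (show ((v : G) * w) * a * ((v : G) * w)⁻¹ = v * (w * a * (w : G)⁻¹) * (v : G)⁻¹ by group) }
  have hp : IsPGroup q W₁ := IsPGroup.iff_card.2 ⟨1, by rw [h.card_W₁, pow_one]⟩
  obtain ⟨w₀, hw₀, hw₀1⟩ := h.exists_W₁_ne
  have hfix : Nat.card (MulAction.fixedPoints W₁ A) = 1 := by
    refine Nat.card_eq_one_iff_unique.2 ⟨⟨fun a b => ?_⟩, ⟨⟨1, fun w => Subtype.ext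
      (show (w : G) * 1 * (w : G)⁻¹ = 1 by simp)⟩⟩⟩
    have key : ∀ a : MulAction.fixedPoints W₁ A, ((a : A) : G) = 1 := fun a =>
      h.fpf w₀ hw₀ hw₀1 _ (hA a.1.2)
        (mul_inv_eq_iff_eq_mul.1 (congrArg Subtype.val (a.2 ⟨w₀, hw₀⟩)))
    exact Subtype.ext (Subtype.ext ((key a).trans (key b).symm))
  have := hp.card_modEq_card_fixedPoints A
  rwa [hfix] at this

/-- One side of the core result. -/
theorem side_core (hW : Cfsg.IsSelfNormalizingCyclic W₁ W₂) (hodd : Odd (Nat.card G))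
    (hη : Cfsg.IsCyclicTIFamily W₁ W₂ η)
    (hS : Side p q S P C U W₁ W₂) (hT : Side q p T Q D V W₂ W₁)
    (hX : SideChar (W₁ ⊔ W₂) W₁ W₂ S P (P ⊔ C) η X δ)
    (hY : SideChar (W₁ ⊔ W₂) W₂ W₁ T Q (Q ⊔ D) η Y ε)
    (hcr : CrossOrth S P X Q Y) (hNU : q < p → ¬ Subgroup.normalizer (U : Set G) ≤ S) :
    C = ⊥ ∧ (Nat.card U * (p - 1) = (p ^ q - 1) ∨
      (Nat.card V * (q - 1) = (q ^ p - 1) * Nat.card D ∧ ∀ v : ℕ, Nat.card V = v * Nat.card D →
        p ^ (q - 1) * (q - 2) * (v - 1) ≤ q * Nat.card U * q ^ p)) := by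
  have hp3 : 3 ≤ p := by have := hS.p_prime.two_le; have := hS.p_odd; omega
  have hq3 : 3 ≤ q := by have := hS.q_prime.two_le; have := hS.q_odd; omega
  have hC : C = ⊥ := by
    by_contra hC
    obtain ⟨lam, hlam⟩ := hS.exists_free_of_ne_bot hC
    obtain ⟨u, hu'⟩ := Subgroup.card_dvd_of_le hS.C_le_U
    obtain ⟨v, hv'⟩ := Subgroup.card_dvd_of_le hT.C_le_U
    have hu : Nat.card U = u * Nat.card C := by rw [hu', mul_comm]
    have hv : Nat.card V = v * Nat.card D := by rw [hv', mul_comm]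
    have hfull := full_of_free hW hη hS hT hX hY hcr hlam
    have hineq := count_ineq hW hodd hη hS hT hX hY hcr hlam hu hv
    have hc0 : 0 < Nat.card C := Nat.card_pos
    have hu_le : u * (p - 1) ≤ p ^ q - 1 := by
      refine Nat.le_of_mul_le_mul_left ?_ hc0
      have h1 := hS.u_le
      rw [hu] at h1
      calc Nat.card C * (u * (p - 1)) = u * Nat.card C * (p - 1) := by ring
        _ ≤ _ := h1
        _ = _ := mul_comm _ _
    have hv_eq : v * (q - 1) = q ^ p - 1 := by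
      refine Nat.eq_of_mul_eq_mul_left (Nat.card_pos (α := D)) ?_
      rw [hv] at hfull
      calc Nat.card D * (v * (q - 1)) = v * Nat.card D * (q - 1) := by ring
        _ = _ := hfull
        _ = _ := mul_comm _ _
    have hcmod : Nat.card C ≡ 1 [MOD q] :=
      hS.card_mod hS.C_le_U fun w hw a ha => hS.conj_C hw ha
    have hUmod : Nat.card U ≡ 1 [MOD q] :=
      hS.card_mod le_rfl fun w hw a ha => hS.conj_U hw ha
    have hcodd : Odd (Nat.card C) := hodd.of_dvd_nat (Subgroup.card_subgroup_dvd_card C)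
    have hUodd : Odd (Nat.card U) := hodd.of_dvd_nat (Subgroup.card_subgroup_dvd_card U)
    have hc1 : Nat.card C ≠ 1 := fun e => hC (Subgroup.card_eq_one.1 e)
    have hc : 2 * q + 1 ≤ Nat.card C := by
      obtain ⟨t, ht⟩ : q ∣ Nat.card C - 1 := (Nat.modEq_iff_dvd' hc0).1 hcmod.symm
      obtain ⟨r, hr⟩ := hcodd
      have hqodd : Odd q := hS.q_prime.odd_of_ne_two hS.q_odd
      have ht2 : 2 ≤ t := by
        by_contra hlt
        have h01 : t = 0 ∨ t = 1 := by omega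
        rcases h01 with e | e <;> subst e
        · omega
        · obtain ⟨s, hs⟩ := hqodd; omega
      have : q * 2 ≤ q * t := Nat.mul_le_mul_left q ht2
      omega
    by_cases hq5 : 5 ≤ q
    · exact numeric_five hp3 hq5 hc hu_le hv_eq hineq
    · have hq : q = 3 := by
        have h34 : q = 3 ∨ q = 4 := by omega
        rcases h34 with e | e
        · exact e
        · exact absurd hS.q_prime (by rw [e]; norm_num)
      subst hq
      have hp5 : 5 ≤ p := by
        have := hS.p_ne_q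
        by_contra hlt
        have : p = 4 := by omega
        exact absurd hS.p_prime (by rw [this]; norm_num)
      obtain ⟨hc13, hcp⟩ := numeric_three (c := Nat.card C) hp5 hu_le hv_eq
        (by simpa only [show 3 - 1 = 2 from rfl, show 3 - 2 = 1 from rfl, mul_one] using hineq)
      have hc7 : Nat.card C = 7 := by
        have h1 := hcmod
        rw [Nat.ModEq] at h1
        obtain ⟨r, hr⟩ := hcodd
        omega
      have hp7 : p ≠ 7 := fun e =>
        hS.not_dvd_p (e ▸ hc7 ▸ Subgroup.card_dvd_of_le hS.C_le_U)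
      have hp : p = 5 := by
        have := hcp hc7.ge
        interval_cases p <;> first | omega | exact absurd hS.p_prime (by norm_num)
      subst hp
      have hu31 : u = 31 := by
        have hv121 : v = 121 := by norm_num at hv_eq; omega
        rw [hc7, hv121] at hineq
        norm_num at hineq hu_le
        rw [hu, hc7] at hUmod hUodd
        rw [Nat.ModEq] at hUmod
        obtain ⟨r, hr⟩ := hUodd
        omega
      refine hNU (by norm_num) fun g hg => ?_
      obtain ⟨c₀, hc₀⟩ := Subgroup.ne_bot_iff_exists_ne_one.1 hC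
      have hc₀7 : (c₀ : G) ^ 7 = 1 := hc7 ▸ congrArg Subtype.val (pow_card_eq_one' (x := c₀))
      have hmem : g * c₀ * g⁻¹ ∈ U :=
        ((Subgroup.mem_set_normalizer_iff.1 hg) _).1 (hS.C_le_U c₀.2)
      have hin : g * c₀ * g⁻¹ ∈ C := by
        letI : CommGroup U := { (inferInstance : Group U) with
          mul_comm := fun a b => Subtype.ext (hS.U_comm a a.2 b b.2) }
        have hidx : (C.subgroupOf U).index = 31 := by
          have h1 := Subgroup.card_mul_index (C.subgroupOf U)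
          rw [Nat.card_congr (Subgroup.subgroupOfEquivOfLe hS.C_le_U).toEquiv, hu, hc7, hu31] at h1
          omega
        have h1 := (C.subgroupOf U).pow_index_mem (⟨g * c₀ * g⁻¹, hmem⟩ : U)
        rw [hidx, Subgroup.mem_subgroupOf, SubgroupClass.coe_pow] at h1
        have h2 : (g * c₀ * g⁻¹ : G) ^ 7 = 1 := by rw [conj_pow, hc₀7]; simp
        have h3 := pow_mem h1 5
        rw [← pow_mul, show 31 * 5 = 7 * 22 + 1 by norm_num, pow_succ, pow_mul, h2, one_pow,
          one_mul] at h3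
        exact h3
      exact hS.ti g c₀ (Subgroup.mem_sup_right c₀.2) (by simpa using hc₀)
        (Subgroup.mem_sup_right hin)
  refine ⟨hC, ?_⟩
  have hc : Nat.card C = 1 := by rw [hC, Subgroup.card_bot]
  by_cases hfull : Nat.card U * (p - 1) = p ^ q - 1
  · exact Or.inl hfull
  · have hlt : Nat.card U * (p - 1) < (p ^ q - 1) * Nat.card C := by
      have := hS.u_le
      rw [hc, mul_one] at this ⊢
      omega
    obtain ⟨lam, hlam⟩ := hS.exists_free hlt
    refine Or.inr ⟨full_of_free hW hη hS hT hX hY hcr hlam, fun v hv => ?_⟩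
    have := count_ineq hW hodd hη hS hT hX hY hcr hlam (u := Nat.card U) (by rw [hc, mul_one]) hv
    rwa [hc, one_mul] at this

/-- The cyclic TI family seen from the other side. -/
theorem transport {W W' : Subgroup G} (e : W = W') {K₁ K₂ S P H : Subgroup G}
    {η : (↥W →* ℂˣ) → G → ℂ} {X : (↥H →* ℂˣ) → G → ℂ} {δ : ℤ}
    (h : SideChar W K₁ K₂ S P H η X δ) :
    ∃ η' : (↥W' →* ℂˣ) → G → ℂ, (∀ ω, η' ω = η (ω.comp (Subgroup.inclusion e.le))) ∧
      SideChar W' K₁ K₂ S P H η' X δ := by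
  subst e
  exact ⟨η, fun ω => rfl, h⟩

end Cfsg.Agent.Lib.OddOrder.PF13
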