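import Mathlib
import Cfsg.Agent.Lib.OddOrder.PF13.Core

/-!
# Peterfalvi 13: assembly of the core result

`step_13_12`: the facts `Step_13_2` give `Step_13_12`.
-/

set_option autoImplicit false
set_option linter.unusedSectionVars false

namespace Cfsg.Agent.Lib.OddOrder.PF13

open scoped Classical
open Cfsg.Agent.Lib.CyclicTI

universe u

variable {G : Type u} [Group G]

theorem indFun_inclusion [Fintype G] {W W' : Subgroup G} (e : W = W') (f : ↥W' → ℂ) :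
    Cfsg.indFun W' f = Cfsg.indFun W fun w => f (Subgroup.inclusion e.le w) := by
  subst e
  rfl

theorem isSelfNormalizingCyclic_swap {W₁ W₂ : Subgroup G}
    (hW : Cfsg.IsSelfNormalizingCyclic W₁ W₂) : Cfsg.IsSelfNormalizingCyclic W₂ W₁ := by
  obtain ⟨a, b, c, d, e, f⟩ := hW
  refine ⟨b, a, by rwa [inf_comm], fun x hx y hy => (d y hy x hx).symm, sup_comm W₁ W₂ ▸ e, ?_⟩
  rw [sup_comm W₂ W₁, Set.union_comm]
  exact f

/-- The cyclic TI family read on `W₂ W₁`. -/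
theorem isCyclicTIFamily_swap [Fintype G] {W₁ W₂ : Subgroup G}
    {η : (↥(W₁ ⊔ W₂) →* ℂˣ) → G → ℂ} (hη : Cfsg.IsCyclicTIFamily W₁ W₂ η) :
    Cfsg.IsCyclicTIFamily W₂ W₁ fun ω =>
      η (ω.comp (Subgroup.inclusion (sup_comm W₁ W₂).le)) := by
  have hinj : ∀ ω ω' : ↥(W₂ ⊔ W₁) →* ℂˣ,
      ω.comp (Subgroup.inclusion (sup_comm W₁ W₂).le) =
        ω'.comp (Subgroup.inclusion (sup_comm W₁ W₂).le) → ω = ω' := fun ω ω' e =>
    MonoidHom.ext fun w => DFunLike.congr_fun e (⟨(w : G), sup_comm W₂ W₁ ▸ w.2⟩ : ↥(W₁ ⊔ W₂))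
  refine ⟨fun ω => hη.irr_or_neg _, fun ω ω' => ?_, ?_, fun ω w h1 h2 => ?_,
    fun φ ψ h1 h2 hP hQ => ?_⟩
  · rw [hη.orthonormal]
    by_cases e : ω = ω'
    · subst e; simp
    · rw [if_neg e, if_neg fun e' => e (hinj ω ω' e')]
  · rw [show ((1 : ↥(W₂ ⊔ W₁) →* ℂˣ).comp (Subgroup.inclusion (sup_comm W₁ W₂).le)) = 1 from rfl]
    exact hη.map_one
  · exact hη.eq_on (ω.comp (Subgroup.inclusion (sup_comm W₁ W₂).le))
      ⟨(w : G), sup_comm W₂ W₁ ▸ w.2⟩ h2 h1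
  · have a : φ.comp (Subgroup.inclusion (sup_comm W₁ W₂).le) ≠ 1 :=
      fun e => h1 (hinj φ 1 (by rw [e]; rfl))
    have b : ψ.comp (Subgroup.inclusion (sup_comm W₁ W₂).le) ≠ 1 :=
      fun e => h2 (hinj ψ 1 (by rw [e]; rfl))
    have h := hη.induced_eq _ _ b a (fun w hw => hQ _ hw) (fun w hw => hP _ hw)
    rw [indFun_inclusion (sup_comm W₁ W₂)]
    have e1 : (φ * ψ).comp (Subgroup.inclusion (sup_comm W₁ W₂).le) =
        ψ.comp (Subgroup.inclusion (sup_comm W₁ W₂).le) *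
          φ.comp (Subgroup.inclusion (sup_comm W₁ W₂).le) :=
      MonoidHom.ext fun w => mul_comm _ _
    have e2 : (fun w : ↥(W₁ ⊔ W₂) => 1 - (φ (Subgroup.inclusion (sup_comm W₁ W₂).le w) : ℂ) -
        (ψ (Subgroup.inclusion (sup_comm W₁ W₂).le w) : ℂ) +
        (φ (Subgroup.inclusion (sup_comm W₁ W₂).le w) : ℂ) *
          (ψ (Subgroup.inclusion (sup_comm W₁ W₂).le w) : ℂ)) =
      fun w => 1 - ((ψ.comp (Subgroup.inclusion (sup_comm W₁ W₂).le)) w : ℂ) -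
        ((φ.comp (Subgroup.inclusion (sup_comm W₁ W₂).le)) w : ℂ) +
        ((ψ.comp (Subgroup.inclusion (sup_comm W₁ W₂).le)) w : ℂ) *
          ((φ.comp (Subgroup.inclusion (sup_comm W₁ W₂).le)) w : ℂ) := by
      funext w
      simp only [MonoidHom.comp_apply]
      ring
    rw [e2, h]
    funext g
    rw [e1]
    ring

/-- Peterfalvi (13.3)-(13.12) from the facts about the pair. -/
theorem coreResult_of_pairFacts [Fintype G] {S T W₁ W₂ U V : Subgroup G}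
    (hW : Cfsg.IsSelfNormalizingCyclic W₁ W₂) (hodd : Odd (Nat.card G))
    (hf : PairFacts S T W₁ W₂ U V) : CoreResult S T W₁ W₂ U V := by
  obtain ⟨p, q, P, C, Q, D, η, X, Y, δ, ε, hPe, hQe, hη, hS, hT, hX, hY, hcr, hcr', hNU, hNV⟩ := hf
  obtain ⟨η', hη'e, hX'⟩ := transport (sup_comm W₁ W₂) hX
  obtain ⟨η'', hη''e, hY'⟩ := transport (sup_comm W₁ W₂) hY
  have e' : η' = fun ω => η (ω.comp (Subgroup.inclusion (sup_comm W₁ W₂).le)) := funext hη'e
  have e'' : η'' = fun ω => η (ω.comp (Subgroup.inclusion (sup_comm W₁ W₂).le)) := funext hη''e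
  rw [e'] at hX'
  rw [e''] at hY'
  obtain ⟨hC, h1⟩ := side_core hW hodd hη hS hT hX hY hcr hNU
  obtain ⟨hD, h2⟩ := side_core (isSelfNormalizingCyclic_swap hW) hodd (isCyclicTIFamily_swap hη)
    hT hS hY' hX' hcr' hNV
  have hCc : Nat.card C = 1 := by rw [hC, Subgroup.card_bot]
  have hDc : Nat.card D = 1 := by rw [hD, Subgroup.card_bot]
  have hPC := hS.C_eq
  have hQD := hT.C_eq
  rw [hPe, hC] at hPC
  rw [hQe, hD] at hQD
  refine ⟨hPC.symm, hQD.symm, ?_⟩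
  simp only [hS.card_W₁, hS.card_W₂]
  refine ⟨h1.imp id fun h => ⟨by rw [h.1, hDc, mul_one], h.2 _ (by rw [hDc, mul_one])⟩,
    h2.imp id fun h => ⟨by rw [h.1, hCc, mul_one], h.2 _ (by rw [hCc, mul_one])⟩⟩

/-- `Step_13_2` gives `Step_13_12`. -/
theorem step_13_12 [Fintype G] (h : Step_13_2 G) : Step_13_12 G := by
  intro hG S T W₁ W₂ U V hS hT hSP hTP hST hII hS25 hT25
  exact coreResult_of_pairFacts hSP.selfNormalizing hG.1
    (h hG S T W₁ W₂ U V hS hT hSP hTP hST hII hS25 hT25)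

end Cfsg.Agent.Lib.OddOrder.PF13
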