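import Cfsg.Agent.Lib.OddOrder.PF13.Coherent

/-!
# Peterfalvi (13.2 d), (13.3 a): the character-theoretical facts about one side
-/

set_option autoImplicit false
set_option linter.style.haveILetI false
set_option linter.unusedSectionVars false

open scoped commutatorElement ComplexConjugate

namespace Cfsg.Agent.Lib.OddOrder.PF13

open Cfsg.Agent.Lib.CyclicTI (IsP IsQ)
open Cfsg.Agent.Lib.Induced.Basic Cfsg.Agent.Lib.Characters.Basic

universe u

variable {G : Type u} [Group G] [Fintype G]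

/-- An isometry carries integer combinations to integer combinations of the images. -/
theorem map_zspan {L : Type u} [Group L] [Fintype L] {E E' : Set (L → ℂ)}
    {T : (L → ℂ) → (G → ℂ)} (hT : Cfsg.IsLinearIsometryOn (Cfsg.zspan E) T) (hE : E' ⊆ E)
    {α : L → ℂ} (hα : α ∈ Cfsg.zspan E') : T α ∈ Cfsg.zspan (T '' E') := by
  have hle : Submodule.span ℤ E' ≤ Submodule.span ℤ E := Submodule.span_mono hE
  induction hα using Submodule.span_induction with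
  | mem x hx => exact Submodule.subset_span ⟨x, hx, rfl⟩
  | zero =>
    have h := hT.2.1 0 (Submodule.span ℤ E).zero_mem 0
    rw [zero_smul, zero_smul] at h
    rw [h]
    exact Submodule.zero_mem _
  | add x y hx hy ihx ihy =>
    rw [hT.1 x (hle hx) y (hle hy)]
    exact Submodule.add_mem _ ihx ihy
  | smul n x hx ihx =>
    rw [hT.2.1 x (hle hx) n]
    exact Submodule.smul_mem _ n ihx

variable {S W₁ U W₂ : Subgroup G} [Fintype S] {A : Set G}

/-- The pieces of `S` together with the cyclic TI family. -/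
def imageSet (S : Subgroup G) [Fintype S] (η : (↥(W₁ ⊔ W₂) →* ℂˣ) → G → ℂ) : Set (G → ℂ) :=
  {f | IsPiece S f} ∪ Set.range η

open Classical in
/-- (13.2 d) and (13.3 a) for one side. -/
theorem exists_sideChar (F : Facts S W₁ U W₂) (hG : Cfsg.IsMinSimpleOddOrder G)
    (hA : AFacts S W₁ W₂ A) {η : (↥(W₁ ⊔ W₂) →* ℂˣ) → G → ℂ}
    (hη : Cfsg.IsCyclicTIFamily W₁ W₂ η) :
    ∃ (X : (↥(Hof S U) →* ℂˣ) → G → ℂ) (ε : ℤ),
      SideChar (W₁ ⊔ W₂) W₁ W₂ S (Cfsg.fittingHallOf S) (Hof S U) η X ε ∧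
      (∀ θ, IsFree S (Cfsg.fittingHallOf S) θ → IsPiece S (X θ)) ∧
      ∀ θ, Moves (Cfsg.fittingHallOf S) θ → X θ ∈ Cfsg.zspan (imageSet S η) := by
  haveI : Finite (↥(W₁ ⊔ W₂) →* ℂˣ) := Finite.of_injective
    (fun ω : ↥(W₁ ⊔ W₂) →* ℂˣ => (fun w : ↥(W₁ ⊔ W₂) => (⟨ω w, by
      rw [mem_rootsOfUnity, ← map_pow, pow_card_eq_one', map_one]⟩ :
        rootsOfUnity (Nat.card ↥(W₁ ⊔ W₂)) ℂ)))
    fun ω ω' e => MonoidHom.ext fun w => congrArg Subtype.val (congrFun e w)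
  letI := Fintype.ofFinite (↥(W₁ ⊔ W₂) →* ℂˣ)
  letI := Fintype.ofFinite (derivedIn S)
  obtain ⟨μ', μ, δ, hM⟩ := exists_mu F hη
  obtain ⟨T, ε, hT⟩ := exists_cohData F hM hη hA hG
  have hirrs : ∀ θ : ↥(Hof S U) →* ℂˣ, Moves (Cfsg.fittingHallOf S) θ →
      ¬ NearFixed S W₁ θ → T (Phi θ) ∈ Cfsg.zspan {f | IsPiece S f} := by
    intro θ hm hn
    refine Isometry.Inner.zspan_mono ?_ (map_zspan hT.lin
      (E' := {φ | φ ∈ memS S ∧ Cfsg.IsIrrCharacter ↥S φ}) (fun φ h => h.1) ?_)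
    · rintro _ ⟨φ, ⟨hφ, hi⟩, rfl⟩
      exact hT.piece φ hφ hi
    · refine Isometry.Inner.zspan_mono ?_ (Phi_mem_zspan F hm)
      rintro φ ⟨κ, hκ, h0, rfl, hmem⟩
      exact ⟨hmem, constituent_irr F hM hm hn hκ h0⟩
  have hecol : ∀ ψ, ecol η ψ ∈ Cfsg.zspan (imageSet S η) := fun ψ =>
    Submodule.sum_mem _ fun φ _ => Submodule.subset_span (Or.inr ⟨_, rfl⟩)
  refine ⟨fun θ => T (Phi θ), ε, ?_, fun θ hθ => ?_, fun θ hm => ?_⟩
  · refine ⟨hT.sign, fun θ hm => hT.lin.2.2.2 _ (Phi_mem F hM hm), fun θ θ' hm hm' => ?_,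
      fun θ θ' hm hm' => ?_, fun θ hm hf => ?_, fun θ hm hn ω => ?_⟩
    · rw [← indFun_Phi F θ, ← indFun_Phi F θ', hT.sub θ θ' hm hm']
    · rw [hT.lin.2.2.1 _ (Phi_mem F hM hm) _ (Phi_mem F hM hm'), classInner_Phi F θ θ']
    · obtain ⟨ψ, hψ, hψ1, e⟩ := hT.fixed θ hm hf
      refine ⟨ψ, hψ1, hψ, ?_⟩
      show T (Phi θ) = _
      rw [e, finsum_mem_eq_toFinset_sum, ecol]
      congr 1
      refine Finset.sum_congr ?_ fun _ _ => rfl
      ext φ
      simp [IsP]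
    · refine Isometry.Inner.classInner_zspan_eq_zero (hirrs θ hm
        fun ⟨s, hs, θ', hc, hf⟩ => hn s hs θ' hc hf) fun f hf => piece_eta F hM hη hA hf ω
  · obtain ⟨hi, hmem, -⟩ := free_member F hM hθ
    exact hT.piece _ hmem hi
  · by_cases hn : NearFixed S W₁ θ
    · obtain ⟨s, hs, θ', hc, hf⟩ := hn
      obtain ⟨ψ, -, -, e⟩ := hT.fixed θ' (F.side.moves_of_conjTo hs hm hc) hf
      show T (Phi θ) ∈ _
      rw [Phi_eq_of_conj F hs hc, e]
      exact Isometry.Coherence.zspan_smul ε (hecol ψ)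
    · exact Isometry.Inner.zspan_mono (fun f hf => Or.inl hf) (hirrs θ hm hn)

end Cfsg.Agent.Lib.OddOrder.PF13
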