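import Cfsg.Agent.Lib.OddOrder.TypeOne
import Cfsg.Agent.Lib.OddOrder.PF13.SideChar
import Cfsg.Agent.Lib.OddOrder.PF13.A0
import Cfsg.Agent.Lib.OddOrder.PF13.Assembly
import Cfsg.Agent.S1502

/-!
# Peterfalvi (13.2), (13.4): the facts about the pair `S, T`
-/

set_option autoImplicit false
set_option linter.style.haveILetI false
set_option linter.unusedSectionVars false

open scoped commutatorElement

namespace Cfsg.Agent.Lib.OddOrder.PF13

open Cfsg.Agent.Lib.Induced.Basic Cfsg.Agent.Lib.Characters.Basic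
open Interface.PF8 (BG16)

universe u

variable {G : Type u} [Group G] [Fintype G]

theorem AK_subset_A0 {S W₁ U W₂ : Subgroup G} (hP : Cfsg.IsTypePWith S W₁ U W₂) :
    AK S ⊆ Cfsg.Agent.Lib.OddOrder.TypeOne.typeA0 S := by
  rintro a ⟨h1, h2, y, hy, hy1, hc⟩
  refine Or.inl ?_
  rw [Cfsg.Agent.Lib.OddOrder.TypeOne.typeA, if_neg (PF8.TypeP.not_typeI ⟨_, _, _, hP⟩)]
  exact ⟨h1, h2, y, (PF8.TypeP.typeCore_bounds hP).1 hy, hy1, hc⟩

/-- `A₀(S)` carries the induction isometry. -/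
theorem afacts_A0 (hG : Cfsg.IsMinSimpleOddOrder G) (hB : BG16 G)
    (h7 : Interface.PF12.Step_12_7 G) {S W₁ U W₂ : Subgroup G} (hS : IsCoatom S)
    (hP : Cfsg.IsTypePWith S W₁ U W₂) : AFacts S W₁ W₂ (Cfsg.Agent.Lib.OddOrder.TypeOne.typeA0 S) := by
  obtain ⟨hti, hN⟩ := ti_A0 hG hB h7 hS hP
  refine ⟨hti, hN, ?_, fun m hm a ha => ?_, AK_subset_A0 hP, fun w hw h1 h2 => ?_⟩
  · rw [PF8.TypeP.typeA0_eq hP, Cfsg.Agent.Lib.OddOrder.TypeOne.typeA, if_neg (PF8.TypeP.not_typeI ⟨_, _, _, hP⟩)]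
    rintro (⟨-, h, -⟩ | ⟨m, -, w, hw, e⟩)
    · exact h rfl
    · refine hw.2.1 ?_
      have : w = 1 := by
        have h2 : m * w * m⁻¹ = 1 := e.symm
        simpa using h2
      rw [this]; exact one_mem _
  · exact Subgroup.le_set_normalizer_iff.1 hN.symm.le m hm a ha
  · rw [PF8.TypeP.typeA0_eq hP]
    exact Or.inr ⟨1, one_mem _, w, ⟨hw, h1, h2⟩, by group⟩

/-- (13.4): no element of `AK S` is conjugate to an element of `AK T`. -/
theorem AK_disjoint (hB : BG16 G) (h7 : Interface.PF12.Step_12_7 G) {S T W₁ W₂ U V : Subgroup G}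
    (F : Facts S W₁ U W₂) (F' : Facts T W₂ V W₁) {x : G} (hx : x ∈ AK S) (g : G) :
    g * x * g⁻¹ ∉ AK T := by
  intro hz
  obtain ⟨hxS, hx1, y, hy, hy1, hxy⟩ := hx
  haveI : Fact (Nat.card W₂).Prime := ⟨F.p_prime⟩
  haveI : Fact (Nat.card W₁).Prime := ⟨F.q_prime⟩
  have ho : orderOf (g * y * g⁻¹) = Nat.card W₂ ^ 1 := by
    rw [pow_one]
    refine orderOf_eq_prime ?_ (by simpa using hy1)
    rw [conj_pow, F.P_exp y hy, mul_one, mul_inv_cancel]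
  have hyT : g * y * g⁻¹ ∈ T := by
    refine centralizer_le hB h7 F'.maxS F'.typeP (AK_subset_A0 F'.typeP hz)
      (Subgroup.mem_centralizer_singleton_iff.2 ?_)
    calc g * y * g⁻¹ * (g * x * g⁻¹) = g * (y * x) * g⁻¹ := by group
      _ = g * (x * y) * g⁻¹ := by rw [hxy]
      _ = g * x * g⁻¹ * (g * y * g⁻¹) := by group
  obtain ⟨m, hm, hw⟩ := PF8.TypeP.conj_into_hall F'.typeP.W₁_compl.2.1 F'.typeP.W₁_hall dvd_rfl
    hyT ho
  have hw1 : m⁻¹ * (g * y * g⁻¹) * m ≠ 1 := by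
    intro h
    apply hy1
    calc y = g⁻¹ * m * (m⁻¹ * (g * y * g⁻¹) * m) * m⁻¹ * g := by group
      _ = 1 := by rw [h]; group
  have hzW : m⁻¹ * (g * x * g⁻¹) * m ∈ W₁ := by
    rw [← F'.typeP.W₂_centralizer _ hw hw1]
    refine Subgroup.mem_inf.2 ⟨?_, Subgroup.mem_centralizer_singleton_iff.2 ?_⟩
    · have h := (Subgroup.mem_normalizer_iff.1
        (PF8.TypeP.le_normalizer_derived T (inv_mem hm)) _).1 hz.1
      simpa using h
    · calc m⁻¹ * (g * x * g⁻¹) * m * (m⁻¹ * (g * y * g⁻¹) * m)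
            = m⁻¹ * g * (x * y) * g⁻¹ * m := by group
        _ = m⁻¹ * g * (y * x) * g⁻¹ * m := by rw [hxy]
        _ = m⁻¹ * (g * y * g⁻¹) * m * (m⁻¹ * (g * x * g⁻¹) * m) := by group
  have e : orderOf x = orderOf (m⁻¹ * (g * x * g⁻¹) * m) := by
    have h1 : m⁻¹ * (g * x * g⁻¹) * m = MulAut.conj (m⁻¹ * g) x := by
      simp [mul_assoc]
    rw [h1]
    exact ((MulAut.conj (m⁻¹ * g)).orderOf_eq x).symm
  have hq : orderOf x ∣ Nat.card W₁ := e ▸ Subgroup.orderOf_dvd_natCard _ hzW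
  have hd : orderOf x ∣ Nat.card ↥⁅S, S⁆ := Subgroup.orderOf_dvd_natCard _ hxS
  exact hx1 (orderOf_eq_one_iff.1 (Nat.eq_one_of_dvd_coprimes F.coprime_q hq hd))

/-- (13.4) from the pieces. -/
theorem crossOrth {S T W₁ W₂ U V : Subgroup G} [Fintype S] [Fintype T]
    [Fintype (↥(W₁ ⊔ W₂) →* ℂˣ)] [DecidablePred (CyclicTI.IsP (W₁ := W₁) (W₂ := W₂))]
    [Fintype (derivedIn S)]
    (F : Facts S W₁ U W₂) {A : Set G} (hA : AFacts S W₁ W₂ A)
    {η : (↥(W₁ ⊔ W₂) →* ℂˣ) → G → ℂ} (hη : Cfsg.IsCyclicTIFamily W₁ W₂ η)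
    {η' : (↥(W₂ ⊔ W₁) →* ℂˣ) → G → ℂ} (hη' : Set.range η' ⊆ Set.range η)
    (hdis : ∀ x ∈ AK S, ∀ g : G, g * x * g⁻¹ ∉ AK T)
    {X : (↥(Hof S U) →* ℂˣ) → G → ℂ} {Y : (↥(Hof T V) →* ℂˣ) → G → ℂ}
    (hX : ∀ θ, IsFree S (Cfsg.fittingHallOf S) θ → IsPiece S (X θ))
    (hY : ∀ θ, Moves (Cfsg.fittingHallOf T) θ → Y θ ∈ Cfsg.zspan (imageSet T η')) :
    CrossOrth S (Cfsg.fittingHallOf S) X (Cfsg.fittingHallOf T) Y := by
  classical
  intro θ hθ θ' hθ'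
  obtain ⟨μ', μ, δ, hM⟩ := exists_mu F hη
  have hp := hX θ hθ
  rw [← classInner_conj_symm (Y θ') (X θ), Isometry.Inner.classInner_zspan_eq_zero (hY θ' hθ') ?_,
    map_zero]
  rintro f (hf | ⟨ω, rfl⟩)
  · obtain ⟨χ, a, b, ha, hb, hab, hsupp, he, hf'⟩ := hp
    obtain ⟨ξ, c, d, hc, hd, hcd, hsupp', he', hf⟩ := hf
    have hone : (χ - Cfsg.conjFun χ) 1 = 0 :=
      hsupp.2 1 fun h => h.2.1 rfl
    have hone' : (ξ - Cfsg.conjFun ξ) 1 = 0 :=
      hsupp'.2 1 fun h => h.2.1 rfl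
    obtain ⟨h1, h2, h3, h4⟩ := pieces_orth F ha hb hab hc hd hcd he he' hone hone'
      (Support.classInner_disjoint hsupp hsupp' hdis)
    have k1 : Cfsg.classInner c a = 0 := by rw [← classInner_conj_symm a c, h1, map_zero]
    have k2 : Cfsg.classInner d a = 0 := by rw [← classInner_conj_symm a d, h2, map_zero]
    have k3 : Cfsg.classInner c b = 0 := by rw [← classInner_conj_symm b c, h3, map_zero]
    have k4 : Cfsg.classInner d b = 0 := by rw [← classInner_conj_symm b d, h4, map_zero]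
    rcases hf with rfl | rfl | rfl | rfl <;> rcases hf' with e | e | e | e <;>
      simp [e, Isometry.Inner.classInner_neg_left, Isometry.Inner.classInner_neg_right, k1, k2, k3, k4]
  · obtain ⟨ω', e⟩ := hη' ⟨ω, rfl⟩
    rw [← e, ← classInner_conj_symm (X θ), piece_eta F hM hη hA hp, map_zero]

theorem range_swap {A B : Subgroup G} (η : (↥(A ⊔ B) →* ℂˣ) → G → ℂ) :
    Set.range (fun ω : ↥(B ⊔ A) →* ℂˣ => η (ω.comp (Subgroup.inclusion (sup_comm A B).le))) ⊆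
      Set.range η := by
  rintro _ ⟨ω, rfl⟩
  exact ⟨_, rfl⟩

theorem subset_range_swap {A B : Subgroup G} (η : (↥(A ⊔ B) →* ℂˣ) → G → ℂ) :
    Set.range η ⊆
      Set.range (fun ω : ↥(B ⊔ A) →* ℂˣ => η (ω.comp (Subgroup.inclusion (sup_comm A B).le))) := by
  rintro _ ⟨ω, rfl⟩
  exact ⟨ω.comp (Subgroup.inclusion (sup_comm B A).le), congrArg η (MonoidHom.ext fun _ => rfl)⟩

/-- Peterfalvi (13.2) from the interfaces of §§8-12. -/
theorem step_13_2_of (hB : BG16 G) (h5 : Interface.PF12.NoTypeV G)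
    (h7 : Interface.PF12.Step_12_7 G) (h10 : Interface.PF13Needs.Step_10_11 G)
    (h11 : TypeThreeFacts G) : Step_13_2 G := by
  intro hG S T W₁ W₂ U V hS hT hSP hTP _ _ hS25 hT25
  classical
  obtain ⟨F, htS⟩ := facts_of_pair hG h5 h10 h11 hS hT hSP hTP hS25 hT25
  obtain ⟨F', htT⟩ := facts_of_pair hG h5 h10 h11 hT hS hTP hSP hT25 hS25
  obtain ⟨η, hη⟩ := Cfsg.Agent.S1502.result W₁ W₂ hSP.selfNormalizing
    (hG.1.of_dvd_nat (Subgroup.card_subgroup_dvd_card _))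
  have hη' := isCyclicTIFamily_swap hη
  haveI : Fintype S := Fintype.ofFinite _
  haveI : Fintype T := Fintype.ofFinite _
  haveI : Fintype (derivedIn S) := Fintype.ofFinite _
  haveI : Fintype (derivedIn T) := Fintype.ofFinite _
  haveI : ∀ A B : Subgroup G, Finite (↥(A ⊔ B) →* ℂˣ) := fun A B => Finite.of_injective
    (fun ω : ↥(A ⊔ B) →* ℂˣ => (fun w : ↥(A ⊔ B) => (⟨ω w, by
      rw [mem_rootsOfUnity, ← map_pow, pow_card_eq_one', map_one]⟩ :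
        rootsOfUnity (Nat.card ↥(A ⊔ B)) ℂ)))
    fun ω ω' e => MonoidHom.ext fun w => congrArg Subtype.val (congrFun e w)
  haveI : Fintype (↥(W₁ ⊔ W₂) →* ℂˣ) := Fintype.ofFinite _
  haveI : Fintype (↥(W₂ ⊔ W₁) →* ℂˣ) := Fintype.ofFinite _
  have hA := afacts_A0 hG hB h7 hS hSP
  have hA' := afacts_A0 hG hB h7 hT hTP
  obtain ⟨X, ε, hX, hX1, hX2⟩ := exists_sideChar F hG hA hη
  obtain ⟨Y, ε', hY, hY1, hY2⟩ := exists_sideChar F' hG hA' hη'
  obtain ⟨η₂, he, hY'⟩ := transport (sup_comm W₂ W₁) hY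
  have e2 : η₂ = η := funext fun ω => (he ω).trans (congrArg η (MonoidHom.ext fun _ => rfl))
  rw [e2] at hY'
  have hx1 : CrossOrth S (Cfsg.fittingHallOf S) X (Cfsg.fittingHallOf T) Y :=
    crossOrth F hA hη (range_swap η) (fun x hx g => AK_disjoint hB h7 F F' hx g) hX1 hY2
  have hx2 : CrossOrth T (Cfsg.fittingHallOf T) Y (Cfsg.fittingHallOf S) X :=
    crossOrth F' hA' hη' (subset_range_swap η) (fun x hx g => AK_disjoint hB h7 F' F hx g) hY1 hX2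
  refine ⟨Nat.card W₂, Nat.card W₁, _, _, _, _, η, X, Y, ε, ε', rfl, rfl, hη, F.side, F'.side, hX,
    hY', hx1, hx2, fun hlt => ?_, fun hlt => ?_⟩
  · exact (PF8.TypeP.II_facts hSP (htS.resolve_right fun h => lt_asymm hlt h.2)).2.2.2.2.1
  · exact (PF8.TypeP.II_facts hTP (htT.resolve_right fun h => lt_asymm hlt h.2)).2.2.2.2.1

end Cfsg.Agent.Lib.OddOrder.PF13
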