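import Cfsg.Agent.Lib.OddOrder.TypeOne
import Cfsg.Agent.Lib.OddOrder.PF13.Pair
import Cfsg.Agent.Lib.OddOrder.PF12.Group
import Cfsg.Agent.Lib.Hall.Coprime

/-!
# Peterfalvi (13.13)-(13.17): consequences of the count for the pair

* `normalizer_W₁`: `N_G(W₁) = C_G(W₁) = Q W₂` (S1548).
* `typeII_support`: the maximal subgroups containing `N_G(U)` for `S` of type II (S1549).
-/

set_option autoImplicit false
set_option linter.style.haveILetI false
set_option linter.unusedSectionVars false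

open scoped commutatorElement Pointwise

namespace Cfsg.Agent.Lib.OddOrder.PF13

open Cfsg.Agent.Lib.OddOrder.Basic
open Interface.PF8 (BG16)
open PF8.Conj (im)
open PF12.Group (IsFixFree)

universe u

variable {G : Type u} [Group G] [Finite G]

/-- An element of order coprime to the index of a normalised subgroup lies in it. -/
theorem mem_of_coprime_relIndex {N M : Subgroup G}
    (hn : M ≤ Subgroup.normalizer (N : Set G)) {x : G} (hx : x ∈ M)
    (h : (orderOf x).Coprime (N.relIndex M)) : x ∈ N := by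
  haveI := Subgroup.normal_subgroupOf_of_le_normalizer hn
  have h1 : orderOf (((⟨x, hx⟩ : M) : M ⧸ N.subgroupOf M)) ∣ orderOf x := by
    refine orderOf_dvd_of_pow_eq_one ?_
    rw [← QuotientGroup.mk_pow,
      show (⟨x, hx⟩ : M) ^ orderOf x = 1 from Subtype.ext (pow_orderOf_eq_one x), QuotientGroup.mk_one]
  have h2 : orderOf (((⟨x, hx⟩ : M) : M ⧸ N.subgroupOf M)) ∣ N.relIndex M := orderOf_dvd_natCard _
  have h3 := Nat.eq_one_of_dvd_coprimes h h1 h2
  rw [orderOf_eq_one_iff, QuotientGroup.eq_one_iff] at h3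
  exact Subgroup.mem_subgroupOf.1 h3

theorem card_mul_rel {X M : Subgroup G} (h : X ≤ M) : Nat.card X * X.relIndex M = Nat.card M := by
  have h1 := Subgroup.relIndex_mul_relIndex (⊥ : Subgroup G) X M bot_le h
  rwa [Subgroup.relIndex_bot_left, Subgroup.relIndex_bot_left] at h1

theorem zpowers_eq_of_prime {W : Subgroup G} (hW : (Nat.card W).Prime) {w : G} (hw : w ∈ W)
    (hw1 : w ≠ 1) : Subgroup.zpowers w = W ∧ orderOf w = Nat.card W := by
  have ho : orderOf w = Nat.card W :=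
    (hW.eq_one_or_self_of_dvd _ (Subgroup.orderOf_dvd_natCard W hw)).resolve_left
      fun h => hw1 (orderOf_eq_one_iff.1 h)
  exact ⟨Subgroup.eq_of_le_of_card_ge (Subgroup.zpowers_le.2 hw) (by rw [Nat.card_zpowers, ho]), ho⟩

section Normalizer

variable {T W₁ V W₂ : Subgroup G} (F' : Facts T W₂ V W₁)
include F'

/-- `N_G(W₁) = C_G(W₁) = Q W₂`. -/
theorem normalizer_W₁ (hD : V ⊓ Subgroup.centralizer (Cfsg.fittingHallOf T : Set G) = ⊥) :
    Subgroup.normalizer (W₁ : Set G) = Subgroup.centralizer (W₁ : Set G) ∧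
      Subgroup.centralizer (W₁ : Set G) = Cfsg.fittingHallOf T ⊔ W₂ := by
  have hQ : Cfsg.fittingHallOf T ≤ Subgroup.centralizer (W₁ : Set G) := fun x hx =>
    Subgroup.mem_centralizer_iff.2 fun z hz => F'.P_comm z (F'.W₂_le_P hz) x hx
  have hW : W₂ ≤ Subgroup.centralizer (W₁ : Set G) := fun w hw =>
    Subgroup.mem_centralizer_iff.2 fun z hz => (F'.W₂_comm hw hz).symm
  have hle : Cfsg.fittingHallOf T ⊔ W₂ ≤ Subgroup.centralizer (W₁ : Set G) := sup_le hQ hW
  have hcn : Subgroup.centralizer (W₁ : Set G) ≤ Subgroup.normalizer (W₁ : Set G) := by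
    intro g hg
    have h : ∀ z ∈ W₁, g * z * g⁻¹ = z := fun z hz => by
      rw [← Subgroup.mem_centralizer_iff.1 hg z hz, mul_inv_cancel_right]
    rw [Subgroup.mem_normalizer_iff]
    refine fun z => ⟨fun hz => (h z hz).symm ▸ hz, fun hz => ?_⟩
    have e := h _ hz
    have e' : z = g * z * g⁻¹ := by
      calc z = g⁻¹ * (g * z * g⁻¹) * g := by group
        _ = g⁻¹ * (g * (g * z * g⁻¹) * g⁻¹) * g := by rw [e]
        _ = g * z * g⁻¹ := by group
    rwa [e']
  obtain ⟨z₀, hz₀, hz₁⟩ := (Subgroup.bot_or_exists_ne_one W₁).resolve_left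
    (fun h => F'.p_prime.ne_one (by rw [h, Subgroup.card_bot]))
  have hN : Subgroup.normalizer (W₁ : Set G) ≤ Cfsg.fittingHallOf T ⊔ W₂ := by
    intro g hg
    have hgT : g ∈ T := F'.ti g z₀ (Subgroup.mem_sup_left (F'.W₂_le_P hz₀)) hz₁
      (Subgroup.mem_sup_left (F'.W₂_le_P ((Subgroup.mem_normalizer_iff.1 hg z₀).1 hz₀)))
    obtain ⟨x, hx, a, ha, w, hw, rfl⟩ := F'.decomp hgT
    have han : a ∈ Subgroup.normalizer (W₁ : Set G) := by
      have h := mul_mem (mul_mem (inv_mem (hcn (hQ hx))) hg) (inv_mem (hcn (hW hw)))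
      simpa [mul_assoc] using h
    obtain ⟨v, hv, hv1⟩ := F'.exists_W₁
    have hd : a⁻¹ * (v * a * v⁻¹) ∈ V ⊓ Subgroup.centralizer (W₁ : Set G) := by
      refine Subgroup.mem_inf.2 ⟨mul_mem (inv_mem ha) (F'.conj_U hv ha),
        Subgroup.mem_centralizer_iff.2 fun z hz => ?_⟩
      have h1 : v⁻¹ * z * v = z := by
        rw [mul_assoc, ← F'.W₂_comm hv hz, inv_mul_cancel_left]
      have h2 : v * (a * z * a⁻¹) * v⁻¹ = a * z * a⁻¹ := by
        rw [F'.W₂_comm hv ((Subgroup.mem_normalizer_iff.1 han z).1 hz), mul_inv_cancel_right]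
      calc z * (a⁻¹ * (v * a * v⁻¹)) = a⁻¹ * (a * z * a⁻¹) * (v * a * v⁻¹) := by group
        _ = a⁻¹ * (v * (a * z * a⁻¹) * v⁻¹) * (v * a * v⁻¹) := by rw [h2]
        _ = a⁻¹ * (v * a * (v⁻¹ * z * v) * a⁻¹ * v⁻¹) * (v * a * v⁻¹) := by rw [h1]; group
        _ = a⁻¹ * (v * a * v⁻¹) * z := by group
    have hd' : a⁻¹ * (v * a * v⁻¹) = 1 := by
      have h := le_inf inf_le_left F'.cent_W₂ hd
      rwa [hD, Subgroup.mem_bot] at h
    have hva : v * a = a * v := by
      rw [inv_mul_eq_one, eq_comm, mul_inv_eq_iff_eq_mul] at hd'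
      exact hd'
    rw [F'.fpf hv hv1 ha hva, mul_one]
    exact mul_mem (Subgroup.mem_sup_left hx) (Subgroup.mem_sup_right hw)
  exact ⟨le_antisymm (hN.trans hle) hcn, le_antisymm (hcn.trans hN) hle⟩

end Normalizer

section Support

variable {S T W₁ W₂ U V : Subgroup G}

/-- Every maximal subgroup which is not of type I is conjugate to `S` or to `T`. -/
theorem conj_S_or_T (hB : BG16 G) (F : Facts S W₁ U W₂) (F' : Facts T W₂ V W₁) {L : Subgroup G}
    (hL : IsCoatom L) (hnI : ¬ Cfsg.Agent.Lib.OddOrder.TypeOne.IsTypeI L) :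
    ∃ g : G, L = im (MulAut.conj g) S ∨ L = im (MulAut.conj g) T := by
  rcases hB.structureThm with h | ⟨A, B, S₀, T₀, -, -, -, -, -, -, -, -, -, hconj⟩
  · exact absurd (h L hL) hnI
  have hnS := PF8.TypeP.not_typeI (M := S) ⟨_, _, _, F.typeP⟩
  have hnT := PF8.TypeP.not_typeI (M := T) ⟨_, _, _, F'.typeP⟩
  have hST : ∀ x : G, T ≠ im (MulAut.conj x) S := by
    intro x e
    have h1 := PF8.Conj.isTypePWith_im (MulAut.conj x) F.typeP
    rw [← e] at h1
    obtain ⟨y, -, e1, -, -⟩ := PF8.TypeP.data_conj h1 F'.typeP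
    refine F.p_ne_q ?_
    rw [e1, PF8.Conj.im_card, PF8.Conj.im_card]
  have trans' : ∀ (a b : G) (X Y Z : Subgroup G), Y = im (MulAut.conj a) X →
      Z = im (MulAut.conj b) X → Z = im (MulAut.conj (b * a⁻¹)) Y := by
    intro a b X Y Z hY hZ
    rw [hY, PF8.TypeP.im_conj_mul, inv_mul_cancel_right, hZ]
  obtain ⟨a, ha⟩ := (hconj S F.maxS).resolve_left hnS
  obtain ⟨b, hb⟩ := (hconj T F'.maxS).resolve_left hnT
  obtain ⟨c, hc⟩ := (hconj L hL).resolve_left hnI
  rcases ha with ha | ha <;> rcases hb with hb | hb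
  · exact absurd (trans' a b S₀ S T ha hb) (hST _)
  · rcases hc with hc | hc
    · exact ⟨_, Or.inl (trans' a c S₀ S L ha hc)⟩
    · exact ⟨_, Or.inr (trans' b c T₀ T L hb hc)⟩
  · rcases hc with hc | hc
    · exact ⟨_, Or.inr (trans' b c S₀ T L hb hc)⟩
    · exact ⟨_, Or.inl (trans' a c T₀ S L ha hc)⟩
  · exact absurd (trans' a b T₀ S T ha hb) (hST _)

/-- `U` is a Hall subgroup of `S`. -/
theorem U_hall (F : Facts S W₁ U W₂) {X : Subgroup G} (hX : X ≤ S) (hc : Nat.card X = Nat.card U) :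
    Cfsg.IsPiHallOf {r | r ∣ Nat.card U} X S := by
  refine ⟨hX, fun r _ hd => by rwa [hc] at hd, fun r hr hmem hd => ?_⟩
  have h := card_mul_rel hX
  rw [hc, F.card_S, mul_comm (Nat.card (Cfsg.fittingHallOf S)), mul_assoc] at h
  rw [Nat.eq_of_mul_eq_mul_left Nat.card_pos h] at hd
  rcases (Nat.Prime.dvd_mul hr).1 hd with h1 | h1
  · exact hr.ne_one (Nat.eq_one_of_dvd_coprimes F.coprime_PU h1 hmem)
  · rw [(Nat.prime_dvd_prime_iff_eq hr F.q_prime).1 h1] at hmem
    exact F.not_dvd_q hmem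

/-- A maximal subgroup containing `N_G(U)` is of type I, if `S` is of type II. -/
theorem support_typeI (hG : Cfsg.IsMinSimpleOddOrder G) (hB : BG16 G) (F : Facts S W₁ U W₂)
    (F' : Facts T W₂ V W₁) (hII : Cfsg.IsOfTypeII S) {L : Subgroup G} (hL : IsCoatom L)
    (hNU : Subgroup.normalizer (U : Set G) ≤ L) : Cfsg.Agent.Lib.OddOrder.TypeOne.IsTypeI L := by
  by_contra hnI
  have hUL : U ≤ L := Subgroup.le_normalizer.trans hNU
  have hWL : W₁ ≤ L := F.typeP.U_normal.trans hNU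
  obtain ⟨g, h | h⟩ := conj_S_or_T hB F F' hL hnI
  · have hU' : im (MulAut.conj g⁻¹) U ≤ S := by
      rw [← PF8.Conj.im_le (MulAut.conj g), PF8.TypeP.im_conj_mul, mul_inv_cancel, ← h]
      intro x hx
      obtain ⟨y, hy, rfl⟩ := hx
      simpa using hUL hy
    obtain ⟨s, hs, e⟩ := Hall.Coprime.exists_conj_of_isPiHallOf
      (MinSimple.solvable_of_ne_top hG F.maxS.1) (U_hall F hU' (PF8.Conj.im_card _ _))
      (U_hall F F.U_le rfl)
    have e' : im (MulAut.conj (s * g⁻¹)) U = U := by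
      rw [← PF8.TypeP.im_conj_mul]
      exact e
    have hn : s * g⁻¹ ∈ L := hNU (Subgroup.mem_normalizer_iff_map_conj_eq.2 e')
    rw [h, PF8.Conj.mem_im', MulAut.conj_symm_apply] at hn
    have hgS : g ∈ S := by
      have h2 : g⁻¹ * s ∈ S := by simpa [mul_assoc] using hn
      have h3 := mul_mem h2 (inv_mem hs)
      rw [mul_inv_cancel_right] at h3
      simpa using inv_mem h3
    refine (PF8.TypeP.II_facts F.typeP hII).2.2.2.2.1 (hNU.trans ?_)
    rw [h, PF8.TypeP.im_conj_self hgS]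
  · have key : ∀ x : G, x ∈ U ⊔ W₁ → g⁻¹ * x * g ∈ T := fun x hx => by
      have h2 : x ∈ L := sup_le hUL hWL hx
      rwa [h, PF8.Conj.mem_im', MulAut.conj_symm_apply] at h2
    obtain ⟨w, hw, hw1⟩ := F.exists_W₁
    obtain ⟨u, hu, hu1⟩ := (Subgroup.bot_or_exists_ne_one U).resolve_left F.U_ne
    have how := (zpowers_eq_of_prime F.q_prime hw hw1).2
    haveI : Fact (Nat.card W₁).Prime := ⟨F.q_prime⟩
    -- a conjugate of `W₁` lies in `Q`
    have hwQ : g⁻¹ * w * g ∈ Cfsg.fittingHallOf T := by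
      refine mem_of_coprime_relIndex (fittingHallOf_normal T) (key w (Subgroup.mem_sup_right hw)) ?_
      have ho : orderOf (g⁻¹ * w * g) = Nat.card W₁ := by
        rw [show g⁻¹ * w * g = MulAut.conj g⁻¹ w by simp, MulEquiv.orderOf_eq, how]
      rw [ho]
      refine (fittingHallOf_coprime T).coprime_dvd_left ?_
      rw [F'.P_card]
      exact dvd_pow_self _ F'.q_prime.ne_zero
    refine hu1 (F.fpf hw hw1 hu ?_)
    have hcQ : g⁻¹ * (u * w * u⁻¹ * w⁻¹) * g ∈ Cfsg.fittingHallOf T := by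
      have h1 := (Subgroup.mem_normalizer_iff.1
        (fittingHallOf_normal T (key u (Subgroup.mem_sup_left hu))) _).1 hwQ
      have h2 := mul_mem h1 (inv_mem hwQ)
      simpa [mul_assoc] using h2
    have hcU : u * w * u⁻¹ * w⁻¹ ∈ U := by
      rw [mul_assoc, mul_assoc, ← mul_assoc w]
      exact mul_mem hu (F.conj_U hw (inv_mem hu))
    have ho : orderOf (g⁻¹ * (u * w * u⁻¹ * w⁻¹) * g) = orderOf (u * w * u⁻¹ * w⁻¹) := by
      rw [show g⁻¹ * (u * w * u⁻¹ * w⁻¹) * g = MulAut.conj g⁻¹ (u * w * u⁻¹ * w⁻¹) by simp,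
        MulEquiv.orderOf_eq]
    have h1 : orderOf (u * w * u⁻¹ * w⁻¹) ∣ Nat.card W₁ ^ Nat.card W₂ := by
      rw [← ho, ← F'.P_card]; exact Subgroup.orderOf_dvd_natCard _ hcQ
    have h2 := Subgroup.orderOf_dvd_natCard _ hcU
    have h3 := orderOf_eq_one_iff.1 (Nat.eq_one_of_dvd_coprimes
      ((Nat.coprime_pow_left_iff F'.q_prime.pos _ _).2
        (F.q_prime.coprime_iff_not_dvd.2 F.not_dvd_q)) h1 h2)
    rw [mul_inv_eq_one, mul_inv_eq_iff_eq_mul] at h3
    exact h3.symm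

/-- The structure of the maximal subgroup containing `N_G(U)`. -/
theorem typeII_support (hG : Cfsg.IsMinSimpleOddOrder G) (hB : BG16 G)
    (h7 : Interface.PF12.Step_12_7 G) (F : Facts S W₁ U W₂) (F' : Facts T W₂ V W₁)
    (hD : V ⊓ Subgroup.centralizer (Cfsg.fittingHallOf T : Set G) = ⊥)
    (hII : Cfsg.IsOfTypeII S) {L : Subgroup G} (hL : IsCoatom L)
    (hNU : Subgroup.normalizer (U : Set G) ≤ L) :
    (∀ x ∈ Cfsg.fittingHallOf L, x ≠ 1 →
      L ⊓ Subgroup.centralizer ({x} : Set G) ≤ Cfsg.fittingHallOf L) ∧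
    U ≤ Cfsg.fittingHallOf L ∧
    ((Cfsg.fittingHallOf L ⊓ W₁ = ⊥ ∧ Cfsg.fittingHallOf L ⊔ W₁ = L) ∨
      ∃ y ∈ Cfsg.fittingHallOf T,
        Cfsg.fittingHallOf L ⊓ (W₁ ⊔ W₂.map (MulAut.conj y).toMonoidHom) = ⊥ ∧
        Cfsg.fittingHallOf L ⊔ (W₁ ⊔ W₂.map (MulAut.conj y).toMonoidHom) = L) := by
  have hI := support_typeI hG hB F F' hII hL hNU
  set H := Cfsg.fittingHallOf L with hH
  have hfrob := h7 L hL hI
  have hHne : H ≠ ⊥ := PF8.Dade.fittingHallOf_ne_bot hB hL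
  have hnil : Group.IsNilpotent H := fittingHallOf_isNilpotent L
  have hHn : L ≤ Subgroup.normalizer (H : Set G) := fittingHallOf_normal L
  have hHcop : (Nat.card H).Coprime (H.relIndex L) := fittingHallOf_coprime L
  have hUL : U ≤ L := Subgroup.le_normalizer.trans hNU
  have hWL : W₁ ≤ L := F.typeP.U_normal.trans hNU
  have hfix : ∀ X : Subgroup G, X ≤ L → X ⊓ H = ⊥ → IsFixFree X H := by
    refine fun X hX hXH => ⟨hX.trans hHn, fun a ha ha1 h hh hc => ?_⟩
    by_contra hh1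
    have h2 : a ∈ X ⊓ H := Subgroup.mem_inf.2 ⟨ha,
      hfrob h hh hh1 (Subgroup.mem_inf.2 ⟨hX ha, Subgroup.mem_centralizer_singleton_iff.2 hc⟩)⟩
    rw [hXH, Subgroup.mem_bot] at h2
    exact ha1 h2
  obtain ⟨w, hw, hw1⟩ := F.exists_W₁
  obtain ⟨hzw, how⟩ := zpowers_eq_of_prime F.q_prime hw hw1
  haveI : Fact (Nat.card W₁).Prime := ⟨F.q_prime⟩
  haveI : Fact (Nat.card W₂).Prime := ⟨F.p_prime⟩
  -- `W₁ ∩ H = 1`
  have hwH : w ∉ H := by
    intro hwH
    obtain ⟨u, hu, hu1⟩ := (Subgroup.bot_or_exists_ne_one U).resolve_left F.U_ne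
    have hc : u * w * u⁻¹ * w⁻¹ ∈ U ⊓ H := Subgroup.mem_inf.2 ⟨by
        rw [mul_assoc, mul_assoc, ← mul_assoc w]
        exact mul_mem hu (F.conj_U hw (inv_mem hu)),
      mul_mem ((Subgroup.mem_normalizer_iff.1 (hHn (hUL hu)) w).1 hwH) (inv_mem hwH)⟩
    have hcen : U ⊓ H ≤ Subgroup.centralizer (W₁ : Set G) :=
      le_centralizer_of_nilpotent hnil inf_le_right (hzw ▸ Subgroup.zpowers_le.2 hwH)
        (Nat.Coprime.coprime_dvd_left (Subgroup.card_dvd_of_le inf_le_left)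
          (F.q_prime.coprime_iff_not_dvd.2 F.not_dvd_q).symm)
    have h1 : u * w * u⁻¹ * w⁻¹ = 1 :=
      F.fpf hw hw1 (Subgroup.mem_inf.1 hc).1 (Subgroup.mem_centralizer_iff.1 (hcen hc) w hw)
    rw [mul_inv_eq_one, mul_inv_eq_iff_eq_mul] at h1
    exact hu1 (F.fpf hw hw1 hu h1.symm)
  have hqH : ¬ Nat.card W₁ ∣ Nat.card H := fun h => hwH (mem_of_coprime_relIndex hHn (hWL hw) (by
    rw [how]; exact hHcop.coprime_dvd_left h))
  -- `U ≤ H`
  have hUH : U ≤ H := by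
    intro u hu
    refine mem_of_coprime_relIndex hHn (hUL hu) (Nat.coprime_of_dvd fun r hr hru hri => ?_)
    have hrH : ¬ r ∣ Nat.card H := fun h => hr.not_dvd_one (hHcop ▸ Nat.dvd_gcd h hri)
    have hrU : r ∣ Nat.card U := hru.trans (Subgroup.orderOf_dvd_natCard U hu)
    haveI := Fact.mk hr
    obtain ⟨y, hy⟩ := exists_prime_orderOf_dvd_card' r hrU
    have hy' : orderOf (y : G) = r := by rw [Subgroup.orderOf_coe, hy]
    have hrq : r ≠ Nat.card W₁ := fun e => F.not_dvd_q (e ▸ hrU)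
    let Ω : Subgroup G :=
      { carrier := {x | x ∈ U ∧ x ^ r = 1}
        one_mem' := ⟨one_mem _, one_pow _⟩
        mul_mem' := fun {a b} ha hb => ⟨mul_mem ha.1 hb.1, by
          rw [(show Commute a b from F.U_comm a ha.1 b hb.1).mul_pow, ha.2, hb.2, one_mul]⟩
        inv_mem' := fun {a} ha => ⟨inv_mem ha.1, by rw [inv_pow, ha.2, inv_one]⟩ }
    have hΩU : Ω ≤ U := fun x hx => hx.1
    have hΩH : Ω ⊓ H = ⊥ := by
      rw [eq_bot_iff]
      rintro x ⟨hxΩ, hxH⟩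
      rw [Subgroup.mem_bot, ← orderOf_eq_one_iff]
      exact Nat.eq_one_of_dvd_coprimes (hr.coprime_iff_not_dvd.2 hrH)
        (orderOf_dvd_of_pow_eq_one hxΩ.2) (Subgroup.orderOf_dvd_natCard H hxH)
    haveI : IsMulCommutative Ω :=
      ⟨⟨fun a b => Subtype.ext (F.U_comm a (hΩU a.2) b (hΩU b.2))⟩⟩
    haveI := PF12.Group.isCyclic_of_commutative (hfix Ω (hΩU.trans hUL) hΩH) hHne hnil
    have hWΩ : W₁ ≤ Subgroup.normalizer (Ω : Set G) := Subgroup.le_normalizer_iff.2 fun v hv x hx =>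
      ⟨F.conj_U hv hx.1, by rw [conj_pow, hx.2, mul_one, mul_inv_cancel]⟩
    have hyΩ : (y : G) ∈ Ω := ⟨y.2, by rw [← hy', pow_orderOf_eq_one]⟩
    have hΩy : Ω = Subgroup.zpowers (y : G) := by
      obtain ⟨o, ho⟩ := IsCyclic.exists_ofOrder_eq_natCard (α := Ω)
      refine (Subgroup.eq_of_le_of_card_ge (Subgroup.zpowers_le.2 hyΩ) ?_).symm
      rw [Nat.card_zpowers, hy', ← ho]
      exact Nat.le_of_dvd hr.pos (orderOf_dvd_of_pow_eq_one (Subtype.ext o.2.2))
    have hAH : (Ω ⊔ W₁) ⊓ H = ⊥ := by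
      rw [eq_bot_iff]
      rintro x ⟨hxA, hxH⟩
      have hxA' : x ∈ ((Ω ⊔ W₁ : Subgroup G) : Set G) := hxA
      rw [Subgroup.coe_mul_of_right_le_normalizer_left _ _ hWΩ] at hxA'
      obtain ⟨o, ho, v, hv, rfl⟩ := hxA'
      simp only [SetLike.mem_coe] at ho hv hxH ⊢
      haveI := Subgroup.normal_subgroupOf_of_le_normalizer hHn
      let π := QuotientGroup.mk' (H.subgroupOf L)
      have ho' : π ⟨o, hUL (hΩU ho)⟩ ^ r = 1 := by
        rw [← map_pow, show (⟨o, hUL (hΩU ho)⟩ : L) ^ r = 1 from Subtype.ext ho.2, map_one]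
      have hv' : π ⟨v, hWL hv⟩ ^ Nat.card W₁ = 1 := by
        rw [← map_pow, show (⟨v, hWL hv⟩ : L) ^ Nat.card W₁ = 1 from Subtype.ext (by
          rw [Subgroup.coe_pow]
          exact orderOf_dvd_iff_pow_eq_one.1 (Subgroup.orderOf_dvd_natCard W₁ hv)), map_one]
      have hov : π ⟨o, hUL (hΩU ho)⟩ * π ⟨v, hWL hv⟩ = 1 := by
        rw [← map_mul]
        exact (QuotientGroup.eq_one_iff _).2 (Subgroup.mem_subgroupOf.2 hxH)
      have h1 : orderOf (π ⟨o, hUL (hΩU ho)⟩) = 1 := by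
        refine Nat.eq_one_of_dvd_coprimes ((Nat.coprime_primes hr F.q_prime).2 hrq)
          (orderOf_dvd_of_pow_eq_one ho') ?_
        rw [eq_inv_of_mul_eq_one_left hov, orderOf_inv]
        exact orderOf_dvd_of_pow_eq_one hv'
      rw [orderOf_eq_one_iff] at h1
      have ho1 : o = 1 := by
        have h3 : o ∈ Ω ⊓ H := Subgroup.mem_inf.2
          ⟨ho, Subgroup.mem_subgroupOf.1 ((QuotientGroup.eq_one_iff _).1 h1)⟩
        rwa [hΩH, Subgroup.mem_bot] at h3
      simp only [ho1, one_mul] at hxH ⊢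
      rw [Subgroup.mem_bot]
      by_contra hv1
      exact hwH (by
        have h4 : W₁ ≤ H := by
          rw [← (zpowers_eq_of_prime F.q_prime hv hv1).1]; exact Subgroup.zpowers_le.2 hxH
        exact h4 hw)
    have hcomm := PF12.Group.commute_of_normalizes
      (hfix (Ω ⊔ W₁) (sup_le (hΩU.trans hUL) hWL) hAH) hHne hnil hr F.q_prime hrq
      (Subgroup.mem_sup_left hyΩ) (Subgroup.mem_sup_right hw) hy' how (hΩy ▸ hWΩ hw)
    have hy1 : (y : G) = 1 := F.fpf hw hw1 y.2 hcomm.eq.symm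
    rw [hy1, orderOf_one] at hy'
    exact hr.ne_one hy'.symm
  refine ⟨hfrob, hUH, ?_⟩
  -- a complement containing `W₁`
  haveI := Subgroup.normal_subgroupOf_of_le_normalizer hHn
  obtain ⟨E₁, hE₁⟩ := Subgroup.exists_right_complement'_of_coprime
    (show (Nat.card (H.subgroupOf L)).Coprime (H.subgroupOf L).index by
      rw [Nat.card_congr (Subgroup.subgroupOfEquivOfLe (fittingHallOf_le L)).toEquiv]
      exact hHcop)
  set E₀ := E₁.map L.subtype with hE₀
  have hE₀L : E₀ ≤ L := Subgroup.map_subtype_le _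
  have hE₀c : Cfsg.IsComplIn H E₀ L := by
    refine ⟨fittingHallOf_le L, hE₀L, ?_, fun m hm => ?_⟩
    · rw [eq_bot_iff]
      rintro x ⟨hxH, ⟨x', hx', rfl⟩⟩
      rw [Subgroup.mem_bot]
      have h1 : x' = 1 := Subgroup.disjoint_def.1 hE₁.disjoint (Subgroup.mem_subgroupOf.2 hxH) hx'
      rw [h1]; rfl
    · obtain ⟨⟨⟨a, ha⟩, ⟨b, hb⟩⟩, e⟩ := hE₁.2 ⟨m, hm⟩
      exact ⟨a, ha, b, ⟨b, hb, rfl⟩, (congrArg Subtype.val e).symm⟩
  have hE₀card : Nat.card E₀ = H.relIndex L :=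
    (isComplIn_relIndex hE₀c).symm
  obtain ⟨m, hm, hmw⟩ := PF8.TypeP.conj_into_hall hE₀L
    (by rw [isComplIn_relIndex (isComplIn_symm hE₀c), hE₀card]; exact hHcop.symm)
    (show Nat.card W₁ ∣ Nat.card E₀ from by
      have h1 : Nat.card W₁ ∣ Nat.card L := how ▸ Subgroup.orderOf_dvd_natCard L (hWL hw)
      rw [← card_mul_rel (fittingHallOf_le L), ← hE₀card] at h1
      exact (F.q_prime.dvd_mul.1 h1).resolve_left hqH)
    (hWL hw) (k := 1) (by rw [how, pow_one])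
  set E := im (MulAut.conj m) E₀ with hE
  have hmemE : ∀ x, x ∈ E ↔ m⁻¹ * x * m ∈ E₀ := fun x => by
    rw [hE, PF8.Conj.mem_im', MulAut.conj_symm_apply]
  have hmH : ∀ x ∈ H, m⁻¹ * x * m ∈ H := fun x hx => by
    simpa using (Subgroup.mem_normalizer_iff.1 (hHn (inv_mem hm)) x).1 hx
  have hEL : E ≤ L := fun x hx => by
    have h := mul_mem (mul_mem hm (hE₀L ((hmemE x).1 hx))) (inv_mem hm)
    simpa [mul_assoc] using h
  have hEH : E ⊓ H = ⊥ := by
    rw [eq_bot_iff]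
    rintro x ⟨hxE, hxH⟩
    have h1 : m⁻¹ * x * m ∈ H ⊓ E₀ := ⟨hmH x hxH, (hmemE x).1 hxE⟩
    rw [hE₀c.2.2.1, Subgroup.mem_bot] at h1
    rw [Subgroup.mem_bot]
    calc x = m * (m⁻¹ * x * m) * m⁻¹ := by group
      _ = 1 := by rw [h1]; group
  have hsup : H ⊔ E = L := by
    refine le_antisymm (sup_le (fittingHallOf_le L) hEL) fun x hx => ?_
    obtain ⟨a, ha, b, hb, e⟩ := hE₀c.2.2.2 (m⁻¹ * x * m) (mul_mem (mul_mem (inv_mem hm) hx) hm)
    have e' : x = (m * a * m⁻¹) * (m * b * m⁻¹) := by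
      calc x = m * (m⁻¹ * x * m) * m⁻¹ := by group
        _ = _ := by rw [e]; group
    rw [e']
    exact mul_mem (Subgroup.mem_sup_left ((Subgroup.mem_normalizer_iff.1 (hHn hm) a).1 ha))
      (Subgroup.mem_sup_right ((hmemE _).2 (by
        rw [show m⁻¹ * (m * b * m⁻¹) * m = b by group]; exact hb)))
  have hwE : w ∈ E := (hmemE w).2 hmw
  have hWE : W₁ ≤ E := hzw ▸ Subgroup.zpowers_le.2 hwE
  have hFF := hfix E hEL hEH
  -- two commuting elements of the same prime order generate the same subgroup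
  have hsame : ∀ {r : ℕ}, r.Prime → ∀ {x z : G}, x ∈ E → z ∈ E → orderOf x = r → z ^ r = 1 →
      x * z = z * x → z ∈ Subgroup.zpowers x := by
    intro r hr x z hx hz hox hzr hc
    obtain ⟨A, _, _, _, ρ, hρ⟩ := PF12.Group.exists_abelian hFF hHne hnil
    have h := hρ.mem_zpowers_of_commute hr (x := (⟨x, hx⟩ : E)) (y := ⟨z, hz⟩)
      (by rw [← Subgroup.orderOf_coe]; exact hox) (Subtype.ext hzr) (Subtype.ext hc)
    obtain ⟨n, hn⟩ := Subgroup.mem_zpowers_iff.1 h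
    exact Subgroup.mem_zpowers_iff.2 ⟨n, by simpa using congrArg Subtype.val hn⟩
  haveI : IsZGroup ↥E := by
    refine ⟨fun r hr P => ?_⟩
    haveI := Fact.mk hr
    by_cases h2 : r = 2
    · subst h2
      have : (P : Subgroup E) = ⊥ := by
        obtain ⟨k, hk⟩ := P.isPGroup'.exists_card_eq
        rcases Nat.eq_zero_or_pos k with rfl | hk0
        · exact Subgroup.eq_bot_of_card_eq _ (by rw [hk, pow_zero])
        · exfalso
          refine (F.odd.of_dvd_nat (Subgroup.card_subgroup_dvd_card E)).not_two_dvd_nat ?_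
          exact ((dvd_pow_self 2 hk0.ne').trans (dvd_of_eq hk.symm)).trans
            (Subgroup.card_subgroup_dvd_card _)
      rw [this]; infer_instance
    · haveI := PF12.Group.isCyclic_of_pGroup h2 (P.isPGroup'.map E.subtype)
        (hFF.mono (Subgroup.map_subtype_le _)) hHne hnil
      exact isCyclic_of_surjective _
        (Subgroup.equivMapOfInjective (P : Subgroup E) E.subtype E.subtype_injective).symm.surjective
  -- `w` centralises `E'`
  set A := commutator ↥E with hAdef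
  haveI : IsCyclic A := IsZGroup.isCyclic_commutator ↥E
  have hcop := IsZGroup.coprime_commutator_index ↥E
  have hAc : ∀ a ∈ A, ∀ b ∈ A, a * b = b * a := fun a ha b hb =>
    congrArg Subtype.val ((IsCyclic.commGroup (α := A)).mul_comm ⟨a, ha⟩ ⟨b, hb⟩)
  set w' : ↥E := ⟨w, hwE⟩ with hw'
  have how' : orderOf w' = Nat.card W₁ := by rw [← Subgroup.orderOf_coe, hw', how]
  have hwA : ∀ a ∈ A, w' * a = a * w' := by
    by_cases hwmem : w' ∈ A
    · exact hAc w' hwmem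
    have hqA : ¬ Nat.card W₁ ∣ Nat.card A := fun h => by
      refine hwmem ?_
      have h1 : orderOf (w' : ↥E ⧸ A) ∣ orderOf w' := orderOf_dvd_of_pow_eq_one (by
        rw [← QuotientGroup.mk_pow, pow_orderOf_eq_one, QuotientGroup.mk_one])
      have h2 : orderOf (w' : ↥E ⧸ A) ∣ A.index := orderOf_dvd_natCard _
      rw [how'] at h1
      exact (QuotientGroup.eq_one_iff _).1 (orderOf_eq_one_iff.1
        (Nat.eq_one_of_dvd_coprimes (hcop.coprime_dvd_left h) h1 h2))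
    let f : A →* A :=
      { toFun := fun a => ⟨w' * a * w'⁻¹ * (a : ↥E)⁻¹,
          A.mul_mem (Subgroup.Normal.conj_mem inferInstance _ a.2 w') (A.inv_mem a.2)⟩
        map_one' := by simp
        map_mul' := fun a b => Subtype.ext <| by
          change w' * ((a : ↥E) * b) * w'⁻¹ * ((a : ↥E) * b)⁻¹ =
            w' * a * w'⁻¹ * (a : ↥E)⁻¹ * (w' * b * w'⁻¹ * (b : ↥E)⁻¹)
          have h1 := hAc _ (A.inv_mem a.2) _
            (A.mul_mem (Subgroup.Normal.conj_mem inferInstance _ b.2 w') (A.inv_mem b.2))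
          rw [mul_assoc (w' * (a : ↥E) * w'⁻¹), h1]
          group }
    intro a ha
    by_contra hne
    have hfa : f ⟨a, ha⟩ ≠ 1 := fun h => hne (by
      have h1 : w' * a * w'⁻¹ * a⁻¹ = 1 := congrArg Subtype.val h
      exact mul_inv_eq_iff_eq_mul.1 (mul_inv_eq_one.1 h1))
    obtain ⟨r, hr, hrd⟩ := Nat.exists_prime_and_dvd (mt orderOf_eq_one_iff.1 hfa)
    set b : A := (⟨a, ha⟩ : A) ^ (orderOf (f ⟨a, ha⟩) / r) with hb
    have hy : orderOf (f b) = r := by
      rw [hb, map_pow]; exact orderOf_pow_orderOf_div (orderOf_pos _).ne' hrd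
    have hyE : orderOf ((f b : ↥E)) = r := by rw [Subgroup.orderOf_coe, hy]
    have hyG : orderOf ((f b : ↥E) : G) = r := by rw [Subgroup.orderOf_coe, hyE]
    have hrq : r ≠ Nat.card W₁ := fun e => hqA (e ▸ hy ▸ orderOf_dvd_natCard _)
    have hnz : ∀ v : ↥E, ∀ x ∈ Subgroup.zpowers ((f b : ↥E) : G),
        (v : G) * x * (v : G)⁻¹ ∈ Subgroup.zpowers ((f b : ↥E) : G) := by
      intro v x hx
      obtain ⟨n, rfl⟩ := Subgroup.mem_zpowers_iff.1 hx
      rw [← conj_zpow]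
      refine zpow_mem ?_ n
      refine hsame hr (f b : ↥E).2 (mul_mem (mul_mem v.2 (f b : ↥E).2) (inv_mem v.2)) hyG
        (by rw [conj_pow, ← hyG, pow_orderOf_eq_one, mul_one, mul_inv_cancel]) ?_
      exact congrArg Subtype.val
        (hAc _ (f b).2 _ (Subgroup.Normal.conj_mem inferInstance _ (f b).2 v))
    have hzn : w ∈ Subgroup.normalizer (Subgroup.zpowers ((f b : ↥E) : G) : Set G) := by
      rw [Subgroup.mem_normalizer_iff]
      refine fun x => ⟨hnz w' x, fun hx => ?_⟩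
      simpa [mul_assoc, hw'] using hnz w'⁻¹ _ hx
    have hcy := PF12.Group.commute_of_normalizes hFF hHne hnil hr F.q_prime hrq (f b : ↥E).2 hwE
      hyG how hzn
    have hwy : w' * (f b : ↥E) * w'⁻¹ = f b := by
      rw [mul_inv_eq_iff_eq_mul]; exact Subtype.ext hcy.eq.symm
    have hstep : ∀ n : ℕ, w' ^ n * (b : ↥E) * (w' ^ n)⁻¹ = (f b : ↥E) ^ n * b := by
      intro n
      induction n with
      | zero => simp
      | succ n ih =>
        have hyb : w' * (b : ↥E) * w'⁻¹ = (f b : ↥E) * b := by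
          show w' * (b : ↥E) * w'⁻¹ = w' * b * w'⁻¹ * (b : ↥E)⁻¹ * b
          group
        have hzn' : w' * (f b : ↥E) ^ n * w'⁻¹ = (f b : ↥E) ^ n := by rw [← conj_pow, hwy]
        calc w' ^ (n + 1) * (b : ↥E) * (w' ^ (n + 1))⁻¹
            = w' * (w' ^ n * b * (w' ^ n)⁻¹) * w'⁻¹ := by rw [pow_succ']; group
          _ = w' * (f b : ↥E) ^ n * w'⁻¹ * (w' * b * w'⁻¹) := by rw [ih]; group
          _ = (f b : ↥E) ^ (n + 1) * b := by rw [hzn', hyb, pow_succ, mul_assoc]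
    have hq' := hstep (Nat.card W₁)
    rw [show w' ^ Nat.card W₁ = 1 from how' ▸ pow_orderOf_eq_one w', one_mul, inv_one, mul_one]
      at hq'
    have h1 : orderOf ((f b : ↥E)) ∣ Nat.card W₁ :=
      orderOf_dvd_of_pow_eq_one (mul_eq_right.1 hq'.symm)
    rw [hyE] at h1
    exact hrq ((Nat.prime_dvd_prime_iff_eq hr F.q_prime).1 h1)
  -- `E ≤ N(W₁) = Q W₂`
  have hEN : E ≤ Cfsg.fittingHallOf T ⊔ W₂ := by
    obtain ⟨e1, e2⟩ := normalizer_W₁ F' hD
    rw [← e2, ← e1]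
    have key : ∀ g ∈ E, g * w * g⁻¹ ∈ W₁ := by
      intro g hg
      have hc : (⟨g, hg⟩ : ↥E) * w' * (⟨g, hg⟩ : ↥E)⁻¹ * w'⁻¹ ∈ A :=
        Subgroup.commutator_mem_commutator (Subgroup.mem_top _) (Subgroup.mem_top _)
      have h1 := congrArg Subtype.val (hwA _ hc)
      simp only [Subgroup.coe_mul, Subgroup.coe_inv, hw'] at h1
      rw [← hzw]
      refine hsame F.q_prime hwE (mul_mem (mul_mem hg hwE) (inv_mem hg)) how
        (by rw [conj_pow, ← how, pow_orderOf_eq_one, mul_one, mul_inv_cancel]) ?_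
      calc w * (g * w * g⁻¹) = w * (g * w * g⁻¹ * w⁻¹) * w := by group
        _ = g * w * g⁻¹ * w⁻¹ * w * w := by rw [h1]
        _ = g * w * g⁻¹ * w := by group
    intro g hg
    have key2 : ∀ g ∈ E, ∀ x ∈ W₁, g * x * g⁻¹ ∈ W₁ := by
      intro g hg x hx
      rw [← hzw] at hx
      obtain ⟨n, rfl⟩ := Subgroup.mem_zpowers_iff.1 hx
      rw [← conj_zpow]
      exact zpow_mem (key g hg) n
    rw [Subgroup.mem_normalizer_iff]
    refine fun x => ⟨key2 g hg x, fun hx => ?_⟩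
    simpa [mul_assoc] using key2 g⁻¹ (inv_mem hg) _ hx
  have hEQ : ∀ x ∈ E, x ∈ Cfsg.fittingHallOf T → x ∈ W₁ := fun x hx hxQ => hzw ▸
    hsame F.q_prime hwE hx how (F'.P_exp x hxQ) (F'.P_comm w (F'.W₂_le_P hw) x hxQ)
  have hWT : W₂ ≤ Subgroup.normalizer (Cfsg.fittingHallOf T : Set G) :=
    F'.W₁_le.trans (fittingHallOf_normal T)
  by_cases hall : ∀ x ∈ E, x ∈ Cfsg.fittingHallOf T
  · have hEW : E = W₁ := le_antisymm (fun x hx => hEQ x hx (hall x hx)) hWE
    exact Or.inl ⟨by rw [← hEW, inf_comm]; exact hEH, by rw [← hEW]; exact hsup⟩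
  right
  push Not at hall
  obtain ⟨e, heE, heQ⟩ := hall
  set M := Cfsg.fittingHallOf T ⊔ W₂ with hMdef
  have hQM : Cfsg.fittingHallOf T ≤ M := le_sup_left
  have hMn : M ≤ Subgroup.normalizer (Cfsg.fittingHallOf T : Set G) :=
    sup_le Subgroup.le_normalizer hWT
  have hQW : Cfsg.fittingHallOf T ⊓ W₂ = ⊥ := by
    refine inf_eq_bot_of_coprime ?_
    rw [F'.P_card]
    exact ((Nat.coprime_primes F.q_prime F.p_prime).2 (Ne.symm F.p_ne_q)).pow_left _
  have hcompl : Cfsg.IsComplIn (Cfsg.fittingHallOf T) W₂ M := by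
    refine ⟨hQM, le_sup_right, hQW, fun x hx => ?_⟩
    have hx' : x ∈ ((Cfsg.fittingHallOf T ⊔ W₂ : Subgroup G) : Set G) := hx
    rw [Subgroup.coe_mul_of_right_le_normalizer_left _ _ hWT] at hx'
    obtain ⟨a, ha, b, hb, e⟩ := hx'
    exact ⟨a, ha, b, hb, e.symm⟩
  have hrel : (Cfsg.fittingHallOf T).relIndex M = Nat.card W₂ := isComplIn_relIndex hcompl
  have hpE : Nat.card W₂ ∣ Nat.card E := by
    by_contra hp
    refine heQ (mem_of_coprime_relIndex hMn (hEN heE) ?_)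
    rw [hrel]
    exact (Nat.Coprime.coprime_dvd_left (Subgroup.orderOf_dvd_natCard E heE)
      (F.p_prime.coprime_iff_not_dvd.2 hp).symm)
  obtain ⟨z, hz⟩ := exists_prime_orderOf_dvd_card' (Nat.card W₂) hpE
  obtain ⟨c, hc, hcw⟩ := PF8.TypeP.conj_into_hall (W := W₂) (M := M) le_sup_right
    (by
      rw [isComplIn_relIndex (isComplIn_symm hcompl), F'.P_card]
      exact ((Nat.coprime_primes F.p_prime F.q_prime).2 F.p_ne_q).pow_right _)
    dvd_rfl (hEN z.2) (k := 1) (by rw [pow_one, Subgroup.orderOf_coe, hz])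
  obtain ⟨y, hy, v, hv, rfl⟩ := hcompl.2.2.2 c hc
  have hzv : y⁻¹ * z * y ∈ W₂ := by
    have h1 := mul_mem (mul_mem hv hcw) (inv_mem hv)
    simpa [mul_assoc] using h1
  have hz1 : y⁻¹ * z * y ≠ 1 := by
    intro h
    have h1 : (z : G) = 1 := by
      calc (z : G) = y * (y⁻¹ * z * y) * y⁻¹ := by group
        _ = 1 := by rw [h]; group
    rw [← Subgroup.orderOf_coe, h1, orderOf_one] at hz
    exact F.p_prime.ne_one hz.symm
  have hsub : W₂.map (MulAut.conj y).toMonoidHom ≤ E := by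
    rw [← (zpowers_eq_of_prime F.p_prime hzv hz1).1, MonoidHom.map_zpowers, Subgroup.zpowers_le]
    simp [mul_assoc]
  refine ⟨y, hy, ?_⟩
  have hEeq : W₁ ⊔ W₂.map (MulAut.conj y).toMonoidHom = E := by
    refine le_antisymm (sup_le hWE hsub) fun x hx => ?_
    obtain ⟨a, ha, b, hb, rfl⟩ := hcompl.2.2.2 x (hEN hx)
    have hb' : y * b * y⁻¹ ∈ W₂.map (MulAut.conj y).toMonoidHom :=
      ⟨b, hb, by simp⟩
    have ha' : a * b * (y * b * y⁻¹)⁻¹ ∈ Cfsg.fittingHallOf T := by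
      have h1 : b * y * b⁻¹ ∈ Cfsg.fittingHallOf T :=
        (Subgroup.mem_normalizer_iff.1 (hWT hb) y).1 hy
      have h2 := mul_mem (mul_mem ha h1) (inv_mem hy)
      simpa [mul_assoc] using h2
    have h3 := hEQ _ (mul_mem hx (inv_mem (hsub hb'))) ha'
    have h4 := mul_mem (Subgroup.mem_sup_left (T := W₂.map (MulAut.conj y).toMonoidHom) h3)
      (Subgroup.mem_sup_right hb')
    simpa [mul_assoc] using h4
  rw [hEeq, inf_comm]
  exact ⟨hEH, hsup⟩

end Support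

end Cfsg.Agent.Lib.OddOrder.PF13
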