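import Cfsg.Agent.Lib.OddOrder.TypeOne
import Cfsg.Agent.Lib.OddOrder.PF13.Consequences
import Cfsg.Agent.Lib.OddOrder.Assembly.PF11Setup
import Cfsg.Agent.Lib.OddOrder.PF10.Partner
import Cfsg.Agent.Lib.OddOrder.PF12.Final

/-!
# Peterfalvi section 13 assembled

`Inputs` is what remains assumed: `BG16`, the partner, (10.8), coherence in type V, section 11.
The statements S1543, S1547, S1548, S1549 follow from it.
-/

set_option autoImplicit false
set_option linter.style.haveILetI false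
set_option linter.unusedSectionVars false

open scoped commutatorElement

namespace Cfsg.Agent.Lib.OddOrder.PF13

open Cfsg.Agent.Lib.OddOrder.Interface

universe u

variable {G : Type u} [Group G] [Fintype G]

/-- The remaining hypotheses of section 13. -/
structure Inputs (G : Type u) [Group G] [Fintype G] : Prop where
  bg : PF8.BG16 G
  partner : PF10.Partner G
  noncoherent : PF10.Step_10_8 G
  typeV : PF10.TypeVCoherent G
  sec11 : PF11.Step_11 G

/-- The facts of §11 used here. -/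
theorem typeThreeFacts (hG : Cfsg.IsMinSimpleOddOrder G) (h : Inputs G) : TypeThreeFacts G := by
  intro M W₁ U W₂ hM hP h34 _
  haveI := Fintype.ofFinite M
  have r := h.sec11 M W₁ U W₂
    (Assembly.pf11_setup hG h.bg h.partner h.noncoherent hM hP h34)
  exact ⟨r.U_cyclic, r.H_elementary, r.H_card, r.p_lt_q⟩

namespace Inputs

variable (hG : Cfsg.IsMinSimpleOddOrder G) (h : Inputs G)
include hG h

theorem noTypeV : PF12.NoTypeV G := Assembly.noTypeV h.noncoherent h.typeV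

theorem step_12_7 : PF12.Step_12_7 G :=
  PF12.Final.typeI_frobenius hG h.bg (h.noTypeV hG)
    (Assembly.typeThreeFourCyclic hG h.bg h.partner h.noncoherent h.sec11)

theorem step_10_11 : PF13Needs.Step_10_11 G := PF10.step_10_11 hG h.partner (h.noTypeV hG)

/-- (13.2). -/
theorem step_13_2 : Step_13_2 G :=
  step_13_2_of h.bg (h.noTypeV hG) (h.step_12_7 hG) (h.step_10_11 hG) (PF13.typeThreeFacts hG h)

/-- (13.12). -/
theorem step_13_12 : Step_13_12 G := PF13.step_13_12 (h.step_13_2 hG)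

variable {S T W₁ W₂ U V : Subgroup G} (hS : IsCoatom S) (hT : IsCoatom T)
  (hSP : Cfsg.IsTypePWith S W₁ U W₂) (hTP : Cfsg.IsTypePWith T W₂ V W₁)
  (hST : S ⊓ T = W₁ ⊔ W₂) (hII : Cfsg.IsOfTypeII S ∨ Cfsg.IsOfTypeII T)
  (hS25 : Cfsg.IsOfTypeII S ∨ Cfsg.IsOfTypeIII S ∨ Cfsg.IsOfTypeIV S ∨ Cfsg.IsOfTypeV S)
  (hT25 : Cfsg.IsOfTypeII T ∨ Cfsg.IsOfTypeIII T ∨ Cfsg.IsOfTypeIV T ∨ Cfsg.IsOfTypeV T)
include hS hT hSP hTP hST hII hS25 hT25

omit hST hII in
/-- S1543, with `A₀` formed with the printed type I (`TypeOne`). -/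
theorem first :
    (Cfsg.IsOfTypeII S ∨ Cfsg.IsOfTypeIII S) ∧ (Nat.card W₁ < Nat.card W₂ → Cfsg.IsOfTypeII S) ∧
      Cfsg.IsElementaryAbelian (Nat.card W₂) (Cfsg.fittingHallOf S) ∧
      Nat.card (Cfsg.fittingHallOf S) = Nat.card W₂ ^ Nat.card W₁ ∧
      Cfsg.IsTISubset (TypeOne.typeA0 S) ∧
      Subgroup.normalizer (TypeOne.typeA0 S) = S :=
  s1543 hG h.bg (h.noTypeV hG) (h.step_12_7 hG) (h.step_10_11 hG) (PF13.typeThreeFacts hG h)
    hS hT hSP hTP hS25 hT25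

/-- S1547. -/
theorem faithful :
    U ⊓ Subgroup.centralizer ((Cfsg.fittingHallOf S : Subgroup G) : Set G) = ⊥ :=
  (h.step_13_12 hG hG S T W₁ W₂ U V hS hT hSP hTP hST hII hS25 hT25).1

/-- S1548. -/
theorem normalizer :
    Subgroup.normalizer (W₁ : Set G) = Subgroup.centralizer (W₁ : Set G) ∧
      Subgroup.centralizer (W₁ : Set G) = Cfsg.fittingHallOf T ⊔ W₂ :=
  normalizer_W₁ (facts_of_pair hG (h.noTypeV hG) (h.step_10_11 hG) (PF13.typeThreeFacts hG h)
      hT hS hTP hSP hT25 hS25).1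
    (h.step_13_12 hG hG S T W₁ W₂ U V hS hT hSP hTP hST hII hS25 hT25).2.1

/-- S1549. -/
theorem support (hSII : Cfsg.IsOfTypeII S) {L : Subgroup G} (hL : IsCoatom L)
    (hNU : Subgroup.normalizer (U : Set G) ≤ L) :
    (∀ x ∈ Cfsg.fittingHallOf L, x ≠ 1 →
      L ⊓ Subgroup.centralizer ({x} : Set G) ≤ Cfsg.fittingHallOf L) ∧
    U ≤ Cfsg.fittingHallOf L ∧
    ((Cfsg.fittingHallOf L ⊓ W₁ = ⊥ ∧ Cfsg.fittingHallOf L ⊔ W₁ = L) ∨
      ∃ y ∈ Cfsg.fittingHallOf T,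
        Cfsg.fittingHallOf L ⊓ (W₁ ⊔ W₂.map (MulAut.conj y).toMonoidHom) = ⊥ ∧
        Cfsg.fittingHallOf L ⊔ (W₁ ⊔ W₂.map (MulAut.conj y).toMonoidHom) = L) :=
  typeII_support hG h.bg (h.step_12_7 hG)
    (facts_of_pair hG (h.noTypeV hG) (h.step_10_11 hG) (PF13.typeThreeFacts hG h)
      hS hT hSP hTP hS25 hT25).1
    (facts_of_pair hG (h.noTypeV hG) (h.step_10_11 hG) (PF13.typeThreeFacts hG h)
      hT hS hTP hSP hT25 hS25).1
    (h.step_13_12 hG hG S T W₁ W₂ U V hS hT hSP hTP hST hII hS25 hT25).2.1 hSII hL hNU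

end Inputs

end Cfsg.Agent.Lib.OddOrder.PF13
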