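import Cfsg.Agent.Lib.OddOrder.PF13.Phi
import Cfsg.Agent.Lib.OddOrder.PF13.Facts
import Cfsg.Agent.Lib.OddOrder.PF9Coherence
import Cfsg.Agent.Lib.OddOrder.PF9.Package
import Cfsg.Agent.Lib.OddOrder.PF9.Setup
import Cfsg.Agent.S1503

/-!
# Peterfalvi (13.2 d): `S(1)` is coherent, and the images of the reducible members

`exists_cohData` gives a linear isometry `T` on the integer combinations of the members, which
extends induction on the differences of the `Ind_H^S θ`, sends an irreducible member to a signed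
irreducible character orthogonal to the cyclic TI family, and a reducible one to a signed column.
-/

set_option autoImplicit false
set_option linter.style.haveILetI false
set_option linter.unusedSectionVars false

open scoped commutatorElement ComplexConjugate

namespace Cfsg.Agent.Lib.OddOrder.PF13

open Cfsg.Agent.Lib.CyclicTI (IsP IsQ)
open Cfsg.Agent.Lib.Induced.Basic Cfsg.Agent.Lib.Characters.Basic
open Cfsg.Agent.Lib.Isometry.Inner (gen_of_irr gen_sub gen_sum gen_intCast_smul gen_of_isCharacter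
  gen_classFun classInner_neg_left classInner_neg_right classInner_irr_eq classInner_conjFun
  conjFun_conjFun eq_zero_of_classInner_self classInner_gen_comm subset_zspan mem_zspanOn_one)

universe u

variable {G : Type u} [Group G] [Fintype G]

open Classical in
/-- The image of an orthonormal family. -/
theorem orthonormal_image {ι : Type u} (s : Finset ι) (f : ι → G → ℂ)
    (h : ∀ z ∈ s, ∀ z' ∈ s, Cfsg.classInner (f z) (f z') = if z = z' then 1 else 0) :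
    (∀ α ∈ s.image f, ∀ β ∈ s.image f, Cfsg.classInner α β = if α = β then 1 else 0) ∧
      ∑ α ∈ s.image f, α = ∑ z ∈ s, f z := by
  have hinj : ∀ z ∈ s, ∀ z' ∈ s, f z = f z' → z = z' := by
    intro z hz z' hz' e
    by_contra hne
    have h1 := h z hz z' hz'
    rw [if_neg hne, e, h z' hz' z' hz', if_pos rfl] at h1
    exact one_ne_zero h1
  refine ⟨fun α hα β hβ => ?_, Finset.sum_image hinj⟩
  obtain ⟨z, hz, rfl⟩ := Finset.mem_image.1 hα
  obtain ⟨z', hz', rfl⟩ := Finset.mem_image.1 hβ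
  rw [h z hz z' hz']
  by_cases e : z = z'
  · rw [if_pos e, if_pos (by rw [e])]
  · rw [if_neg e, if_neg fun e' => e (hinj z hz z' hz' e')]

theorem hom_inv_inv {H : Type u} [Group H] (ψ : H →* ℂˣ) : ψ⁻¹⁻¹ = ψ :=
  MonoidHom.ext fun w => by simp [MonoidHom.inv_apply]

theorem isometry_sub {L : Type u} [Group L] [Fintype L] {E : Set (L → ℂ)}
    {T : (L → ℂ) → (G → ℂ)} (hT : Cfsg.IsLinearIsometryOn (Cfsg.zspan E) T) {α β : L → ℂ}
    (hα : α ∈ Cfsg.zspan E) (hβ : β ∈ Cfsg.zspan E) : T (α - β) = T α - T β := by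
  have h := hT.1 (α - β) (Isometry.Coherence.zspan_sub hα hβ) β hβ
  rw [sub_add_cancel] at h
  rw [h, add_sub_cancel_right]

theorem isometry_smul {L : Type u} [Group L] [Fintype L] {E : Set (L → ℂ)}
    {T : (L → ℂ) → (G → ℂ)} (hT : Cfsg.IsLinearIsometryOn (Cfsg.zspan E) T) {α : L → ℂ}
    (hα : α ∈ Cfsg.zspan E) (n : ℤ) : T ((n : ℂ) • α) = (n : ℂ) • T α := by
  rw [Int.cast_smul_eq_zsmul, Int.cast_smul_eq_zsmul, hT.2.1 α hα n]

variable {S W₁ U W₂ : Subgroup G} [Fintype S] [Fintype (↥(W₁ ⊔ W₂) →* ℂˣ)]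
  [DecidablePred (IsP (W₁ := W₁) (W₂ := W₂))] [Fintype (derivedIn S)]
  {η μ' : (↥(W₁ ⊔ W₂) →* ℂˣ) → G → ℂ}
  {μ : (↥(W₁ ⊔ W₂) →* ℂˣ) → ↥S → ℂ} {δ : (↥(W₁ ⊔ W₂) →* ℂˣ) → ℤ}
  {A : Set G}
  (F : Facts S W₁ U W₂) (hM : IsMu S W₁ W₂ η μ' μ δ) (hη : Cfsg.IsCyclicTIFamily W₁ W₂ η)
  (hA : AFacts S W₁ W₂ A)

/-- The data carried by `R χ` for a member `χ`. -/
def RType (S : Subgroup G) [Fintype S] (η : (↥(W₁ ⊔ W₂) →* ℂˣ) → G → ℂ)
    (μ : (↥(W₁ ⊔ W₂) →* ℂˣ) → ↥S → ℂ) (χ : ↥S → ℂ) (α : G → ℂ) : Prop :=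
  (∃ a b : G → ℂ, Cfsg.IsIrrCharacter ↥S χ ∧ Cfsg.IsIrrCharacter G a ∧ Cfsg.IsIrrCharacter G b ∧
      a ≠ b ∧ Cfsg.indFun S (χ - Cfsg.conjFun χ) = a - b ∧ (α = a ∨ α = -b)) ∨
    ∃ (ψ φ ω : ↥(W₁ ⊔ W₂) →* ℂˣ) (c : ℂ), IsCol S μ ψ ∧ χ = col μ ψ ∧ IsP φ ∧
      (ω = ψ ∨ ω = ψ⁻¹) ∧ α = c • η (φ * ω)

include F in
theorem Phi_eq_of_conj {s : G} (hs : s ∈ S) {θ θ' : ↥(Hof S U) →* ℂˣ} (hc : ConjTo s θ θ') :
    Phi θ = Phi θ' := by
  have h := F.side
  refine sub_eq_zero.1 (eq_zero_of_classInner_self ?_)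
  simp only [classInner_sub_left, classInner_sub_right, classInner_Phi F]
  rw [← h.card_conj_left hs hc, h.card_conj_right hs hc (θ'' := θ),
    h.card_conj_right hs hc (θ'' := θ'), ← h.card_conj_left hs hc]
  ring

include F hM

theorem member_gen {χ : ↥S → ℂ} (hχ : χ ∈ memS S) :
    Cfsg.IsCharacter ↥S χ := by
  obtain ⟨θ, hθ, -, -, rfl⟩ := hχ
  exact Induced.Character.isCharacter_indFun _ (IsCharacter_of_isIrrCharacter hθ)

theorem col_inj {ψ ψ' : ↥(W₁ ⊔ W₂) →* ℂˣ} (hψ : IsQ ψ) (hψ' : IsQ ψ')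
    (e : col μ ψ = col μ ψ') : ψ = ψ' := by
  classical
  by_contra hne
  have h := classInner_col F hM hψ hψ'
  rw [if_neg hne, ← e, classInner_col F hM hψ hψ, if_pos rfl] at h
  exact subgroup_card_ne_zero W₁ h

theorem member_orth {χ φ : ↥S → ℂ} (hχ : χ ∈ memS S) (hφ : φ ∈ memS S) (hne : χ ≠ φ) :
    Cfsg.classInner χ φ = 0 := by
  classical
  rcases member_cases F hM hχ with hi | ⟨ψ, hψ, rfl⟩ <;>
    rcases member_cases F hM hφ with hi' | ⟨ψ', hψ', rfl⟩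
  · rw [classInner_irr_eq hi hi', if_neg hne]
  · exact classInner_irr_col F hM hχ hi ψ'
  · rw [← classInner_conj_symm φ (col μ ψ), classInner_irr_col F hM hφ hi' ψ, map_zero]
  · rw [classInner_col F hM hψ.1 hψ'.1, if_neg fun e => hne (by rw [e])]

theorem member_ne_zero {χ : ↥S → ℂ} (hχ : χ ∈ memS S) : χ ≠ 0 := by
  classical
  intro h0
  rcases member_cases F hM hχ with hi | ⟨ψ, hψ, e⟩
  · have h := classInner_irr_eq hi hi
    rw [if_pos rfl, h0, classInner_zero_left] at h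
    exact zero_ne_one h
  · have h := classInner_col F hM hψ.1 hψ.1
    rw [if_pos rfl, ← e, h0, classInner_zero_left] at h
    exact subgroup_card_ne_zero W₁ h.symm

include hη in
open Classical in
theorem classInner_eta {φ φ' ψ ψ' : ↥(W₁ ⊔ W₂) →* ℂˣ} (hφ : IsP φ) (hφ' : IsP φ') (hψ : IsQ ψ)
    (hψ' : IsQ ψ') :
    Cfsg.classInner (η (φ * ψ)) (η (φ' * ψ')) = if φ = φ' ∧ ψ = ψ' then 1 else 0 := by
  rw [hη.orthonormal]
  by_cases e : φ * ψ = φ' * ψ'
  · rw [if_pos e, if_pos (CyclicTI.pair_inj hφ hφ' hψ hψ' e)]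
  · rw [if_neg e, if_neg fun h => e (by rw [h.1, h.2])]

include hη in
theorem classInner_eta_ecol {φ ψ ψ' : ↥(W₁ ⊔ W₂) →* ℂˣ} (hφ : IsP φ) (hψ : IsQ ψ) (hψ' : IsQ ψ')
    [Decidable (ψ = ψ')] :
    Cfsg.classInner (ecol η ψ') (η (φ * ψ)) = if ψ = ψ' then 1 else 0 := by
  classical
  rw [ecol, classInner_sum_left, Finset.sum_congr rfl fun φ' h =>
    classInner_eta F hM hη (Finset.mem_filter.1 h).2 hφ hψ' hψ]
  by_cases e : ψ = ψ'
  · subst e
    simp [Finset.sum_ite_eq', hφ]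
  · simp [e, Ne.symm e]

include hη in
open Classical in
theorem classInner_ecol {ψ ψ' : ↥(W₁ ⊔ W₂) →* ℂˣ} (hψ : IsQ ψ) (hψ' : IsQ ψ') :
    Cfsg.classInner (ecol η ψ) (ecol η ψ') = if ψ = ψ' then (Nat.card W₁ : ℂ) else 0 := by
  conv_lhs => arg 2; rw [ecol]
  rw [classInner_sum_right, Finset.sum_congr rfl fun φ h =>
    classInner_eta_ecol F hM hη (Finset.mem_filter.1 h).2 hψ' hψ]
  by_cases e : ψ = ψ'
  · subst e
    simp [card_isP_filter F]
  · simp [e, Ne.symm e]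

include hη in
theorem ecol_gen (ψ : ↥(W₁ ⊔ W₂) →* ℂˣ) : Cfsg.IsGeneralizedCharacter G (ecol η ψ) :=
  gen_sum _ fun _ _ => eta_gen F hM hη _

theorem col_one_inv (ψ : ↥(W₁ ⊔ W₂) →* ℂˣ) : μ ψ⁻¹ 1 = μ ψ 1 := by
  rw [(hM.conj ψ).1]
  exact conj_apply_one (IsCharacter_of_isIrrCharacter (hM.irr ψ))

include hη hA in
theorem exists_R {χ : ↥S → ℂ} (hχ : χ ∈ memS S) :
    ∃ R : Finset (G → ℂ), (∀ α ∈ R, RType S η μ χ α) ∧
      (∀ α ∈ R, Cfsg.IsGeneralizedCharacter G α) ∧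
      (∀ [DecidableEq (G → ℂ)], ∀ α ∈ R, ∀ β ∈ R,
        Cfsg.classInner α β = if α = β then 1 else 0) ∧
      Cfsg.indFun S (χ - Cfsg.conjFun χ) = ∑ α ∈ R, α := by
  classical
  rcases member_cases F hM hχ with hi | ⟨ψ, hψ, rfl⟩
  · obtain ⟨-, -, -, -, a, b, ha, hb, hab, he⟩ := exists_pair F hM hχ hi hA
    have hne : a ≠ -b := by
      intro e
      have h := classInner_irr_eq ha hb
      rw [if_neg hab, e, classInner_neg_left, classInner_irr_eq hb hb, if_pos rfl] at h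
      norm_num at h
    refine ⟨{a, -b}, ?_, ?_, ?_, ?_⟩
    · intro α hα
      exact Or.inl ⟨a, b, hi, ha, hb, hab, he, by simpa using hα⟩
    · intro α hα
      simp only [Finset.mem_insert, Finset.mem_singleton] at hα
      rcases hα with rfl | rfl
      · exact gen_of_irr ha
      · exact Isometry.Inner.gen_neg (gen_of_irr hb)
    · intro _ α hα β hβ
      simp only [Finset.mem_insert, Finset.mem_singleton] at hα hβ
      rcases hα with rfl | rfl <;> rcases hβ with rfl | rfl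
      · rw [if_pos rfl, classInner_irr_eq ha ha, if_pos rfl]
      · rw [if_neg hne, classInner_neg_right, classInner_irr_eq ha hb, if_neg hab, neg_zero]
      · rw [if_neg hne.symm, classInner_neg_left, classInner_irr_eq hb ha, if_neg hab.symm, neg_zero]
      · rw [if_pos rfl, classInner_neg_left, classInner_neg_right, classInner_irr_eq hb hb,
          if_pos rfl, neg_neg]
    · rw [Finset.sum_pair hne, he, ← sub_eq_add_neg]
  · obtain ⟨hinv, hconj⟩ := hψ.inv F hM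
    have hne : ψ ≠ ψ⁻¹ := (IsQ.inv_ne F hψ.2.1).symm
    obtain ⟨-, hd⟩ := col_diff F hM hη hA hψ hinv (col_one_inv F hM ψ).symm
    let c : (↥(W₁ ⊔ W₂) →* ℂˣ) → ℤ := fun ω => if ω = ψ then δ ψ else -δ ψ
    let f : (↥(W₁ ⊔ W₂) →* ℂˣ) × (↥(W₁ ⊔ W₂) →* ℂˣ) → G → ℂ := fun z =>
      (c z.2 : ℂ) • η (z.1 * z.2)
    set s := Finset.univ.filter (IsP (W₁ := W₁) (W₂ := W₂)) ×ˢ ({ψ, ψ⁻¹} : Finset _) with hs
    have hmem : ∀ z ∈ s, IsP z.1 ∧ IsQ z.2 ∧ (z.2 = ψ ∨ z.2 = ψ⁻¹) := by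
      intro z hz
      rw [hs, Finset.mem_product, Finset.mem_filter] at hz
      have h2 : z.2 = ψ ∨ z.2 = ψ⁻¹ := by simpa using hz.2
      refine ⟨hz.1.2, ?_, h2⟩
      rcases h2 with e | e <;> rw [e]
      · exact hψ.1
      · exact hinv.1
    have hon : ∀ z ∈ s, ∀ z' ∈ s, Cfsg.classInner (f z) (f z') = if z = z' then 1 else 0 := by
      intro z hz z' hz'
      obtain ⟨h1, h2, -⟩ := hmem z hz
      obtain ⟨h1', h2', -⟩ := hmem z' hz'
      simp only [f, classInner_smul_left, classInner_smul_right, map_intCast,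
        classInner_eta F hM hη h1 h1' h2 h2']
      by_cases e : z = z'
      · subst e
        rw [if_pos ⟨rfl, rfl⟩, if_pos rfl, mul_one]
        rcases hM.sign ψ with h | h <;> simp only [c] <;> split_ifs <;> simp [h]
      · rw [if_neg fun h => e (Prod.ext h.1 h.2), if_neg e, mul_zero, mul_zero]
    obtain ⟨hon', hsum⟩ := orthonormal_image s f fun z hz z' hz' => by
      convert hon z hz z' hz'
    refine ⟨s.image f, ?_, ?_, ?_, ?_⟩
    · intro α hα
      obtain ⟨z, hz, rfl⟩ := Finset.mem_image.1 hα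
      obtain ⟨h1, -, h3⟩ := hmem z hz
      exact Or.inr ⟨ψ, z.1, z.2, _, hψ, rfl, h1, h3, rfl⟩
    · intro α hα
      obtain ⟨z, -, rfl⟩ := Finset.mem_image.1 hα
      exact gen_intCast_smul (eta_gen F hM hη _) _
    · intro _ α hα β hβ
      convert hon' α hα β hβ
    · rw [← hconj, hd, hsum, hs, Finset.sum_product_right, Finset.sum_pair hne, ecol, ecol,
        smul_sub, Finset.smul_sum, Finset.smul_sum, sub_eq_add_neg, ← Finset.sum_neg_distrib]
      simp [f, c, hne.symm, Int.cast_neg, neg_smul]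

include hη hA in
/-- The coherence system on the members. -/
theorem exists_system :
    ∃ R, Cfsg.IsCoherenceSystem (memS S) (fun α => Cfsg.indFun S α) R := by
  classical
  choose! R hR using fun χ (hχ : χ ∈ memS S) => exists_R F hM hη hA hχ
  refine ⟨R, ?_⟩
  have hsuppA : ∀ α ∈ Cfsg.zspanOn (memS S) ({1}ᶜ : Set ↥S), Support.Supp A α := fun α hα =>
    ⟨(span_supp F hM hα).1, fun x hx => (span_supp F hM hα).2 x fun h => hx (hA.AK_subset h)⟩
  refine
    { nonempty := ?_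
      isCharacter := fun χ hχ => member_gen F hM hχ
      conj_mem := ?_
      conj_ne := ?_
      isometry := ⟨fun α _ β _ => indFun_add S α β, fun α _ n => ?_, fun α hα β hβ => ?_,
        fun α hα => ?_⟩
      map_one := fun α hα => ?_
      orthogonal := fun χ hχ φ hφ hne => member_orth F hM hχ hφ hne
      orthonormal := fun χ hχ α hα β hβ => ?_
      virtual := fun χ hχ => (hR χ hχ).2.1
      sum_eq := fun χ hχ => (hR χ hχ).2.2.2
      disjoint := ?_ }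
  · obtain ⟨θ, hf, hm⟩ := F.side.exists_fixed
    obtain ⟨ψ, hψ, -⟩ := fixed_col F hM hm hf
    exact ⟨_, hψ.mem F hM⟩
  · intro χ hχ
    rcases member_cases F hM hχ with hi | ⟨ψ, hψ, rfl⟩
    · exact (exists_pair F hM hχ hi hA).2.2.1
    · obtain ⟨hinv, hconj⟩ := hψ.inv F hM
      rw [← hconj]; exact hinv.mem F hM
  · intro χ hχ
    rcases member_cases F hM hχ with hi | ⟨ψ, hψ, rfl⟩
    · exact (exists_pair F hM hχ hi hA).2.2.2.1
    · obtain ⟨hinv, hconj⟩ := hψ.inv F hM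
      rw [← hconj]
      exact fun e => IsQ.inv_ne F hψ.2.1 (col_inj F hM hinv.1 hψ.1 e)
  · show Cfsg.indFun S (n • α) = n • Cfsg.indFun S α
    rw [← Int.cast_smul_eq_zsmul ℂ, ← Int.cast_smul_eq_zsmul ℂ, indFun_smul]
  · exact Support.classInner_indFun hA.ti hA.one_not_mem hA.normalizer (hsuppA α hα) (hsuppA β hβ)
  · exact Induced.Character.isGeneralizedCharacter_indFun S (Isometry.Inner.gen_zspan
      (fun χ hχ => gen_of_isCharacter (member_gen F hM hχ)) hα.1)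
  · show Cfsg.indFun S α 1 = 0
    rw [indFun_one, (mem_zspanOn_one.1 hα).2, mul_zero]
  · exact (hR χ hχ).2.2.1 α hα β hβ
  intro χ hχ φ hφ h0 h0' α hα β hβ
  rcases (hR φ hφ).1 α hα with ⟨a, b, hφi, ha, hb, hab, he, hα'⟩ | ⟨ψ, p, ω, c, hψ, rfl, hp, hω, rfl⟩
  · obtain ⟨hsupp, hone, -, -, -⟩ := exists_pair F hM hφ hφi hA
    have hpiece : IsPiece S α := ⟨φ, a, b, ha, hb, hab, hsupp, he, by tauto⟩
    rcases (hR χ hχ).1 β hβ with ⟨c', d, hχi, hc, hd, hcd, he', hβ'⟩ |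
      ⟨ψ', p', ω', c'', hψ', rfl, hp', hω', rfl⟩
    · obtain ⟨hsupp', hone', -, -, -⟩ := exists_pair F hM hχ hχi hA
      have hz : Cfsg.classInner (φ - Cfsg.conjFun φ) (χ - Cfsg.conjFun χ) = 0 := by
        have e1 : Cfsg.classInner (Cfsg.conjFun φ) (Cfsg.conjFun χ) = 0 := by
          rw [classInner_conjFun, h0, map_zero]
        have e2 : Cfsg.classInner (Cfsg.conjFun φ) χ = 0 := by
          rw [← conjFun_conjFun χ, classInner_conjFun, h0', map_zero]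
        rw [classInner_sub_left, classInner_sub_right, classInner_sub_right, h0, h0', e1, e2]
        ring
      have h4 := pieces_orth F ha hb hab hc hd hcd he he' hone hone' (by
        rw [Support.classInner_indFun hA.ti hA.one_not_mem hA.normalizer
          ⟨hsupp.1, fun x hx => hsupp.2 x fun h => hx (hA.AK_subset h)⟩
          ⟨hsupp'.1, fun x hx => hsupp'.2 x fun h => hx (hA.AK_subset h)⟩]
        exact hz)
      rcases hα' with rfl | rfl <;> rcases hβ' with rfl | rfl <;>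
        simp [classInner_neg_left, classInner_neg_right, h4.1, h4.2.1, h4.2.2.1, h4.2.2.2]
    · rw [classInner_smul_right, piece_eta F hM hη hA hpiece, mul_zero]
  · rcases (hR χ hχ).1 β hβ with ⟨c', d, hχi, hc, hd, hcd, he', hβ'⟩ |
      ⟨ψ', p', ω', c'', hψ', rfl, hp', hω', rfl⟩
    · obtain ⟨hsupp', -, -, -, -⟩ := exists_pair F hM hχ hχi hA
      have hpiece : IsPiece S β := ⟨χ, c', d, hc, hd, hcd, hsupp', he', by tauto⟩
      rw [classInner_smul_left, ← classInner_conj_symm β, piece_eta F hM hη hA hpiece, map_zero,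
        mul_zero]
    · obtain ⟨hinv, -⟩ := hψ.inv F hM
      obtain ⟨hinv', hconj'⟩ := hψ'.inv F hM
      have n1 : ψ ≠ ψ' := by
        rintro rfl
        rw [classInner_col F hM hψ.1 hψ.1, if_pos rfl] at h0
        exact subgroup_card_ne_zero W₁ h0
      have n2 : ψ ≠ ψ'⁻¹ := by
        rintro rfl
        rw [← hconj', classInner_col F hM hψ.1 hψ.1, if_pos rfl] at h0'
        exact subgroup_card_ne_zero W₁ h0'
      have n3 : ψ⁻¹ ≠ ψ' := by rintro rfl; exact n2 (hom_inv_inv ψ).symm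
      have n4 : ψ⁻¹ ≠ ψ'⁻¹ := fun e => n1 (by rw [← hom_inv_inv ψ, e, hom_inv_inv])
      have hne : ω ≠ ω' := by
        rcases hω with rfl | rfl <;> rcases hω' with rfl | rfl <;> assumption
      have hωQ : IsQ ω := by rcases hω with rfl | rfl <;> [exact hψ.1; exact hinv.1]
      have hωQ' : IsQ ω' := by rcases hω' with rfl | rfl <;> [exact hψ'.1; exact hinv'.1]
      rw [classInner_smul_left, classInner_smul_right, classInner_eta F hM hη hp hp' hωQ hωQ',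
        if_neg fun h => hne h.2, mul_zero, mul_zero]

include hη hA in
/-- (13.2 d): `S(1)` is coherent. -/
theorem coherent (hG : Cfsg.IsMinSimpleOddOrder G) :
    Cfsg.IsCoherent (memS S) ({1}ᶜ : Set ↥S) (fun α => Cfsg.indFun S α) := by
  classical
  obtain ⟨R, hR⟩ := exists_system F hM hη hA
  have hyp := ((PF9.Setup.step_9_1 (G := G)) hG S W₁ U W₂ F.maxS F.typeP F.U_ne F.q_prime).1
  set K := (⁅S, S⁆ : Subgroup G).subgroupOf S with hK
  set H := Cfsg.fittingHall ↥S with hH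
  set U' := U.subgroupOf S with hU'
  have hPin : Pin S = H := by
    rw [hH]
    exact Subgroup.comap_map_eq_self_of_injective (Subgroup.subtype_injective S) _
  have hHP : ∀ x : ↥S, x ∈ H ↔ (x : G) ∈ Cfsg.fittingHallOf S := fun x => by
    rw [← hPin, Subgroup.mem_subgroupOf]
  have hk : PF9.IsChiefKernel H U' ⊥ := by
    refine ⟨inferInstance, bot_lt_iff_ne_bot.2 fun e => hyp.W₂_ne (le_bot_iff.1 (e ▸ hyp.W₂_le)),
      fun N hN _ hNH => ?_, fun hm => hyp.U_not_cent fun a ha => ?_⟩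
    · have hX : N.map S.subtype ≤ Cfsg.fittingHallOf S := by
        rintro _ ⟨x, hx, rfl⟩
        exact (hHP x).1 (hNH hx)
      have hnorm : ∀ g ∈ S, g ∈ Subgroup.normalizer ((N.map S.subtype : Subgroup G) : Set G) := by
        intro g hg
        have h := Subgroup.le_normalizer_map (H := N) S.subtype
          (Subgroup.mem_map_of_mem S.subtype (show (⟨g, hg⟩ : ↥S) ∈ Subgroup.normalizer (N : Set ↥S) by
            rw [Subgroup.normalizer_eq_top_iff.2 hN]; trivial))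
        exact h
      rcases F.minimal hX (fun g hg => hnorm g (F.U_le hg)) (fun g hg => hnorm g (F.W₁_le hg)) with
        h | h
      · left
        rw [eq_bot_iff]
        intro x hx
        have h1 : (x : G) ∈ N.map S.subtype := ⟨x, hx, rfl⟩
        rw [h, Subgroup.mem_bot] at h1
        exact Subgroup.mem_bot.2 (Subtype.ext h1)
      · right
        refine le_antisymm hNH fun x hx => ?_
        have h1 : (x : G) ∈ N.map S.subtype := by rw [h]; exact (hHP x).1 hx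
        obtain ⟨y, hy, e⟩ := h1
        rwa [← Subtype.ext e]
    · refine Subgroup.mem_centralizer_iff.2 fun x hx => ?_
      have h := Subgroup.mem_bot.1 (hm a ha x hx)
      exact (commutatorElement_eq_one_iff_mul_comm.1 h).symm
  obtain ⟨p, C, hC, -, -, -, -, -, -, hset, hdich⟩ := (PF9.package hyp).2.2 ⊥ hk
  have hC' : ⁅C, C⁆ = ⊥ := by
    rw [Subgroup.commutator_eq_bot_iff_le_centralizer]
    intro x hx
    refine Subgroup.mem_centralizer_iff.2 fun y hy => Subtype.ext ?_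
    exact F.U_comm _ (Subgroup.mem_subgroupOf.1 ((hC y).1 hy).1) _
      (Subgroup.mem_subgroupOf.1 ((hC x).1 hx).1)
  haveI := hset.K_normal
  haveI := hset.H_normal
  haveI : (⊥ : Subgroup ↥S).Normal := inferInstance
  haveI : Fintype ↥K := Fintype.ofFinite _
  have hco : PF9Char.CoreCoherence.{u, u} K H ⊥ C := fun {G'} _ _ =>
    PF9Char.coreCoherence.{u, u} hset hdich (G := G')
  have hseq : PF9Char.seqS K H (⊥ ⊔ ⁅C, C⁆) = memS S := by
    rw [hC', bot_sup_eq, ← hPin]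
  have key := hco (G := G) {x : ↥S | (x : G) ∈ AK S} (fun α => Cfsg.indFun S α) R
    (by rw [hseq]; exact hR)
    (fun x hx hx1 ⟨y, hy, hy1, hxy⟩ => ⟨hx, fun e => hx1 (Subtype.ext e), y, (hHP y).1 hy,
      fun e => hy1 (Subtype.ext e), congrArg Subtype.val hxy⟩)
    ⟨fun α _ β _ => indFun_add S α β,
      fun α _ n => by
        show Cfsg.indFun S (n • α) = n • Cfsg.indFun S α
        rw [← Int.cast_smul_eq_zsmul ℂ, ← Int.cast_smul_eq_zsmul ℂ, indFun_smul],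
      fun α hα β hβ => Support.classInner_indFun hA.ti hA.one_not_mem hA.normalizer
        ⟨gen_classFun hα.1, fun x hx => hα.2 x fun h => hx (hA.AK_subset h)⟩
        ⟨gen_classFun hβ.1, fun x hx => hβ.2 x fun h => hx (hA.AK_subset h)⟩,
      fun α hα => Induced.Character.isGeneralizedCharacter_indFun S hα.1⟩
    (fun α _ _ => Support.classInner_one α)
  rwa [hseq] at key

/-- The images of the members. -/
structure CohData (S U W₁ W₂ : Subgroup G) [Fintype S] [Fintype (↥(W₁ ⊔ W₂) →* ℂˣ)]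
    [DecidablePred (IsP (W₁ := W₁) (W₂ := W₂))]
    (η : (↥(W₁ ⊔ W₂) →* ℂˣ) → G → ℂ) (T : (↥S → ℂ) → (G → ℂ)) (ε : ℤ) : Prop where
  sign : ε = 1 ∨ ε = -1
  lin : Cfsg.IsLinearIsometryOn (Cfsg.zspan (memS S)) T
  sub : ∀ θ θ' : ↥(Hof S U) →* ℂˣ, Moves (Cfsg.fittingHallOf S) θ →
    Moves (Cfsg.fittingHallOf S) θ' →
    T (Phi θ) - T (Phi θ') = Cfsg.indFun S (Phi θ) - Cfsg.indFun S (Phi θ')
  fixed : ∀ θ : ↥(Hof S U) →* ℂˣ, Moves (Cfsg.fittingHallOf S) θ → FixedBy W₁ θ →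
    ∃ ψ, IsQ ψ ∧ ψ ≠ 1 ∧ T (Phi θ) = (ε : ℂ) • ecol η ψ
  piece : ∀ χ ∈ memS S, Cfsg.IsIrrCharacter ↥S χ → IsPiece S (T χ)

theorem Phi_mem {θ : ↥(Hof S U) →* ℂˣ} (hθ : Moves (Cfsg.fittingHallOf S) θ) :
    Phi θ ∈ Cfsg.zspan (memS S) :=
  Isometry.Inner.zspan_mono (fun _ h => by obtain ⟨κ, -, -, -, h⟩ := h; exact h)
    (Phi_mem_zspan F hθ)

include hη hA in
theorem cohData_of_irr (hG : Cfsg.IsMinSimpleOddOrder G) {χ₀ : ↥S → ℂ} (hχ₀ : χ₀ ∈ memS S)
    (hi₀ : Cfsg.IsIrrCharacter ↥S χ₀) : ∃ T ε, CohData S U W₁ W₂ η T ε := by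
  classical
  obtain ⟨-, T, hT, hag⟩ := coherent F hM hη hA hG
  have hW := F.typeP.selfNormalizing
  have hpiece : ∀ χ ∈ memS S, Cfsg.IsIrrCharacter ↥S χ → IsPiece S (T χ) := by
    intro χ hχ hi
    obtain ⟨hsupp, hone, hc, hne, a, b, ha, hb, hab, he⟩ := exists_pair F hM hχ hi hA
    have hm := subset_zspan _ hχ
    have hm' := subset_zspan _ hc
    have hdiff : T χ - T (Cfsg.conjFun χ) = a - b := by
      rw [← isometry_sub hT hm hm', hag _ (mem_zspanOn_one.2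
        ⟨Isometry.Coherence.zspan_sub hm hm', hone⟩)]
      exact he
    have hnorm : Cfsg.classInner (T χ) (T χ) = 1 := by
      rw [hT.2.2.1 χ hm χ hm, classInner_irr_eq hi hi, if_pos rfl]
    have h1 : Cfsg.classInner (T χ) (a - b) = 1 := by
      rw [← hdiff, classInner_sub_right, hnorm, hT.2.2.1 χ hm _ hm',
        classInner_irr_eq hi (Isometry.Inner.conjFun_irr hi), if_neg hne.symm, sub_zero]
    refine ⟨χ, a, b, ha, hb, hab, hsupp, he, ?_⟩
    have hsig := Isometry.Inner.signed_of_norm_one (hT.2.2.2 χ hm) hnorm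
    rcases Isometry.Inner.signed_cases hsig (Or.inl ha) with h | ⟨c, hc, e, -⟩
    · rw [classInner_sub_right, h, zero_sub] at h1
      rcases Isometry.Inner.signed_cases hsig (Or.inl hb) with h' | ⟨c, hc, e, -⟩
      · rw [h', neg_zero] at h1
        exact absurd h1 zero_ne_one
      · rcases hc with rfl | rfl
        · exact Or.inr (Or.inr (Or.inl (by rw [e, one_smul])))
        · exact Or.inr (Or.inr (Or.inr (by rw [e, neg_one_smul])))
    · rcases hc with rfl | rfl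
      · exact Or.inl (by rw [e, one_smul])
      · exact Or.inr (Or.inl (by rw [e, neg_one_smul]))
  have hTV : ∀ w : ↥(W₁ ⊔ W₂), (w : G) ∉ W₁ → (w : G) ∉ W₂ → T χ₀ w = 0 := by
    intro w h1 h2
    have horth := fun ω => piece_eta F hM hη hA (hpiece χ₀ hχ₀ hi₀) ω
    rcases Isometry.Inner.signed_of_norm_one (hT.2.2.2 _ (subset_zspan _ hχ₀)) (by
      rw [hT.2.2.1 _ (subset_zspan _ hχ₀) _ (subset_zspan _ hχ₀), classInner_irr_eq hi₀ hi₀,
        if_pos rfl]) with h | h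
    · exact Cfsg.Agent.S1503.result W₁ W₂ hW η hη _ h horth w h1 h2
    · have := Cfsg.Agent.S1503.result W₁ W₂ hW η hη _ h
        (fun ω => by rw [classInner_neg_left, horth ω, neg_zero]) w h1 h2
      simpa using this
  obtain ⟨θ₀, hf₀, hm₀⟩ := F.side.exists_fixed
  obtain ⟨ψ₀, hψ₀, e₀⟩ := fixed_col F hM hm₀ hf₀
  obtain ⟨hψi, -⟩ := hψ₀.inv F hM
  set Ψ := (Finset.univ : Finset {ψ : ↥(W₁ ⊔ W₂) →* ℂˣ // IsQ ψ}).filter
    fun j => IsCol S μ j.1 ∧ μ j.1 1 = μ ψ₀ 1 with hΨ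
  set D : G → ℂ := T (col μ ψ₀) - (δ ψ₀ : ℂ) • ecol η ψ₀ with hDdef
  have hmem : ∀ ψ, IsCol S μ ψ → col μ ψ ∈ Cfsg.zspan (memS S) := fun ψ h =>
    subset_zspan _ (h.mem F hM)
  have hDψ : ∀ ψ, IsCol S μ ψ → μ ψ 1 = μ ψ₀ 1 → T (col μ ψ) = D + (δ ψ₀ : ℂ) • ecol η ψ := by
    intro ψ hψ hd
    obtain ⟨hδ, hdiff⟩ := col_diff F hM hη hA hψ hψ₀ hd
    have h := isometry_sub hT (hmem ψ hψ) (hmem ψ₀ hψ₀)
    rw [hag _ (mem_zspanOn_one.2 ⟨Isometry.Coherence.zspan_sub (hmem ψ hψ) (hmem ψ₀ hψ₀), by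
      rw [Pi.sub_apply, col_one F hM, col_one F hM, hd, sub_self]⟩)] at h
    change Cfsg.indFun S (col μ ψ - col μ ψ₀) = _ at h
    rw [hdiff, hδ, smul_sub] at h
    funext g
    have hg := congrFun h g
    simp only [hDdef, Pi.add_apply, Pi.sub_apply] at hg ⊢
    linear_combination -hg
  have hDgen : Cfsg.IsGeneralizedCharacter G D :=
    gen_sub (hT.2.2.2 _ (hmem ψ₀ hψ₀)) (gen_intCast_smul (ecol_gen F hM hη ψ₀) _)
  have hvan : ∀ w : ↥(W₁ ⊔ W₂), (w : G) ∉ W₁ → (w : G) ∉ W₂ → T (col μ ψ₀) w = 0 := by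
    intro w h1 h2
    obtain ⟨d, hd0, hd⟩ := exists_degree_pos (⟨χ₀, hi₀⟩ : Cfsg.IrrCharacter ↥S)
    change χ₀ 1 = (d : ℂ) at hd
    set n : ℕ := (Hin S U).index with hn
    have hcol1 : col μ ψ₀ 1 = (n : ℂ) := by rw [← e₀, Phi_one F θ₀]
    set α : ↥S → ℂ := ((d : ℤ) : ℂ) • col μ ψ₀ - ((n : ℤ) : ℂ) • χ₀ with hα
    have ha1 := Isometry.Coherence.zspan_smul (d : ℤ) (hmem ψ₀ hψ₀)
    have ha2 := Isometry.Coherence.zspan_smul (n : ℤ) (subset_zspan _ hχ₀)
    have hon : α ∈ Cfsg.zspanOn (memS S) ({1}ᶜ : Set ↥S) :=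
      mem_zspanOn_one.2 ⟨Isometry.Coherence.zspan_sub ha1 ha2, by
        simp only [hα, Pi.sub_apply, Pi.smul_apply, smul_eq_mul, hcol1, hd]
        push_cast; ring⟩
    have h := ind_vanish_V F hM hA (span_supp F hM hon) w h1 h2
    rw [← show T α = Cfsg.indFun S α from hag α hon, hα, isometry_sub hT ha1 ha2,
      isometry_smul hT (hmem ψ₀ hψ₀), isometry_smul hT (subset_zspan _ hχ₀)] at h
    simp only [Pi.sub_apply, Pi.smul_apply, smul_eq_mul, hTV w h1 h2, mul_zero, sub_zero,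
      Int.cast_natCast, mul_eq_zero, Nat.cast_eq_zero] at h
    exact h.resolve_left hd0.ne'
  have hsub : ecol η ψ₀ = ∑ i : {φ : ↥(W₁ ⊔ W₂) →* ℂˣ // IsP φ}, η (i.1 * ψ₀) :=
    Finset.sum_subtype _ (fun φ => by simp) _
  haveI : Nonempty {φ : ↥(W₁ ⊔ W₂) →* ℂˣ // IsP φ} := ⟨⟨1, CyclicTI.isP_one⟩⟩
  have hgrid := Column.grid_column
    (fun (i : {φ : ↥(W₁ ⊔ W₂) →* ℂˣ // IsP φ}) (j : {ψ : ↥(W₁ ⊔ W₂) →* ℂˣ // IsQ ψ}) =>
      η (i.1 * j.1))
    (fun i j => eta_gen F hM hη _)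
    (fun i j => by rw [classInner_eta F hM hη i.2 i.2 j.2 j.2, if_pos ⟨rfl, rfl⟩])
    (fun i j i' j' h => by
      rw [classInner_eta F hM hη i.2 i'.2 j.2 j'.2,
        if_neg fun h' => h (Prod.ext (Subtype.ext h'.1) (Subtype.ext h'.2))])
    hDgen
    (fun i i' j j' => by
      have h := Cfsg.Agent.S1506.result W₁ W₂ hW η hη _
        (gen_classFun (hT.2.2.2 _ (hmem ψ₀ hψ₀))) hvan i.1 i'.1 j.1 j'.1
        (fun w hw => ⟨i.2 w hw, i'.2 w hw⟩) (fun w hw => ⟨j.2 w hw, j'.2 w hw⟩)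
      simp only [hDdef, classInner_sub_left, classInner_smul_left,
        classInner_eta_ecol F hM hη i.2 j.2 hψ₀.1, classInner_eta_ecol F hM hη i'.2 j'.2 hψ₀.1,
        classInner_eta_ecol F hM hη i.2 j'.2 hψ₀.1, classInner_eta_ecol F hM hη i'.2 j.2 hψ₀.1]
      linear_combination h)
    Ψ (j₀ := ⟨1, CyclicTI.isQ_one⟩) (j₁ := ⟨ψ₀, hψ₀.1⟩) (j₂ := ⟨ψ₀⁻¹, hψi.1⟩)
    (fun h => (Finset.mem_filter.1 h).2.1.2.1 rfl)
    (Finset.mem_filter.2 ⟨Finset.mem_univ _, hψ₀, rfl⟩)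
    (Finset.mem_filter.2 ⟨Finset.mem_univ _, hψi, col_one_inv F hM ψ₀⟩)
    (fun e => IsQ.inv_ne F hψ₀.2.1 (congrArg Subtype.val e).symm) (δ ψ₀) (hM.sign ψ₀)
    (fun j hj => by
      obtain ⟨-, hj1, hj2⟩ := Finset.mem_filter.1 hj
      have e : ∑ i : {φ : ↥(W₁ ⊔ W₂) →* ℂˣ // IsP φ}, η (i.1 * j.1) = ecol η j.1 :=
        (Finset.sum_subtype _ (fun φ => by simp) fun φ => η (φ * j.1)).symm
      rw [e]
      have h := hT.2.2.1 _ (hmem _ hj1) _ (hmem _ hj1)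
      have hE := gen_intCast_smul (ecol_gen F hM hη j.1) (δ ψ₀)
      rw [hDψ _ hj1 hj2, classInner_col F hM j.2 j.2, if_pos rfl, classInner_add_left,
        classInner_add_right, classInner_add_right, classInner_gen_comm hE hDgen] at h
      have h2 : Cfsg.classInner ((δ ψ₀ : ℂ) • ecol η j.1) ((δ ψ₀ : ℂ) • ecol η j.1) =
          (Nat.card W₁ : ℂ) := by
        rw [classInner_smul_left, classInner_smul_right, classInner_ecol F hM hη j.2 j.2,
          if_pos rfl, map_intCast]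
        rcases hM.sign ψ₀ with h | h <;> simp [h]
      rw [h2] at h
      linear_combination h)
  have hfix : ∀ θ : ↥(Hof S U) →* ℂˣ, Moves (Cfsg.fittingHallOf S) θ → FixedBy W₁ θ →
      ∃ ψ, IsCol S μ ψ ∧ μ ψ 1 = μ ψ₀ 1 ∧ Phi θ = col μ ψ := by
    intro θ hm hf
    obtain ⟨ψ, hψ, e⟩ := fixed_col F hM hm hf
    exact ⟨ψ, hψ, by rw [mu_one_of_fixed F hM e, mu_one_of_fixed F hM e₀], e⟩
  have hsubPhi : ∀ θ θ' : ↥(Hof S U) →* ℂˣ, Moves (Cfsg.fittingHallOf S) θ →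
      Moves (Cfsg.fittingHallOf S) θ' →
      T (Phi θ) - T (Phi θ') = Cfsg.indFun S (Phi θ) - Cfsg.indFun S (Phi θ') := by
    intro θ θ' hm hm'
    rw [← isometry_sub hT (Phi_mem F hM hm) (Phi_mem F hM hm'), ← indFun_sub]
    exact hag _ (mem_zspanOn_one.2 ⟨Isometry.Coherence.zspan_sub (Phi_mem F hM hm) (Phi_mem F hM hm'),
      by rw [Pi.sub_apply, Phi_one F, Phi_one F, sub_self]⟩)
  rcases hgrid with hD0 | ⟨hall, hDe⟩
  · refine ⟨T, δ ψ₀, hM.sign ψ₀, hT, hsubPhi, fun θ hm hf => ?_, hpiece⟩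
    obtain ⟨ψ, hψ, hd, e⟩ := hfix θ hm hf
    exact ⟨ψ, hψ.1, hψ.2.1, by rw [e, hDψ ψ hψ hd, hD0, zero_add]⟩
  · refine ⟨T, -δ ψ₀, by rcases hM.sign ψ₀ with h | h <;> simp [h], hT, hsubPhi,
      fun θ hm hf => ?_, hpiece⟩
    obtain ⟨ψ, hψ, hd, e⟩ := hfix θ hm hf
    obtain ⟨hψ', -⟩ := hψ.inv F hM
    refine ⟨ψ⁻¹, hψ'.1, hψ'.2.1, ?_⟩
    have e₂ : ∀ j : ↥(W₁ ⊔ W₂) →* ℂˣ,
        ∑ i : {φ : ↥(W₁ ⊔ W₂) →* ℂˣ // IsP φ}, η (i.1 * j) = ecol η j := fun j =>
      (Finset.sum_subtype _ (fun φ => by simp) fun φ => η (φ * j)).symm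
    rw [e, hDψ ψ hψ hd, hDe]
    simp only [e₂, Int.cast_neg, neg_smul]
    rcases hall ⟨ψ, hψ.1⟩ (Finset.mem_filter.2 ⟨Finset.mem_univ _, hψ, hd⟩) with h | h
    · rw [show ψ = ψ₀ from congrArg Subtype.val h]; abel
    · rw [show ψ = ψ₀⁻¹ from congrArg Subtype.val h, hom_inv_inv]; abel

include hη hA in
theorem cohData_of_not_irr (hno : ∀ χ ∈ memS S, ¬ Cfsg.IsIrrCharacter ↥S χ) :
    ∃ T ε, CohData S U W₁ W₂ η T ε := by
  classical
  have hfin := Isometry.Coherence.finite_of_orthogonal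
    (fun χ hχ φ hφ hne => member_orth F hM hχ hφ hne) (fun χ hχ => member_ne_zero F hM hχ)
  let f : (↥S → ℂ) → (G → ℂ) := fun χ =>
    if h : ∃ ψ, IsCol S μ ψ ∧ χ = col μ ψ then
      (δ (Classical.choose h) : ℂ) • ecol η (Classical.choose h) else 0
  have hf : ∀ ψ, IsCol S μ ψ → f (col μ ψ) = (δ ψ : ℂ) • ecol η ψ := by
    intro ψ hψ
    have h : ∃ ψ', IsCol S μ ψ' ∧ col μ ψ = col μ ψ' := ⟨ψ, hψ, rfl⟩
    simp only [f, dif_pos h]
    rw [← col_inj F hM hψ.1 (Classical.choose_spec h).1.1 (Classical.choose_spec h).2]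
  set T := Isometry.Coherence.linExt hfin.toFinset f with hTdef
  have hT : ∀ ψ, IsCol S μ ψ → T (col μ ψ) = (δ ψ : ℂ) • ecol η ψ := by
    intro ψ hψ
    rw [hTdef, Isometry.Coherence.linExt_apply f
      (fun χ hχ φ hφ hne => member_orth F hM (hfin.mem_toFinset.1 hχ) (hfin.mem_toFinset.1 hφ) hne)
      (fun χ hχ => member_ne_zero F hM (hfin.mem_toFinset.1 hχ))
      (hfin.mem_toFinset.2 (hψ.mem F hM)), hf ψ hψ]
  have hcol : ∀ χ ∈ memS S, ∃ ψ, IsCol S μ ψ ∧ χ = col μ ψ := fun χ hχ =>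
    (member_cases F hM hχ).resolve_left (hno χ hχ)
  obtain ⟨θ₀, hf₀, hm₀⟩ := F.side.exists_fixed
  obtain ⟨ψ₀, hψ₀, e₀⟩ := fixed_col F hM hm₀ hf₀
  have hall : ∀ θ : ↥(Hof S U) →* ℂˣ, Moves (Cfsg.fittingHallOf S) θ →
      ∃ ψ, IsCol S μ ψ ∧ μ ψ 1 = μ ψ₀ 1 ∧ Phi θ = col μ ψ := by
    intro θ hm
    have hnear : NearFixed S W₁ θ := by
      by_contra hn
      have h0 : Cfsg.classInner (Phi θ) (Phi θ) = 0 := by
        refine Isometry.Inner.classInner_zspan_eq_zero (Phi_mem_zspan F hm) ?_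
        rintro φ ⟨κ, hκ, hκ0, rfl, hmem⟩
        exact absurd (constituent_irr F hM hm hn hκ hκ0) (hno _ hmem)
      have h1 := congrFun (eq_zero_of_classInner_self h0) 1
      rw [Phi_one F, Pi.zero_apply, Nat.cast_eq_zero] at h1
      exact Subgroup.FiniteIndex.index_ne_zero h1
    obtain ⟨s, hs, θ', hc, hfx⟩ := hnear
    have hm' := F.side.moves_of_conjTo hs hm hc
    obtain ⟨ψ, hψ, e⟩ := fixed_col F hM hm' hfx
    exact ⟨ψ, hψ, by rw [mu_one_of_fixed F hM e, mu_one_of_fixed F hM e₀],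
      (Phi_eq_of_conj F hs hc).trans e⟩
  refine ⟨T, δ ψ₀, hM.sign ψ₀, Isometry.Coherence.isometry_linearMap T (fun χ hχ => ?_)
    (fun χ hχ φ hφ => ?_), fun θ θ' hm hm' => ?_, fun θ hm hfx => ?_,
    fun χ hχ hi => absurd hi (hno χ hχ)⟩
  · obtain ⟨ψ, hψ, rfl⟩ := hcol χ hχ
    rw [hT ψ hψ]
    exact gen_intCast_smul (ecol_gen F hM hη ψ) _
  · obtain ⟨ψ, hψ, rfl⟩ := hcol χ hχ
    obtain ⟨ψ', hψ', rfl⟩ := hcol φ hφ
    rw [hT ψ hψ, hT ψ' hψ', classInner_smul_left, classInner_smul_right, map_intCast,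
      classInner_ecol F hM hη hψ.1 hψ'.1, classInner_col F hM hψ.1 hψ'.1]
    by_cases e : ψ = ψ'
    · subst e
      rw [if_pos rfl]
      rcases hM.sign ψ with h | h <;> simp [h]
    · simp [e]
  · obtain ⟨ψ, hψ, hd, e⟩ := hall θ hm
    obtain ⟨ψ', hψ', hd', e'⟩ := hall θ' hm'
    obtain ⟨hδ, hdiff⟩ := col_diff F hM hη hA hψ hψ' (hd.trans hd'.symm)
    rw [e, e', ← indFun_sub, hdiff, hT ψ hψ, hT ψ' hψ', ← hδ, smul_sub]
  · obtain ⟨ψ, hψ, hd, e⟩ := hall θ hm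
    exact ⟨ψ, hψ.1, hψ.2.1, by rw [e, hT ψ hψ, delta_eq_of_one F hM hd]⟩

include hη hA in
/-- The linear isometry used for `X θ = T (Ind_H^S θ)`. -/
theorem exists_cohData (hG : Cfsg.IsMinSimpleOddOrder G) : ∃ T ε, CohData S U W₁ W₂ η T ε := by
  by_cases h : ∃ χ ∈ memS S, Cfsg.IsIrrCharacter ↥S χ
  · obtain ⟨χ, hχ, hi⟩ := h
    exact cohData_of_irr F hM hη hA hG hχ hi
  · push Not at h
    exact cohData_of_not_irr F hM hη hA h

end Cfsg.Agent.Lib.OddOrder.PF13
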