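import Cfsg.Agent.Lib.Isometry.Coherence

/-!
# Peterfalvi (13.2): the arithmetic of rows and columns of orthonormal grids

* `grid_two` : a difference of two irreducible characters satisfying the rectangle relation is
  orthogonal to the grid.
* `grid_diff` : identification of the norm two functions `τ (μ_{ij} - μ_{ij'})`.
* `grid_column` : the two possibilities for a common correction of the column sums.
-/

set_option autoImplicit false
set_option linter.style.haveILetI false

namespace Cfsg.Agent.Lib.OddOrder.PF13.Column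

open scoped ComplexConjugate
open Cfsg.Agent.Lib.Isometry.Inner
open Cfsg.Agent.Lib.Induced.Basic (classInner_add_left classInner_add_right classInner_sub_left
  classInner_sub_right classInner_smul_left classInner_smul_right classInner_conj_symm)
open Cfsg.Agent.Lib.Characters.Basic (classInner_sum_left classInner_sum_right)

universe u v w

variable {G : Type u} [Group G] [Fintype G]

/-- Bessel's inequality for integer coefficients. -/
theorem bessel_int {ι : Type v} (s : Finset ι) (e : ι → G → ℂ) {D : G → ℂ}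
    (hD : Cfsg.IsGeneralizedCharacter G D) {n : ℤ} (hn : Cfsg.classInner D D = n) (a : ι → ℤ)
    (ha : ∀ i ∈ s, Cfsg.classInner D (e i) = a i)
    (hon : ∀ i ∈ s, ∀ j ∈ s, i ≠ j → Cfsg.classInner (e i) (e j) = 0)
    (h1 : ∀ i ∈ s, Cfsg.classInner (e i) (e i) = 1) :
    ∑ i ∈ s, a i ^ 2 ≤ n ∧
      (∑ i ∈ s, a i ^ 2 = n → D = ∑ i ∈ s, (a i : ℂ) • e i) := by
  have h := Isometry.Coherence.bessel s e (fun _ => 1) (fun i => (a i : ℝ)) D hon
    (fun i hi => by simpa using h1 i hi) (fun _ _ => one_ne_zero)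
    (fun i hi => by simpa using ha i hi)
  simp only [div_one] at h
  rw [hn] at h
  push_cast at h
  refine ⟨?_, fun he => ?_⟩
  · have h2 := classInner_self_re_nonneg (D - ∑ i ∈ s, ((a i : ℂ)) • e i)
    rw [h] at h2
    have h3 : (n : ℂ) - ∑ i ∈ s, (a i : ℂ) ^ 2 =
        (((n - ∑ i ∈ s, a i ^ 2 : ℤ) : ℝ) : ℂ) := by
      push_cast; rfl
    rw [h3, Complex.ofReal_re] at h2
    have : (0 : ℤ) ≤ n - ∑ i ∈ s, a i ^ 2 := by exact_mod_cast h2
    linarith
  · refine sub_eq_zero.1 (eq_zero_of_classInner_self ?_)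
    rw [h, ← he]
    push_cast
    ring

/-- A difference of two irreducible characters satisfying the rectangle relation. -/
theorem grid_two {ι : Type v} {κ : Type w} [Fintype ι] [Fintype κ] (hι : 3 ≤ Fintype.card ι)
    (hκ : 3 ≤ Fintype.card κ) (e : ι → κ → G → ℂ)
    (he : ∀ i j, Cfsg.IsIrrCharacter G (e i j) ∨ Cfsg.IsIrrCharacter G (-e i j))
    (hon : ∀ i j i' j', (i, j) ≠ (i', j') → Cfsg.classInner (e i j) (e i' j') = 0)
    {a b : G → ℂ} (ha : Cfsg.IsIrrCharacter G a) (hb : Cfsg.IsIrrCharacter G b) (hab : a ≠ b)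
    (hrect : ∀ i i' j j', Cfsg.classInner (a - b) (e i j) + Cfsg.classInner (a - b) (e i' j') =
      Cfsg.classInner (a - b) (e i j') + Cfsg.classInner (a - b) (e i' j)) (i : ι) (j : κ) :
    Cfsg.classInner a (e i j) = 0 ∧ Cfsg.classInner b (e i j) = 0 := by
  classical
  have uniq : ∀ x : G → ℂ, Cfsg.IsIrrCharacter G x → ∀ z z' : ι × κ,
      Cfsg.classInner x (e z.1 z.2) ≠ 0 → Cfsg.classInner x (e z'.1 z'.2) ≠ 0 → z = z' := by
    intro x hx z z' hz hz'
    by_contra hne
    obtain ⟨ε, hε, he1, -⟩ := (signed_cases (Or.inl hx) (he z.1 z.2)).resolve_left hz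
    refine hz' ?_
    rw [he1, classInner_smul_left, hon _ _ _ _ hne, mul_zero]
  let M : ι × κ → ℂ := fun z => Cfsg.classInner (a - b) (e z.1 z.2)
  have hM : ∀ z, M z ≠ 0 → Cfsg.classInner a (e z.1 z.2) ≠ 0 ∨ Cfsg.classInner b (e z.1 z.2) ≠ 0 := by
    intro z hz
    by_contra hc
    push Not at hc
    exact hz (by simp [M, classInner_sub_left, hc.1, hc.2])
  have three : ∀ z₁ z₂ z₃, z₁ ≠ z₂ → z₁ ≠ z₃ → z₂ ≠ z₃ → M z₁ ≠ 0 → M z₂ ≠ 0 → M z₃ = 0 := by
    intro z₁ z₂ z₃ h12 h13 h23 h1 h2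
    by_contra h3
    rcases hM _ h1 with x1 | x1 <;> rcases hM _ h2 with x2 | x2 <;> rcases hM _ h3 with x3 | x3
    all_goals first
      | exact h12 (uniq _ ha _ _ x1 x2)
      | exact h12 (uniq _ hb _ _ x1 x2)
      | exact h13 (uniq _ ha _ _ x1 x3)
      | exact h13 (uniq _ hb _ _ x1 x3)
      | exact h23 (uniq _ ha _ _ x2 x3)
      | exact h23 (uniq _ hb _ _ x2 x3)
  have hzero : M (i, j) = 0 := by
    by_contra h0
    obtain ⟨i', hi', i'', hi'', hii⟩ := Finset.one_lt_card.1
      (show 1 < (Finset.univ.erase i).card by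
        rw [Finset.card_erase_of_mem (Finset.mem_univ _), Finset.card_univ]; omega)
    obtain ⟨j', hj', j'', hj'', hjj⟩ := Finset.one_lt_card.1
      (show 1 < (Finset.univ.erase j).card by
        rw [Finset.card_erase_of_mem (Finset.mem_univ _), Finset.card_univ]; omega)
    simp only [Finset.mem_erase, Finset.mem_univ, and_true] at hi' hi'' hj' hj''
    have rect : ∀ i₁ j₁, i₁ ≠ i → j₁ ≠ j →
        ∃ z, M z ≠ 0 ∧ (z = (i, j₁) ∨ z = (i₁, j) ∨ z = (i₁, j₁)) := by
      intro i₁ j₁ hi₁ hj₁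
      by_contra hc
      push Not at hc
      have h1 : M (i, j₁) = 0 := by by_contra h; exact (hc _ h).1 rfl
      have h2 : M (i₁, j) = 0 := by by_contra h; exact (hc _ h).2.1 rfl
      have h3 : M (i₁, j₁) = 0 := by by_contra h; exact (hc _ h).2.2 rfl
      have h := hrect i i₁ j j₁
      change M (i, j) + M (i₁, j₁) = M (i, j₁) + M (i₁, j) at h
      rw [h1, h2, h3, add_zero, add_zero] at h
      exact h0 h
    obtain ⟨z₁, hz₁, e₁⟩ := rect i' j' hi' hj'
    obtain ⟨z₂, hz₂, e₂⟩ := rect i'' j'' hi'' hj''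
    refine hz₂ (three (i, j) z₁ z₂ ?_ ?_ ?_ h0 hz₁)
    · rcases e₁ with rfl | rfl | rfl <;> simp [Ne.symm hi', Ne.symm hj']
    · rcases e₂ with rfl | rfl | rfl <;> simp [Ne.symm hi'', Ne.symm hj'']
    · rcases e₁ with rfl | rfl | rfl <;> rcases e₂ with rfl | rfl | rfl <;>
        simp [hii, hjj, Ne.symm hi', Ne.symm hi'', Ne.symm hj', Ne.symm hj'', hi', hi'', hj', hj'']
  by_contra hc
  rw [not_and_or] at hc
  simp only [M, classInner_sub_left] at hzero
  have hboth : Cfsg.classInner a (e i j) ≠ 0 ∧ Cfsg.classInner b (e i j) ≠ 0 := by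
    rcases hc with h | h
    · exact ⟨h, fun h' => h (by rwa [h', sub_zero] at hzero)⟩
    · exact ⟨fun h' => h (by rwa [h', zero_sub, neg_eq_zero] at hzero), h⟩
  obtain ⟨ε, hε, h1, -⟩ := (signed_cases (Or.inl ha) (he i j)).resolve_left hboth.1
  obtain ⟨ε', hε', h2, -⟩ := (signed_cases (Or.inl hb) (he i j)).resolve_left hboth.2
  have h3 := classInner_irr_eq ha hb
  rw [if_neg hab, h1, h2, classInner_smul_left, classInner_smul_right,
    classInner_self_signed (he i j)] at h3
  rcases hε with rfl | rfl <;> rcases hε' with rfl | rfl <;> simp at h3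

/-- Orthogonal norm two functions whose differences are those of `δ (e i - f i)`. -/
theorem grid_diff {ι : Type v} [Fintype ι] (hι : 3 ≤ Fintype.card ι) (e f : ι → G → ℂ)
    (he : ∀ i, Cfsg.IsGeneralizedCharacter G (e i)) (hf : ∀ i, Cfsg.IsGeneralizedCharacter G (f i))
    (hee : ∀ i, Cfsg.classInner (e i) (e i) = 1) (hee0 : ∀ i j, i ≠ j → Cfsg.classInner (e i) (e j) = 0)
    (hff : ∀ i, Cfsg.classInner (f i) (f i) = 1) (hff0 : ∀ i j, i ≠ j → Cfsg.classInner (f i) (f j) = 0)
    (hef : ∀ i j, Cfsg.classInner (e i) (f j) = 0)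
    (Z : ι → G → ℂ) (hZ : ∀ i, Cfsg.IsGeneralizedCharacter G (Z i))
    (hZZ : ∀ i, Cfsg.classInner (Z i) (Z i) = 2) (δ : ℤ) (hδ : δ = 1 ∨ δ = -1)
    (hd : ∀ i j, Z i - Z j = (δ : ℂ) • ((e i - f i) - (e j - f j))) (i : ι) :
    Z i = (δ : ℂ) • (e i - f i) := by
  classical
  set D := Z i - (δ : ℂ) • (e i - f i) with hDdef
  have hT : ∀ j, Cfsg.IsGeneralizedCharacter G ((δ : ℂ) • (e j - f j)) := fun j =>
    gen_intCast_smul (gen_sub (he j) (hf j)) δ
  have hDg : Cfsg.IsGeneralizedCharacter G D := gen_sub (hZ i) (hT i)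
  have hZD : ∀ j, Z j = D + (δ : ℂ) • (e j - f j) := fun j => by
    have h := hd i j
    rw [smul_sub] at h
    rw [hDdef, ← sub_eq_zero]
    calc Z j - (Z i - (δ : ℂ) • (e i - f i) + (δ : ℂ) • (e j - f j))
        = ((δ : ℂ) • (e i - f i) - (δ : ℂ) • (e j - f j)) - (Z i - Z j) := by abel
      _ = 0 := by rw [h, sub_self]
  obtain ⟨n, hn⟩ := classInner_gen_int hDg hDg
  choose a ha using fun j => classInner_gen_int hDg (he j)
  choose b hb using fun j => classInner_gen_int hDg (hf j)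
  have hkey : ∀ j, n + 2 * δ * (a j - b j) = 0 := by
    intro j
    have h := hZZ j
    have hfe : Cfsg.classInner (f j) (e j) = 0 := by
      rw [← classInner_conj_symm (e j) (f j), hef, map_zero]
    rw [hZD j] at h
    simp only [classInner_add_left, classInner_add_right, classInner_smul_left,
      classInner_smul_right, classInner_sub_left, classInner_sub_right, hn, ha, hb, hee, hff, hef,
      hfe, classInner_gen_comm (he j) hDg, classInner_gen_comm (hf j) hDg, map_intCast] at h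
    have h' : ((n + 2 * δ * (a j - b j) + 2 * (δ * δ) - 2 : ℤ) : ℂ) = 0 := by
      push_cast
      linear_combination h
    have h'' : n + 2 * δ * (a j - b j) + 2 * (δ * δ) - 2 = 0 := by exact_mod_cast h'
    rcases hδ with rfl | rfl <;> linarith
  have hbes := (bessel_int (Finset.univ : Finset (ι ⊕ ι)) (Sum.elim e f) hDg hn (Sum.elim a b)
    (fun z _ => by rcases z with z | z <;> simp [ha, hb])
    (fun z _ z' _ hne => by
      rcases z with z | z <;> rcases z' with z' | z'
      · exact hee0 _ _ fun h => hne (congrArg Sum.inl h)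
      · exact hef _ _
      · show Cfsg.classInner (f z) (e z') = 0
        rw [← classInner_conj_symm (e z') (f z), hef, map_zero]
      · exact hff0 _ _ fun h => hne (congrArg Sum.inr h))
    (fun z _ => by rcases z with z | z <;> simp [hee, hff])).1
  rw [Fintype.sum_sum_type] at hbes
  simp only [Sum.elim_inl, Sum.elim_inr] at hbes
  have hc : (3 : ℤ) ≤ Fintype.card ι := by exact_mod_cast hι
  have hn0 : n = 0 := by
    have h4 : ∀ j, n ^ 2 = 4 * (a j - b j) ^ 2 := fun j => by
      have h := hkey j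
      rcases hδ with rfl | rfl
      · rw [show n = -2 * (a j - b j) by linarith]; ring
      · rw [show n = 2 * (a j - b j) by linarith]; ring
    have hlow : ∀ j, n ≠ 0 → 1 ≤ a j ^ 2 + b j ^ 2 := by
      intro j hne
      rcases eq_or_ne (a j) (b j) with h | h
      · exact absurd (pow_eq_zero_iff (n := 2) two_ne_zero |>.1 (by rw [h4 j, h]; ring)) hne
      · by_contra hlt
        push Not at hlt
        have ha0 : a j = 0 := by nlinarith [sq_nonneg (a j), sq_nonneg (b j)]
        have hb0 : b j = 0 := by nlinarith [sq_nonneg (a j), sq_nonneg (b j)]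
        exact h (ha0.trans hb0.symm)
    by_contra hne
    have hsum : (Fintype.card ι : ℤ) * n ^ 2 ≤ 8 * n := by
      calc (Fintype.card ι : ℤ) * n ^ 2 = ∑ j : ι, 4 * (a j - b j) ^ 2 := by
            rw [← Finset.sum_congr rfl (fun j _ => h4 j), Finset.sum_const, Finset.card_univ,
              nsmul_eq_mul]
        _ ≤ ∑ j : ι, 8 * (a j ^ 2 + b j ^ 2) := Finset.sum_le_sum fun j _ => by
            nlinarith [sq_nonneg (a j + b j)]
        _ ≤ 8 * n := by rw [← Finset.mul_sum, Finset.sum_add_distrib]; linarith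
    have hcount : (Fintype.card ι : ℤ) ≤ n := by
      calc (Fintype.card ι : ℤ) = ∑ _j : ι, (1 : ℤ) := by simp
        _ ≤ ∑ j : ι, (a j ^ 2 + b j ^ 2) := Finset.sum_le_sum fun j _ => hlow j hne
        _ ≤ n := by rw [Finset.sum_add_distrib]; exact hbes
    nlinarith
  exact sub_eq_zero.1 (eq_zero_of_classInner_self (by rw [← hDdef, hn, hn0, Int.cast_zero]))

/-- The common correction `D` of the column sums `δ ∑ᵢ e i j`, `j ∈ Ψ`. -/
theorem grid_column {ι : Type v} {κ : Type w} [Fintype ι] [Nonempty ι] (e : ι → κ → G → ℂ)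
    (he : ∀ i j, Cfsg.IsGeneralizedCharacter G (e i j))
    (h1 : ∀ i j, Cfsg.classInner (e i j) (e i j) = 1)
    (hon : ∀ i j i' j', (i, j) ≠ (i', j') → Cfsg.classInner (e i j) (e i' j') = 0)
    {D : G → ℂ} (hD : Cfsg.IsGeneralizedCharacter G D)
    (hrect : ∀ i i' j j', Cfsg.classInner D (e i j) + Cfsg.classInner D (e i' j') =
      Cfsg.classInner D (e i j') + Cfsg.classInner D (e i' j))
    (Ψ : Finset κ) {j₀ j₁ j₂ : κ} (hj₀ : j₀ ∉ Ψ) (hj₁ : j₁ ∈ Ψ) (hj₂ : j₂ ∈ Ψ) (hne : j₁ ≠ j₂)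
    (δ : ℤ) (hδ : δ = 1 ∨ δ = -1)
    (hcol : ∀ j ∈ Ψ, 2 * Cfsg.classInner D ((δ : ℂ) • ∑ i, e i j) = -Cfsg.classInner D D) :
    D = 0 ∨ ((∀ j ∈ Ψ, j = j₁ ∨ j = j₂) ∧
      D = -((δ : ℂ) • ∑ i, e i j₁) - (δ : ℂ) • ∑ i, e i j₂) := by
  classical
  obtain ⟨n, hn⟩ := classInner_gen_int hD hD
  choose a ha using fun i j => classInner_gen_int hD (he i j)
  have hr : ∀ i i' j j', a i j + a i' j' = a i j' + a i' j := fun i i' j j' => by
    have h := hrect i i' j j'
    rw [ha, ha, ha, ha] at h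
    exact_mod_cast h
  have hcol' : ∀ j ∈ Ψ, 2 * δ * ∑ i, a i j = -n := fun j hj => by
    have h := hcol j hj
    rw [classInner_smul_right, classInner_sum_right, hn, map_intCast] at h
    simp only [ha] at h
    have h' : ((2 * δ * ∑ i, a i j : ℤ) : ℂ) = ((-n : ℤ) : ℂ) := by
      push_cast
      linear_combination h
    exact_mod_cast h'
  have hconst : ∀ j ∈ Ψ, ∀ i, a i j = a i j₁ := by
    intro j hj i
    have h : ∀ i', a i' j - a i' j₁ = a i j - a i j₁ := fun i' => by linarith [hr i i' j j₁]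
    have h2 : ∑ i', (a i' j - a i' j₁) = Fintype.card ι * (a i j - a i j₁) := by
      rw [Finset.sum_congr rfl (fun i' _ => h i'), Finset.sum_const, Finset.card_univ, nsmul_eq_mul]
    rw [Finset.sum_sub_distrib] at h2
    have h3 : ∑ i', a i' j = ∑ i', a i' j₁ := by
      have := (hcol' j hj).trans (hcol' j₁ hj₁).symm
      rcases hδ with rfl | rfl <;> linarith
    rw [h3, sub_self] at h2
    rcases mul_eq_zero.1 h2.symm with h4 | h4
    · exact absurd (by exact_mod_cast h4 : Fintype.card ι = 0) Fintype.card_ne_zero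
    · linarith
  set x : ι → ℤ := fun i => a i j₁ with hxdef
  have hb := bessel_int ((Finset.univ : Finset ι) ×ˢ insert j₀ Ψ) (fun z => e z.1 z.2) hD hn
    (fun z => a z.1 z.2) (fun z _ => ha _ _) (fun z _ z' _ h => hon _ _ _ _ h) (fun z _ => h1 _ _)
  have hsum : ∑ z ∈ (Finset.univ : Finset ι) ×ˢ insert j₀ Ψ, a z.1 z.2 ^ 2 =
      ∑ i, a i j₀ ^ 2 + (Ψ.card : ℤ) * ∑ i, x i ^ 2 := by
    rw [Finset.sum_product, Finset.mul_sum, ← Finset.sum_add_distrib]
    refine Finset.sum_congr rfl fun i _ => ?_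
    rw [Finset.sum_insert hj₀, Finset.sum_congr rfl fun j hj => by rw [hconst j hj i],
      Finset.sum_const, nsmul_eq_mul]
  rw [hsum] at hb
  have hn2 : n = -(2 * δ * ∑ i, x i) := by linarith [hcol' j₁ hj₁]
  by_cases hn0 : n = 0
  · exact Or.inl (eq_zero_of_classInner_self (by rw [hn, hn0, Int.cast_zero]))
  right
  have hpos : 0 ≤ ∑ i, a i j₀ ^ 2 := Finset.sum_nonneg fun i _ => sq_nonneg _
  have hxpos : 0 ≤ ∑ i, x i ^ 2 := Finset.sum_nonneg fun i _ => sq_nonneg _
  have hle : n ≤ 2 * ∑ i, x i ^ 2 := by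
    have := Isometry.Coherence.sum_sq_ge_abs (Finset.univ : Finset ι) x
    rw [hn2]
    rcases hδ with rfl | rfl <;>
      linarith [le_abs_self (∑ i, x i), neg_abs_le (∑ i, x i)]
  have htwo : 2 ≤ (Ψ.card : ℤ) := by
    exact_mod_cast Finset.one_lt_card.2 ⟨j₁, hj₁, j₂, hj₂, hne⟩
  have hx0 : 0 < ∑ i, x i ^ 2 := by
    rcases hxpos.eq_or_lt with h | h
    · exfalso
      have : n ≤ 0 := by linarith
      have h5 : 0 ≤ n := le_trans (add_nonneg hpos (mul_nonneg (Int.natCast_nonneg _) hxpos)) hb.1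
      exact hn0 (by linarith)
    · exact h
  have hcard : (Ψ.card : ℤ) = 2 := by
    have : (Ψ.card : ℤ) * ∑ i, x i ^ 2 ≤ 2 * ∑ i, x i ^ 2 := by linarith [hb.1]
    exact le_antisymm (le_of_mul_le_mul_right this hx0) htwo
  have hall : ∀ j ∈ Ψ, j = j₁ ∨ j = j₂ := by
    intro j hj
    by_contra hc
    push Not at hc
    have h3 : ({j, j₁, j₂} : Finset κ) ⊆ Ψ := by
      intro y hy
      simp only [Finset.mem_insert, Finset.mem_singleton] at hy
      rcases hy with rfl | rfl | rfl <;> assumption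
    have h4 := Finset.card_le_card h3
    rw [Finset.card_insert_of_notMem (by simp [hc.1, hc.2]), Finset.card_pair hne] at h4
    have : Ψ.card = 2 := by exact_mod_cast hcard
    omega
  refine ⟨hall, ?_⟩
  rw [hcard] at hb
  have hzero : ∀ i, a i j₀ = 0 := fun i => by
    have h : ∑ i, a i j₀ ^ 2 = 0 := le_antisymm (by linarith [hb.1]) hpos
    simpa using (Finset.sum_eq_zero_iff_of_nonneg fun i _ => sq_nonneg _).1 h i (Finset.mem_univ i)
  obtain ⟨i₀⟩ := ‹Nonempty ι›
  have hxc : ∀ i, x i = x i₀ := fun i => by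
    have h := hr i i₀ j₁ j₀
    rw [hzero i, hzero i₀] at h
    simp only [hxdef]
    linarith
  have hq : (0 : ℤ) < Fintype.card ι := by exact_mod_cast Fintype.card_pos
  have hs1 : ∑ i, x i = Fintype.card ι * x i₀ := by
    rw [Finset.sum_congr rfl (fun i _ => hxc i), Finset.sum_const, Finset.card_univ, nsmul_eq_mul]
  have hs2 : ∑ i, x i ^ 2 = Fintype.card ι * x i₀ ^ 2 := by
    rw [Finset.sum_congr rfl (fun i _ => by rw [hxc i]), Finset.sum_const, Finset.card_univ,
      nsmul_eq_mul]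
  have heqn : n = 2 * ∑ i, x i ^ 2 := le_antisymm hle (by linarith [hb.1])
  have hx : x i₀ = -δ := by
    have h : (Fintype.card ι : ℤ) * (x i₀ * (x i₀ + δ)) = 0 := by
      rw [hn2, hs1, hs2] at heqn
      linarith
    rcases mul_eq_zero.1 h with h | h
    · omega
    rcases mul_eq_zero.1 h with h | h
    · exfalso; rw [hs2, h] at hx0; simp at hx0
    · linarith
  have hcard2 : insert j₀ Ψ = {j₀, j₁, j₂} := by
    ext y
    simp only [Finset.mem_insert, Finset.mem_singleton]
    constructor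
    · rintro (h | h)
      · exact Or.inl h
      · exact Or.inr (hall y h)
    · rintro (h | rfl | rfl)
      · exact Or.inl h
      · exact Or.inr hj₁
      · exact Or.inr hj₂
  rw [hb.2 (le_antisymm hb.1 (by linarith)), Finset.sum_product, hcard2]
  have hj01 : j₀ ∉ ({j₁, j₂} : Finset κ) := by
    simp only [Finset.mem_insert, Finset.mem_singleton]
    rintro (rfl | rfl)
    · exact hj₀ hj₁
    · exact hj₀ hj₂
  simp only [Finset.sum_insert hj01, Finset.sum_pair hne, hzero, hconst _ hj₂]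
  have hxa : ∀ i, a i j₁ = -δ := fun i => (hxc i).trans hx
  simp only [hxa, Int.cast_zero, Int.cast_neg, zero_smul, zero_add, neg_smul,
    Finset.sum_add_distrib, Finset.sum_neg_distrib, ← Finset.smul_sum]
  abel

end Cfsg.Agent.Lib.OddOrder.PF13.Column
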