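import Cfsg.Agent.Lib.OddOrder.PF13.Group
import Cfsg.Agent.Lib.OddOrder.Interface.PF13
import Cfsg.Agent.Lib.Characters.Linear
import Cfsg.Agent.S1387
import Mathlib.RingTheory.RootsOfUnity.Complex

/-!
# Peterfalvi (13.2): `H = P C`, the bound on `u`, and a free linear character
-/

set_option autoImplicit false

open scoped commutatorElement

namespace Cfsg.Agent.Lib.OddOrder.PF13

open Cfsg.Agent.Lib.OddOrder.Basic

universe u

/-- Linear characters killing a subgroup of a commutative group are counted by its index. -/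
theorem card_hom_killing {K : Type u} [Group K] [Finite K] (hc : ∀ x y : K, x * y = y * x)
    (N : Subgroup K) : Nat.card {θ : K →* ℂˣ // N ≤ θ.ker} = N.index := by
  letI : CommGroup K := { (inferInstance : Group K) with mul_comm := hc }
  rw [Subgroup.index_eq_card, ← CommGroup.card_monoidHom_of_hasEnoughRootsOfUnity (K ⧸ N) ℂ]
  refine Nat.card_congr
    { toFun := fun θ => QuotientGroup.lift N θ.1 θ.2
      invFun := fun θ => ⟨θ.comp (QuotientGroup.mk' N), fun x hx => by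
        rw [MonoidHom.mem_ker, MonoidHom.comp_apply, QuotientGroup.mk'_apply,
          (QuotientGroup.eq_one_iff x).2 hx, map_one]⟩
      left_inv := fun θ => Subtype.ext (MonoidHom.ext fun x => rfl)
      right_inv := fun θ => MonoidHom.ext fun x => QuotientGroup.induction_on x fun y => rfl }

variable {G : Type u} [Group G] [Finite G]

namespace Facts

variable {S W₁ U W₂ : Subgroup G} (F : Facts S W₁ U W₂)
include F

/-- `C = C_U(P)`. -/
local notation "CC" => U ⊓ Subgroup.centralizer (Cfsg.fittingHallOf S : Set G)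

theorem C_comm_P {c x : G} (hc : c ∈ CC) (hx : x ∈ Cfsg.fittingHallOf S) : x * c = c * x :=
  Subgroup.mem_centralizer_iff.1 (Subgroup.mem_inf.1 hc).2 x hx

theorem H_eq : Cfsg.fittingOf S = Cfsg.fittingHallOf S ⊔ CC :=
  Cfsg.Agent.S1387.result S W₁ U W₂ F.typeP

theorem H_comm : ∀ x ∈ Cfsg.fittingHallOf S ⊔ CC, ∀ y ∈ Cfsg.fittingHallOf S ⊔ CC,
    x * y = y * x := by
  have h : Cfsg.fittingHallOf S ⊔ CC ≤
      Subgroup.centralizer ((Cfsg.fittingHallOf S ⊔ CC : Subgroup G) : Set G) := by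
    rw [Subgroup.le_centralizer_iff]
    refine sup_le ?_ ?_ <;> rw [Subgroup.le_centralizer_iff]
    · exact sup_le (fun x hx => Subgroup.mem_centralizer_iff.2 fun y hy => F.P_comm y hy x hx)
        fun c hc => Subgroup.mem_centralizer_iff.2 fun y hy => F.C_comm_P hc hy
    · exact sup_le (fun x hx => Subgroup.mem_centralizer_iff.2 fun c hc =>
          (F.C_comm_P hc hx).symm)
        fun c hc => Subgroup.mem_centralizer_iff.2 fun d hd =>
          F.U_comm d (Subgroup.mem_inf.1 hd).1 c (Subgroup.mem_inf.1 hc).1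
  intro x hx y hy
  exact (Subgroup.mem_centralizer_iff.1 (h hx) y hy).symm

theorem H_le : Cfsg.fittingHallOf S ⊔ CC ≤ S := sup_le F.P_le (inf_le_left.trans F.U_le)

theorem H_normal : S ≤ Subgroup.normalizer ((Cfsg.fittingHallOf S ⊔ CC : Subgroup G) : Set G) := by
  rw [← F.H_eq]
  exact fittingOf_normal S

theorem compl_H : Cfsg.IsComplIn (Cfsg.fittingHallOf S) CC (Cfsg.fittingHallOf S ⊔ CC) := by
  refine ⟨le_sup_left, le_sup_right,
    eq_bot_iff.2 ((inf_le_inf_left _ inf_le_left).trans F.typeP.U_compl.2.2.1.le), fun m hm => ?_⟩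
  have hm' : m ∈ (↑(Cfsg.fittingHallOf S ⊔ CC) : Set G) := hm
  rw [Subgroup.coe_mul_of_right_le_normalizer_left _ _
    (inf_le_left.trans (F.U_le.trans (fittingHallOf_normal S)))] at hm'
  obtain ⟨x, hx, c, hc, rfl⟩ := hm'
  exact ⟨x, hx, c, hc, rfl⟩

theorem normalizer_F : Subgroup.normalizer (Cfsg.fittingOf S : Set G) = S := by
  rcases F.maxS.le_iff.1 (fittingOf_normal S) with h | h
  · exfalso
    haveI := F.simple
    rcases (Subgroup.normalizer_eq_top_iff.1 h).eq_bot_or_eq_top with h' | h'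
    · refine F.typeP.H_not_cyclic ?_
      have : Cfsg.fittingHallOf S = ⊥ := eq_bot_iff.2 (h' ▸ fittingHallOf_le_fittingOf S)
      rw [this]
      infer_instance
    · exact F.maxS.1 (eq_top_iff.2 (h' ▸ Subgroup.map_subtype_le _))
  · exact h

theorem ti : ∀ g : G, ∀ x ∈ Cfsg.fittingHallOf S ⊔ CC, x ≠ 1 →
    g * x * g⁻¹ ∈ Cfsg.fittingHallOf S ⊔ CC → g ∈ S := by
  intro g x hx hx1 hg
  by_contra h
  rw [← F.H_eq] at hx hg
  exact hx1 (F.ti_F g (by rwa [F.normalizer_F]) x hx hg)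

/-- The orbit of `W₂` under `U` bounds `u`. -/
theorem u_le : Nat.card U * (Nat.card W₂ - 1) ≤
    (Nat.card W₂ ^ Nat.card W₁ - 1) * Nat.card ↥CC := by
  classical
  let Y := {y : W₂ // y ≠ 1}
  let Q := {x : Cfsg.fittingHallOf S // x ≠ 1}
  have hY : Nat.card Y = Nat.card W₂ - 1 := by
    have := Nat.card_congr (_root_.Equiv.sumCompl (fun y : W₂ => y = 1))
    have h1 : Nat.card {y : W₂ // y = 1} = 1 := by simp
    rw [Nat.card_sum, h1] at this
    change Nat.card {y : W₂ // ¬ y = 1} = _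
    omega
  have hQ : Nat.card Q = Nat.card W₂ ^ Nat.card W₁ - 1 := by
    have := Nat.card_congr (_root_.Equiv.sumCompl (fun y : Cfsg.fittingHallOf S => y = 1))
    have h1 : Nat.card {y : Cfsg.fittingHallOf S // y = 1} = 1 := by simp
    rw [Nat.card_sum, h1, F.P_card] at this
    change Nat.card {y : Cfsg.fittingHallOf S // ¬ y = 1} = _
    omega
  let C' : Subgroup U := (CC).subgroupOf U
  have hC' : Nat.card C' = Nat.card ↥CC :=
    Nat.card_congr (Subgroup.subgroupOfEquivOfLe inf_le_left).toEquiv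
  have key : ∀ (b : U) (y z : W₂), y ≠ 1 → (b : G) * y * (b : G)⁻¹ = z → b ∈ C' ∧ y = z := by
    intro b y z hy1 hb
    obtain ⟨w, hw, hw1⟩ := F.exists_W₁
    have hk : (b : G)⁻¹ * (w * b * w⁻¹) ∈ U ⊓ Subgroup.centralizer ({(y : G)} : Set G) := by
      refine Subgroup.mem_inf.2 ⟨mul_mem (inv_mem b.2) (F.conj_U hw b.2),
        Subgroup.mem_centralizer_singleton_iff.2 ?_⟩
      rw [← mul_inv_eq_iff_eq_mul]
      calc (b : G)⁻¹ * (w * b * w⁻¹) * y * ((b : G)⁻¹ * (w * b * w⁻¹))⁻¹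
          = (b : G)⁻¹ * (w * ((b : G) * (w⁻¹ * y * w) * (b : G)⁻¹) * w⁻¹) * b := by group
        _ = (b : G)⁻¹ * (w * ((b : G) * y * (b : G)⁻¹) * w⁻¹) * b := by
          rw [mul_assoc w⁻¹ (y : G) w, ← F.W₂_comm hw y.2, inv_mul_cancel_left]
        _ = (b : G)⁻¹ * z * b := by rw [hb, F.W₂_comm hw z.2, mul_inv_cancel_right]
        _ = y := by rw [← hb]; group
    have hcentY : U ⊓ Subgroup.centralizer ({(y : G)} : Set G) ≤
        Subgroup.centralizer (Cfsg.fittingHallOf S : Set G) := by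
      refine F.le_centralizer_of_subset inf_le_left ?_ (F.W₂_le_P y.2)
        (fun h => hy1 (Subtype.ext h)) fun a ha =>
          Subgroup.mem_centralizer_singleton_iff.1 (Subgroup.mem_inf.1 ha).2
      intro v hv a ha
      refine Subgroup.mem_inf.2 ⟨F.conj_U hv (Subgroup.mem_inf.1 ha).1,
        Subgroup.mem_centralizer_singleton_iff.2 ?_⟩
      have h := Subgroup.mem_centralizer_singleton_iff.1 (Subgroup.mem_inf.1 ha).2
      calc v * a * v⁻¹ * (y : G) = v * a * (v⁻¹ * y) := by group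
        _ = v * (a * y) * v⁻¹ := by rw [F.W₂_comm (inv_mem hv) y.2]; group
        _ = v * (y * a) * v⁻¹ := by rw [h]
        _ = (y : G) * v * a * v⁻¹ := by rw [← F.W₂_comm hv y.2]; group
        _ = _ := by group
    have hC : ∀ x ∈ Cfsg.fittingHallOf S,
        x * ((b : G)⁻¹ * (w * b * w⁻¹)) = (b : G)⁻¹ * (w * b * w⁻¹) * x :=
      fun x hx => Subgroup.mem_centralizer_iff.1 (hcentY hk) x hx
    -- `w ↦ b⁻¹ (w b w⁻¹)` lands in `C`, on which `c ↦ c (w c w⁻¹)⁻¹` is onto
    have hbC : b ∈ C' := by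
      have hCW : ∀ c : ↥CC, (c : G) * (w * c * w⁻¹)⁻¹ ∈ CC := by
        intro c
        refine mul_mem c.2 (inv_mem (Subgroup.mem_inf.2
          ⟨F.conj_U hw (Subgroup.mem_inf.1 c.2).1, Subgroup.mem_centralizer_iff.2 fun x hx => ?_⟩))
        have h := F.C_comm_P c.2 (F.conj_P (inv_mem (F.W₁_le hw)) hx)
        calc x * (w * c * w⁻¹) = w * ((w⁻¹ * x * w⁻¹⁻¹) * c) * w⁻¹ := by group
          _ = w * ((c : G) * (w⁻¹ * x * w⁻¹⁻¹)) * w⁻¹ := by rw [h]
          _ = _ := by group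
      have hinj : Function.Injective (fun c : ↥CC => (⟨_, hCW c⟩ : ↥CC)) := by
        intro c d h
        have h' : (c : G) * (w * c * w⁻¹)⁻¹ = (d : G) * (w * d * w⁻¹)⁻¹ := congrArg Subtype.val h
        have hcU := (Subgroup.mem_inf.1 c.2).1
        have hdU := (Subgroup.mem_inf.1 d.2).1
        have h1 : w * ((d : G)⁻¹ * c) = (d : G)⁻¹ * c * w := by
          rw [← mul_inv_eq_iff_eq_mul]
          calc w * ((d : G)⁻¹ * c) * w⁻¹ = (w * d * w⁻¹)⁻¹ * (w * c * w⁻¹) := by group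
            _ = (d : G)⁻¹ * ((d : G) * (w * d * w⁻¹)⁻¹) * (w * c * w⁻¹) := by group
            _ = (d : G)⁻¹ * c := by rw [← h']; group
        exact Subtype.ext (inv_mul_eq_one.1 (F.fpf hw hw1 (mul_mem (inv_mem hdU) hcU) h1)).symm
      obtain ⟨c, hc⟩ := (Finite.injective_iff_surjective.1 hinj) ⟨(b : G)⁻¹ * (w * b * w⁻¹),
        Subgroup.mem_inf.2 ⟨(Subgroup.mem_inf.1 hk).1, hcentY hk⟩⟩
      have hc' : (c : G) * (w * c * w⁻¹)⁻¹ = (b : G)⁻¹ * (w * b * w⁻¹) := congrArg Subtype.val hc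
      have h1 : w * ((b : G) * c) = (b : G) * c * w := by
        rw [← mul_inv_eq_iff_eq_mul]
        calc w * ((b : G) * c) * w⁻¹ = (b : G) * ((b : G)⁻¹ * (w * b * w⁻¹)) * (w * c * w⁻¹) := by
              group
          _ = (b : G) * c := by rw [← hc']; group
      have h2 := F.fpf hw hw1 (mul_mem b.2 (Subgroup.mem_inf.1 c.2).1) h1
      refine Subgroup.mem_subgroupOf.2 ?_
      rw [eq_inv_of_mul_eq_one_left h2]
      exact inv_mem c.2
    refine ⟨hbC, Subtype.ext ?_⟩
    rw [← hb, ← F.C_comm_P (Subgroup.mem_subgroupOf.1 hbC) (F.W₂_le_P y.2), mul_inv_cancel_right]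
  have hinj : Function.Injective (fun p : (U ⧸ C') × Y =>
      (⟨⟨((p.1.out : U) : G) * (p.2.1 : G) * ((p.1.out : U) : G)⁻¹,
          F.conj_P (F.U_le p.1.out.2) (F.W₂_le_P p.2.1.2)⟩, by
        intro h
        have h' : ((p.1.out : U) : G) * (p.2.1 : G) * ((p.1.out : U) : G)⁻¹ = 1 :=
          congrArg Subtype.val h
        rw [conj_eq_one_iff] at h'
        exact p.2.2 (Subtype.ext h')⟩ : Q)) := by
    rintro ⟨b, y⟩ ⟨b', y'⟩ h
    have h' : ((b.out : U) : G) * (y.1 : G) * ((b.out : U) : G)⁻¹ =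
        ((b'.out : U) : G) * (y'.1 : G) * ((b'.out : U) : G)⁻¹ :=
      congrArg (fun z : Q => (z.1 : G)) h
    obtain ⟨hb, hy⟩ := key (b'.out⁻¹ * b.out) y.1 y'.1 y.2 (by
      calc ((b'.out⁻¹ * b.out : U) : G) * (y.1 : G) * ((b'.out⁻¹ * b.out : U) : G)⁻¹
          = ((b'.out : U) : G)⁻¹ * (((b.out : U) : G) * (y.1 : G) * ((b.out : U) : G)⁻¹) *
              ((b'.out : U) : G) := by
            simp only [Subgroup.coe_mul, Subgroup.coe_inv]; group
        _ = _ := by rw [h']; group)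
    refine Prod.ext ?_ (Subtype.ext hy)
    rw [← QuotientGroup.out_eq' b, ← QuotientGroup.out_eq' b']
    exact (QuotientGroup.eq.2 hb).symm
  have hle := Nat.card_le_card_of_injective _ hinj
  rw [Nat.card_prod, hY, hQ] at hle
  calc Nat.card U * (Nat.card W₂ - 1)
      = Nat.card C' * (Nat.card (U ⧸ C') * (Nat.card W₂ - 1)) := by
        rw [← Subgroup.card_mul_index C', Subgroup.index_eq_card, mul_assoc]
    _ ≤ Nat.card C' * (Nat.card W₂ ^ Nat.card W₁ - 1) := Nat.mul_le_mul_left _ hle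
    _ = _ := by rw [hC', mul_comm]

end Facts

end Cfsg.Agent.Lib.OddOrder.PF13
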