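import Cfsg.Agent.Lib.OddOrder.PF13.Free

/-!
# Peterfalvi (13.2)(e): a linear character of `H = P C` with stabiliser `H` in `S`
-/

set_option autoImplicit false

open scoped commutatorElement

namespace Cfsg.Agent.Lib.OddOrder.PF13

open Cfsg.Agent.Lib.OddOrder.Basic

universe u

variable {G : Type u} [Group G] [Finite G]

/-- A character of order `p` is injective on a cyclic group of order `p`. -/
theorem hom_injective_on {K : Type u} [Group K] {p : ℕ} (hp : p.Prime) (θ : K →* ℂˣ) {z : K}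
    (hz : z ^ p = 1) (hθ : θ z ≠ 1) {m : ℤ} (h : θ (z ^ m) = 1) : z ^ m = 1 := by
  haveI : Fact p.Prime := ⟨hp⟩
  have hz1 : z ≠ 1 := fun e => hθ (by rw [e, map_one])
  have h1 : orderOf z = p := orderOf_eq_prime hz hz1
  have h2 : orderOf (θ z) = p := orderOf_eq_prime (by rw [← map_pow, hz, map_one]) hθ
  rw [map_zpow, ← orderOf_dvd_iff_zpow_eq_one, h2] at h
  rw [← orderOf_dvd_iff_zpow_eq_one, h1]
  exact h

namespace Facts

variable {S W₁ U W₂ : Subgroup G} (F : Facts S W₁ U W₂)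
include F

/-- `C = C_U(P)`. -/
local notation "CC" => U ⊓ Subgroup.centralizer (Cfsg.fittingHallOf S : Set G)
/-- `H = P C`. -/
local notation "HH" => Cfsg.fittingHallOf S ⊔ (U ⊓ Subgroup.centralizer (Cfsg.fittingHallOf S : Set G))

theorem conj_H {s : G} (hs : s ∈ S) {x : G} (hx : x ∈ HH) : s * x * s⁻¹ ∈ HH :=
  (Subgroup.mem_normalizer_iff.1 (F.H_normal hs) x).1 hx

theorem index_C : ((CC).subgroupOf (HH)).index = Nat.card W₂ ^ Nat.card W₁ := by
  have h := Subgroup.card_mul_index ((CC).subgroupOf (HH))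
  rw [Nat.card_congr (Subgroup.subgroupOfEquivOfLe le_sup_right).toEquiv,
    ← isComplIn_card F.compl_H, F.P_card, mul_comm (Nat.card W₂ ^ Nat.card W₁)] at h
  exact Nat.eq_of_mul_eq_mul_left Nat.card_pos h

theorem card_killing_C :
    Nat.card {θ : ↥(HH) →* ℂˣ // (CC).subgroupOf (HH) ≤ θ.ker} = Nat.card W₂ ^ Nat.card W₁ := by
  rw [card_hom_killing (fun x y => Subtype.ext (F.H_comm x x.2 y y.2)), F.index_C]

/-- Characters killing `C` and fixed by `s` are no more than the fixed points of `s` on `P`. -/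
theorem card_fixed_le {s : G} (hs : s ∈ S) :
    Nat.card {θ : ↥(HH) →* ℂˣ // (CC).subgroupOf (HH) ≤ θ.ker ∧ ConjTo s θ θ} ≤
      Nat.card ↥(Cfsg.fittingHallOf S ⊓ Subgroup.centralizer ({s} : Set G)) := by
  classical
  let f : ↥(Cfsg.fittingHallOf S) →* ↥(HH) :=
    { toFun := fun x => ⟨s * x * s⁻¹ * (x : G)⁻¹,
        mul_mem (Subgroup.mem_sup_left (F.conj_P hs x.2)) (inv_mem (Subgroup.mem_sup_left x.2))⟩
      map_one' := Subtype.ext (by simp)
      map_mul' := fun x y => Subtype.ext (by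
        simp only [Subgroup.coe_mul]
        have hc := F.P_comm _ (inv_mem x.2) _ (mul_mem (F.conj_P hs y.2) (inv_mem y.2))
        calc s * (x * y) * s⁻¹ * ((x : G) * y)⁻¹
            = s * x * s⁻¹ * ((s * y * s⁻¹ * (y : G)⁻¹) * (x : G)⁻¹) := by group
          _ = s * x * s⁻¹ * ((x : G)⁻¹ * (s * y * s⁻¹ * (y : G)⁻¹)) := by rw [hc]
          _ = _ := by group) }
  let N : Subgroup ↥(HH) := (CC).subgroupOf (HH) ⊔ f.range
  have hsub : Nat.card {θ : ↥(HH) →* ℂˣ // (CC).subgroupOf (HH) ≤ θ.ker ∧ ConjTo s θ θ} ≤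
      Nat.card {θ : ↥(HH) →* ℂˣ // N ≤ θ.ker} := by
    haveI : Finite {θ : ↥(HH) →* ℂˣ // N ≤ θ.ker} := Nat.finite_of_card_ne_zero (by
      rw [card_hom_killing (fun x y => Subtype.ext (F.H_comm x x.2 y y.2))]
      exact Subgroup.index_ne_zero_of_finite)
    refine Nat.card_le_card_of_injective (fun θ => ⟨θ.1, sup_le θ.2.1 ?_⟩)
      (fun a b h => Subtype.ext (congrArg (fun z : {θ : ↥(HH) →* ℂˣ // N ≤ θ.ker} => z.1) h))
    rintro _ ⟨x, rfl⟩
    have hx : (x : G) ∈ HH := Subgroup.mem_sup_left x.2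
    have h := θ.2.2 ⟨x, hx⟩ ⟨s * x * s⁻¹, F.conj_H hs hx⟩ rfl
    have e : f x = ⟨s * x * s⁻¹, F.conj_H hs hx⟩ * (⟨x, hx⟩ : ↥(HH))⁻¹ := Subtype.ext rfl
    rw [MonoidHom.mem_ker, e, map_mul, map_inv, h, mul_inv_cancel]
  refine hsub.trans ?_
  rw [card_hom_killing (fun x y => Subtype.ext (F.H_comm x x.2 y y.2))]
  have hN : Nat.card ↥CC * Nat.card f.range ≤ Nat.card N := by
    rw [← Nat.card_prod]
    refine Nat.card_le_card_of_injective
      (fun p : ↥CC × f.range => (⟨⟨(p.1 : G), Subgroup.mem_sup_right p.1.2⟩ * p.2.1,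
        mul_mem (Subgroup.mem_sup_left (Subgroup.mem_subgroupOf.2 p.1.2))
          (Subgroup.mem_sup_right p.2.2)⟩ : N)) ?_
    rintro ⟨c, ⟨y, x, rfl⟩⟩ ⟨c', ⟨y', x', rfl⟩⟩ h
    have h' : (c : G) * (f x : G) = (c' : G) * (f x' : G) :=
      congrArg (fun z : N => ((z : ↥(HH)) : G)) h
    have hm : (c' : G)⁻¹ * c ∈ Cfsg.fittingHallOf S ⊓ CC := by
      refine Subgroup.mem_inf.2 ⟨?_, mul_mem (inv_mem c'.2) c.2⟩
      have e : (c' : G)⁻¹ * c = (f x' : G) * (f x : G)⁻¹ := by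
        rw [eq_mul_inv_iff_mul_eq, mul_assoc, h', inv_mul_cancel_left]
      rw [e]
      exact mul_mem (mul_mem (F.conj_P hs x'.2) (inv_mem x'.2))
        (inv_mem (mul_mem (F.conj_P hs x.2) (inv_mem x.2)))
    rw [F.compl_H.2.2.1, Subgroup.mem_bot, inv_mul_eq_one] at hm
    rw [← hm] at h'
    exact Prod.ext (Subtype.ext hm.symm) (Subtype.ext (Subtype.ext (mul_left_cancel h')))
  have hker : Nat.card f.ker =
      Nat.card ↥(Cfsg.fittingHallOf S ⊓ Subgroup.centralizer ({s} : Set G)) := by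
    refine Nat.card_congr
      { toFun := fun x => ⟨(x.1 : G), Subgroup.mem_inf.2 ⟨x.1.2, ?_⟩⟩
        invFun := fun x => ⟨⟨(x : G), (Subgroup.mem_inf.1 x.2).1⟩, ?_⟩
        left_inv := fun x => rfl
        right_inv := fun x => rfl }
    · rw [Subgroup.mem_centralizer_singleton_iff]
      have h : s * (x.1 : G) * s⁻¹ * (x.1 : G)⁻¹ = 1 := congrArg Subtype.val x.2
      rw [mul_inv_eq_one, mul_inv_eq_iff_eq_mul] at h
      exact h.symm
    · rw [MonoidHom.mem_ker]
      refine Subtype.ext ?_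
      show s * (x : G) * s⁻¹ * (x : G)⁻¹ = 1
      rw [← Subgroup.mem_centralizer_singleton_iff.1 (Subgroup.mem_inf.1 x.2).2]
      group
  have h1 := Subgroup.card_mul_index N
  rw [← isComplIn_card F.compl_H] at h1
  have h2 := Subgroup.card_mul_index f.ker
  rw [Subgroup.index_ker, hker] at h2
  rw [← h2] at h1
  have h3 : Nat.card ↥CC * Nat.card f.range * N.index ≤
      Nat.card ↥CC * Nat.card f.range *
        Nat.card ↥(Cfsg.fittingHallOf S ⊓ Subgroup.centralizer ({s} : Set G)) := by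
    calc _ ≤ Nat.card N * N.index := Nat.mul_le_mul_right _ hN
      _ = _ := by rw [h1]; ring
  exact Nat.le_of_mul_le_mul_left h3 (Nat.mul_pos Nat.card_pos Nat.card_pos)

theorem twist_surjective {v : G} (hv : v ∈ W₁) (hv1 : v ≠ 1) {a : G} (ha : a ∈ U) :
    ∃ b ∈ U, a * v = b * v * b⁻¹ := by
  let f : U → U := fun b => ⟨(b : G) * (v * b * v⁻¹)⁻¹, mul_mem b.2 (inv_mem (F.conj_U hv b.2))⟩
  have hinj : Function.Injective f := by
    intro b d h
    have h' : (b : G) * (v * b * v⁻¹)⁻¹ = (d : G) * (v * d * v⁻¹)⁻¹ := congrArg Subtype.val h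
    have h1 : v * ((d : G)⁻¹ * b) = (d : G)⁻¹ * b * v := by
      rw [← mul_inv_eq_iff_eq_mul]
      calc v * ((d : G)⁻¹ * b) * v⁻¹ = (v * d * v⁻¹)⁻¹ * (v * b * v⁻¹) := by group
        _ = (d : G)⁻¹ * ((d : G) * (v * d * v⁻¹)⁻¹) * (v * b * v⁻¹) := by group
        _ = (d : G)⁻¹ * b := by rw [← h']; group
    exact Subtype.ext (inv_mul_eq_one.1 (F.fpf hv hv1 (mul_mem (inv_mem d.2) b.2) h1)).symm
  obtain ⟨b, hb⟩ := (Finite.injective_iff_surjective.1 hinj) ⟨a, ha⟩
  refine ⟨b, b.2, ?_⟩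
  have hb' : (b : G) * (v * b * v⁻¹)⁻¹ = a := congrArg Subtype.val hb
  rw [← hb']
  group

/-- Reduction of freeness to elements `a v`. -/
theorem isFree_of {θ : ↥(HH) →* ℂˣ} (hM : Moves (Cfsg.fittingHallOf S) θ)
    (h : ∀ a ∈ U, ∀ v ∈ W₁, ConjTo (a * v) θ θ → v = 1 ∧ a ∈ CC) :
    IsFree S (Cfsg.fittingHallOf S) θ := by
  refine ⟨hM, fun s hs hc => ?_⟩
  obtain ⟨x, hx, a, ha, v, hv, rfl⟩ := F.decomp hs
  have hav : ConjTo (a * v) θ θ := by
    intro y z hz
    have hxH : x ∈ HH := Subgroup.mem_sup_left hx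
    refine hc y z ?_
    calc (z : G) = x * z * x⁻¹ := by rw [F.H_comm x hxH z z.2, mul_inv_cancel_right]
      _ = _ := by rw [hz]; group
  obtain ⟨rfl, haC⟩ := h a ha v hv hav
  rw [mul_one]
  exact mul_mem (Subgroup.mem_sup_left hx) (Subgroup.mem_sup_right haC)

/-- The case where `U` is irreducible on `P`. -/
theorem exists_free_galois
    (hgal : ∀ X : Subgroup G, X ≤ Cfsg.fittingHallOf S → U ≤ Subgroup.normalizer (X : Set G) →
      X = ⊥ ∨ X = Cfsg.fittingHallOf S)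
    (hlt : Nat.card U * (Nat.card W₂ - 1) <
      (Nat.card W₂ ^ Nat.card W₁ - 1) * Nat.card ↥CC) :
    ∃ θ : ↥(HH) →* ℂˣ, IsFree S (Cfsg.fittingHallOf S) θ := by
  classical
  obtain ⟨w, hw, hw1⟩ := F.exists_W₁
  let Θ := {θ : ↥(HH) →* ℂˣ // (CC).subgroupOf (HH) ≤ θ.ker}
  haveI : Finite Θ := Nat.finite_of_card_ne_zero (by
    rw [F.card_killing_C]; exact pow_ne_zero _ F.p_prime.ne_zero)
  letI := Fintype.ofFinite Θ
  let C' : Subgroup U := (CC).subgroupOf U
  letI := Fintype.ofFinite (U ⧸ C')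
  let B : (U ⧸ C') → Finset Θ := fun b => Finset.univ.filter fun θ : Θ =>
    θ.1 ≠ 1 ∧ ConjTo (((b.out : U) : G) * w * ((b.out : U) : G)⁻¹) θ.1 θ.1
  have hB : ∀ b, (B b).card ≤ Nat.card W₂ - 1 := by
    intro b
    set g := (((b.out : U) : G) * w * ((b.out : U) : G)⁻¹) with hg
    have hgS : g ∈ S := mul_mem (mul_mem (F.U_le b.out.2) (F.W₁_le hw)) (inv_mem (F.U_le b.out.2))
    have h1 := F.card_fixed_le hgS
    have hP2 : Nat.card ↥(Cfsg.fittingHallOf S ⊓ Subgroup.centralizer ({g} : Set G)) ≤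
        Nat.card W₂ := by
      refine Nat.card_le_card_of_injective
        (fun x => (⟨((b.out : U) : G)⁻¹ * x * ((b.out : U) : G), F.fixed_P ?_ hw hw1 ?_⟩ : W₂)) ?_
      · have := F.conj_P (inv_mem (F.U_le b.out.2)) (Subgroup.mem_inf.1 x.2).1
        rwa [inv_inv] at this
      · have h : (x : G) * (((b.out : U) : G) * w * ((b.out : U) : G)⁻¹) =
            (((b.out : U) : G) * w * ((b.out : U) : G)⁻¹) * x :=
          Subgroup.mem_centralizer_singleton_iff.1 (Subgroup.mem_inf.1 x.2).2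
        calc w * (((b.out : U) : G)⁻¹ * x * (b.out : U)) = ((b.out : U) : G)⁻¹ *
              (((b.out : U) : G) * w * ((b.out : U) : G)⁻¹ * x) * (b.out : U) := by group
          _ = ((b.out : U) : G)⁻¹ * ((x : G) * (((b.out : U) : G) * w * ((b.out : U) : G)⁻¹)) *
              (b.out : U) := by rw [← h]
          _ = _ := by group
      · intro x y h
        exact Subtype.ext (mul_left_cancel (mul_right_cancel (congrArg Subtype.val h)))
    have hone : (⟨1, fun x _ => MonoidHom.one_apply x⟩ : Θ) ∈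
        Finset.univ.filter fun θ : Θ => ConjTo g θ.1 θ.1 :=
      Finset.mem_filter.2 ⟨Finset.mem_univ _, fun _ _ _ => rfl⟩
    have hsub : B b ⊆ (Finset.univ.filter fun θ : Θ => ConjTo g θ.1 θ.1).erase
        ⟨1, fun x _ => MonoidHom.one_apply x⟩ := by
      intro θ hθ
      obtain ⟨-, h2, h3⟩ := Finset.mem_filter.1 hθ
      exact Finset.mem_erase.2 ⟨fun e => h2 (congrArg Subtype.val e),
        Finset.mem_filter.2 ⟨Finset.mem_univ _, h3⟩⟩
    refine (Finset.card_le_card hsub).trans ?_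
    rw [Finset.card_erase_of_mem hone]
    refine Nat.sub_le_sub_right ?_ 1
    rw [← Fintype.card_subtype, ← Nat.card_eq_fintype_card,
      Nat.card_congr (_root_.Equiv.subtypeSubtypeEquivSubtypeInter
        (fun θ : ↥(HH) →* ℂˣ => (CC).subgroupOf (HH) ≤ θ.ker) (fun θ => ConjTo g θ θ))]
    exact h1.trans hP2
  have hbad : (Finset.univ.biUnion B).card + 1 < Fintype.card Θ := by
    have h1 : (Finset.univ.biUnion B).card ≤ C'.index * (Nat.card W₂ - 1) := by
      refine (Finset.card_biUnion_le).trans ((Finset.sum_le_card_nsmul _ _ _ fun b _ => hB b).trans ?_)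
      rw [Finset.card_univ, ← Nat.card_eq_fintype_card, ← Subgroup.index_eq_card, smul_eq_mul]
    have h2 : Fintype.card Θ = Nat.card W₂ ^ Nat.card W₁ := by
      rw [← Nat.card_eq_fintype_card, F.card_killing_C]
    have h3 : C'.index * (Nat.card W₂ - 1) < Nat.card W₂ ^ Nat.card W₁ - 1 := by
      have hC' : Nat.card C' = Nat.card ↥CC :=
        Nat.card_congr (Subgroup.subgroupOfEquivOfLe inf_le_left).toEquiv
      rw [← Subgroup.card_mul_index C', hC', mul_assoc, mul_comm (Nat.card ↥CC),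
        mul_comm (Nat.card W₂ ^ Nat.card W₁ - 1)] at hlt
      exact Nat.lt_of_mul_lt_mul_left (a := Nat.card ↥CC) (by rw [mul_comm]; exact hlt)
    omega
  obtain ⟨θ, -, hθ⟩ := Finset.exists_mem_notMem_of_card_lt_card
    (s := insert ⟨1, fun x _ => MonoidHom.one_apply x⟩ (Finset.univ.biUnion B))
    (t := (Finset.univ : Finset Θ))
    (lt_of_le_of_lt (Finset.card_insert_le _ _) (by rw [Finset.card_univ]; exact hbad))
  rw [Finset.mem_insert, not_or] at hθ
  obtain ⟨hθ1, hθB⟩ := hθ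
  have hne : θ.1 ≠ 1 := fun e => hθ1 (Subtype.ext e)
  refine ⟨θ.1, F.isFree_of ?_ ?_⟩
  · by_contra hM
    apply hne
    refine MonoidHom.ext fun x => ?_
    obtain ⟨y, hy, c, hc, e⟩ := F.compl_H.2.2.2 x x.2
    have ex : x = (⟨y, Subgroup.mem_sup_left hy⟩ : ↥(HH)) * ⟨c, Subgroup.mem_sup_right hc⟩ :=
      Subtype.ext e
    have h1 : θ.1 ⟨y, Subgroup.mem_sup_left hy⟩ = 1 := by
      by_contra h; exact hM ⟨_, hy, h⟩
    have h2 : θ.1 ⟨c, Subgroup.mem_sup_right hc⟩ = 1 :=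
      θ.2 (Subgroup.mem_subgroupOf.2 hc : (⟨c, Subgroup.mem_sup_right hc⟩ : ↥(HH)) ∈ _)
    rw [ex, map_mul, h1, h2, mul_one, MonoidHom.one_apply]
  · intro a ha v hv hc
    by_cases hv1 : v = 1
    · refine ⟨hv1, ?_⟩
      subst hv1
      rw [mul_one] at hc
      by_contra haC
      have hX : Cfsg.fittingHallOf S ⊓ Subgroup.centralizer ({a} : Set G) = ⊥ := by
        refine (hgal _ inf_le_left fun b hb => Subgroup.mem_normalizer_fintype fun x hx => ?_).resolve_right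
          fun h => haC (Subgroup.mem_inf.2 ⟨ha, Subgroup.mem_centralizer_iff.2 fun x hx =>
            Subgroup.mem_centralizer_singleton_iff.1 (inf_eq_left.1 h hx)⟩)
        have hx' := Subgroup.mem_inf.1 (SetLike.mem_coe.1 hx)
        refine Subgroup.mem_inf.2 ⟨F.conj_P (F.U_le hb) hx'.1,
          Subgroup.mem_centralizer_singleton_iff.2 ?_⟩
        have h := Subgroup.mem_centralizer_singleton_iff.1 hx'.2
        calc b * x * b⁻¹ * a = b * x * (b⁻¹ * a) := by group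
          _ = b * (x * a) * b⁻¹ := by rw [F.U_comm _ (inv_mem hb) _ ha]; group
          _ = b * a * x * b⁻¹ := by rw [h]; group
          _ = _ := by rw [F.U_comm b hb a ha]; group
      have h := F.card_fixed_le (F.U_le ha)
      rw [hX, Subgroup.card_bot] at h
      haveI : Finite {θ : ↥(HH) →* ℂˣ // (CC).subgroupOf (HH) ≤ θ.ker ∧ ConjTo a θ θ} :=
        Finite.of_injective (β := Θ) (fun z => ⟨z.1, z.2.1⟩)
          (fun z z' e => Subtype.ext (congrArg (fun t : Θ => t.1) e))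
      haveI := Finite.card_le_one_iff_subsingleton.1 h
      exact hne (congrArg (fun z : {θ : ↥(HH) →* ℂˣ //
          (CC).subgroupOf (HH) ≤ θ.ker ∧ ConjTo a θ θ} => z.1)
        (Subsingleton.elim ⟨θ.1, θ.2, hc⟩ ⟨1, fun x _ => MonoidHom.one_apply x, fun _ _ _ => rfl⟩))
    · exfalso
      obtain ⟨b, hb, e⟩ := F.twist_surjective hv hv1 ha
      apply hθB
      rw [Finset.mem_biUnion]
      refine ⟨QuotientGroup.mk ⟨b, hb⟩, Finset.mem_univ _,
        Finset.mem_filter.2 ⟨Finset.mem_univ _, hne, ?_⟩⟩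
      obtain ⟨c, hc'⟩ : ∃ c : C', ((QuotientGroup.mk ⟨b, hb⟩ : U ⧸ C').out) = ⟨b, hb⟩ * c :=
        QuotientGroup.mk_out_eq_mul C' _
      have hcC : ((c : U) : G) ∈ CC := Subgroup.mem_subgroupOf.1 c.2
      -- the elements fixing `θ`
      let St : Subgroup G :=
        { carrier := {g | g ∈ S ∧ ConjTo g θ.1 θ.1}
          one_mem' := ⟨one_mem _, fun x y h => by
            rw [show y = x from Subtype.ext (by simpa using h)]⟩
          mul_mem' := fun {g g'} hg hg' => ⟨mul_mem hg.1 hg'.1, fun x y h =>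
            (hg.2 ⟨g' * x * g'⁻¹, F.conj_H hg'.1 x.2⟩ y (by rw [h]; group)).trans
              (hg'.2 x ⟨g' * x * g'⁻¹, F.conj_H hg'.1 x.2⟩ rfl)⟩
          inv_mem' := fun {g} hg => ⟨inv_mem hg.1, fun x y h =>
            (hg.2 y x (by rw [h]; group)).symm⟩ }
      have h1 : a * v ∈ St := ⟨mul_mem (F.U_le ha) (F.W₁_le hv), hc⟩
      have h2 : ((c : U) : G) ∈ St := ⟨F.U_le (Subgroup.mem_inf.1 hcC).1, fun x y h => by
        have : y = x := Subtype.ext (by
          rw [h, F.H_comm _ (Subgroup.mem_sup_right hcC) _ x.2, mul_inv_cancel_right])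
        rw [this]⟩
      have h3 : b * w * b⁻¹ ∈ St := by
        haveI : Fact (Nat.card W₁).Prime := ⟨F.q_prime⟩
        obtain ⟨n, hn⟩ := Subgroup.mem_zpowers_iff.1
          (mem_zpowers_of_prime_card (g := (⟨v, hv⟩ : W₁)) (g' := ⟨w, hw⟩) rfl
            (fun e => hv1 (congrArg Subtype.val e)))
        have hn' : v ^ n = w := by simpa using congrArg Subtype.val hn
        rw [← hn', ← conj_zpow, ← e]
        exact zpow_mem h1 n
      have hbc : ((QuotientGroup.mk ⟨b, hb⟩ : U ⧸ C').out : U).1 = b * ((c : U) : G) := by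
        rw [hc']; rfl
      rw [hbc]
      have e2 : b * ((c : U) : G) * w * (b * ((c : U) : G))⁻¹ =
          ((c : U) : G) * (b * w * b⁻¹) * ((c : U) : G)⁻¹ := by
        rw [F.U_comm b hb _ (Subgroup.mem_inf.1 hcC).1]
        group
      rw [e2]
      exact (mul_mem (mul_mem h2 h3) (inv_mem h2)).2

set_option maxHeartbeats 800000 in
/-- A free character exists unless `U/C` is as large as possible. -/
theorem exists_free
    (hlt : Nat.card U * (Nat.card W₂ - 1) <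
      (Nat.card W₂ ^ Nat.card W₁ - 1) * Nat.card ↥CC) :
    ∃ θ : ↥(HH) →* ℂˣ, IsFree S (Cfsg.fittingHallOf S) θ := by
  classical
  by_cases hgal : ∀ X : Subgroup G, X ≤ Cfsg.fittingHallOf S →
      U ≤ Subgroup.normalizer (X : Set G) → X = ⊥ ∨ X = Cfsg.fittingHallOf S
  · exact F.exists_free_galois hgal hlt
  haveI : Fact (Nat.card W₂).Prime := ⟨F.p_prime⟩
  let good : Subgroup G → Prop := fun X =>
    X ≤ Cfsg.fittingHallOf S ∧ U ≤ Subgroup.normalizer (X : Set G) ∧ X ≠ ⊥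
  push Not at hgal
  obtain ⟨X₀, hX₀, hX₀U, hX₀b, hX₀t⟩ := hgal
  obtain ⟨X, hXle, hX⟩ := ((Set.toFinite {X : Subgroup G | good X}).exists_le_minimal
    (show X₀ ∈ {X : Subgroup G | good X} from ⟨hX₀, hX₀U, hX₀b⟩))
  obtain ⟨⟨hXP, hXU, hXb⟩, hmin⟩ := hX
  have hXt : X ≠ Cfsg.fittingHallOf S := fun e => hX₀t (le_antisymm hX₀ (e ▸ hXle))
  -- the `W₁`-conjugates
  let im : G → Subgroup G := fun v => X.map (MulAut.conj v).toMonoidHom
  have him : ∀ v ∈ W₁, im v ≤ Cfsg.fittingHallOf S := by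
    rintro v hv _ ⟨x, hx, rfl⟩
    exact F.conj_P (F.W₁_le hv) (hXP hx)
  have himn : ∀ v ∈ W₁, ∀ a ∈ U, ∀ y ∈ im v, a * y * a⁻¹ ∈ im v := by
    rintro v hv a ha _ ⟨x, hx, rfl⟩
    refine ⟨(v⁻¹ * a * v⁻¹⁻¹) * x * (v⁻¹ * a * v⁻¹⁻¹)⁻¹,
      (Subgroup.mem_normalizer_iff.1 (hXU (F.conj_U (inv_mem hv) ha)) x).1 hx, ?_⟩
    simp only [MulEquiv.coe_toMonoidHom, MulAut.conj_apply]
    group
  have hY : ∀ s : Finset W₁, ∃ m : ℕ, Nat.card ↥(⨆ v ∈ s, im v) = Nat.card X ^ m := by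
    intro s
    induction s using Finset.induction_on with
    | empty => exact ⟨0, by simp⟩
    | insert v s hv ih =>
      obtain ⟨m, hm⟩ := ih
      rw [Finset.iSup_insert]
      have hYle : (⨆ u ∈ s, im u) ≤ Cfsg.fittingHallOf S := iSup₂_le fun u _ => him u u.2
      have hYU : ∀ a ∈ U, ∀ y ∈ (⨆ u ∈ s, im u), a * y * a⁻¹ ∈ ⨆ u ∈ s, im u := by
        intro a ha y hy
        have : (⨆ u ∈ s, im u) ≤ (⨆ u ∈ s, im u).comap (MulAut.conj a).toMonoidHom :=
          iSup₂_le fun u hu z hz => (le_iSup₂ (f := fun u (_ : u ∈ s) => im u) u hu)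
            (himn u u.2 a ha z hz)
        exact this hy
      -- the intersection pulled back to `X`
      let Z : Subgroup G :=
        (im v ⊓ ⨆ u ∈ s, im u).comap (MulAut.conj (v : G)).toMonoidHom
      have hZX : Z ≤ X := by
        intro x hx
        obtain ⟨x', hx', e⟩ := (Subgroup.mem_inf.1 hx).1
        rwa [(MulAut.conj (v : G)).injective e] at hx'
      by_cases hZ : Z = ⊥
      · have hdisj : im v ⊓ (⨆ u ∈ s, im u) = ⊥ := by
          rw [Subgroup.eq_bot_iff_forall]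
          intro y hy
          have hz : (MulAut.conj (v : G)).symm y ∈ Z := by
            show (MulAut.conj (v : G)) ((MulAut.conj (v : G)).symm y) ∈
              (im v ⊓ ⨆ u ∈ s, im u : Subgroup G)
            rwa [MulEquiv.apply_symm_apply]
          rw [hZ, Subgroup.mem_bot] at hz
          rw [← (MulAut.conj (v : G)).apply_symm_apply y, hz, map_one]
        have hc : Cfsg.IsComplIn (im v) (⨆ u ∈ s, im u) (im v ⊔ ⨆ u ∈ s, im u) := by
          refine ⟨le_sup_left, le_sup_right, hdisj, fun g hg => ?_⟩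
          have hg' : g ∈ (↑(im v ⊔ ⨆ u ∈ s, im u) : Set G) := hg
          rw [Subgroup.coe_mul_of_right_le_normalizer_left _ _ (fun y hy =>
            (Subgroup.centralizer_le_normalizer (im v : Set G))
              (Subgroup.mem_centralizer_iff.2 fun z hz =>
              F.P_comm z (him v v.2 hz) y (hYle hy)))] at hg'
          obtain ⟨a, ha, b, hb, rfl⟩ := hg'
          exact ⟨a, ha, b, hb, rfl⟩
        refine ⟨m + 1, ?_⟩
        rw [← isComplIn_card hc, hm, Subgroup.card_map_of_injective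
          (MulAut.conj (v : G)).injective]
        ring
      · have hZX' : X ≤ Z := by
          refine hmin ⟨hZX.trans hXP, ?_, hZ⟩ hZX
          intro a ha
          refine Subgroup.mem_normalizer_fintype fun x hx => ?_
          obtain ⟨h1, h2⟩ := Subgroup.mem_inf.1 (SetLike.mem_coe.1 hx)
          have e : (v : G) * (a * x * a⁻¹) * (v : G)⁻¹ =
              ((v : G) * a * (v : G)⁻¹) * ((v : G) * x * (v : G)⁻¹) *
                ((v : G) * a * (v : G)⁻¹)⁻¹ := by group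
          refine Subgroup.mem_inf.2 ⟨?_, ?_⟩ <;>
            simp only [MulEquiv.coe_toMonoidHom, MulAut.conj_apply] at h1 h2 ⊢ <;> rw [e]
          · exact himn v v.2 _ (F.conj_U v.2 ha) _ h1
          · exact hYU _ (F.conj_U v.2 ha) _ h2
        refine ⟨m, ?_⟩
        rw [sup_eq_right.2 ?_, hm]
        rintro _ ⟨x, hx, rfl⟩
        exact (Subgroup.mem_inf.1 (hZX' hx)).2
  letI := Fintype.ofFinite W₁
  let Y : Subgroup G := ⨆ v ∈ (Finset.univ : Finset W₁), im v
  have hYle : Y ≤ Cfsg.fittingHallOf S := iSup₂_le fun u _ => him u u.2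
  have hYP : Y = Cfsg.fittingHallOf S := by
    refine (F.minimal hYle (fun a ha => Subgroup.mem_normalizer_fintype fun y hy => ?_)
      (fun w hw => Subgroup.mem_normalizer_fintype fun y hy => ?_)).resolve_left ?_
    · have : Y ≤ Y.comap (MulAut.conj a).toMonoidHom :=
        iSup₂_le fun u hu z hz => (le_iSup₂ (f := fun (u : W₁) (_ : u ∈ Finset.univ) => im u) u hu)
          (himn u u.2 a ha z hz)
      exact this hy
    · have : Y ≤ Y.comap (MulAut.conj w).toMonoidHom := by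
        refine iSup₂_le fun u _ z hz => ?_
        obtain ⟨x, hx, rfl⟩ := hz
        refine (le_iSup₂ (f := fun (u : W₁) (_ : u ∈ Finset.univ) => im u) (⟨w, hw⟩ * u)
          (Finset.mem_univ _)) ⟨x, hx, ?_⟩
        simp [mul_assoc]
      exact this hy
    · intro hY
      apply hXb
      rw [eq_bot_iff, ← hY]
      intro x hx
      exact (le_iSup₂ (f := fun (u : W₁) (_ : u ∈ Finset.univ) => im u) 1 (Finset.mem_univ _))
        ⟨x, hx, by simp⟩
  obtain ⟨m, hm⟩ := hY Finset.univ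
  rw [show (⨆ v ∈ (Finset.univ : Finset W₁), im v) = Y from rfl, hYP, F.P_card] at hm
  have hXp : Nat.card X = Nat.card W₂ := by
    obtain ⟨k, hk, hkc⟩ := (Nat.dvd_prime_pow F.p_prime).1
      (F.P_card ▸ Subgroup.card_dvd_of_le hXP)
    rw [hkc, ← pow_mul] at hm
    have hkm := Nat.pow_right_injective F.p_prime.two_le hm
    rcases F.q_prime.eq_one_or_self_of_dvd k (hkm ▸ dvd_mul_right k m) with h | h
    · rw [hkc, h, pow_one]
    · exfalso
      refine hXt (Subgroup.eq_of_le_of_card_ge hXP ?_)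
      rw [F.P_card, hkc, h]
  obtain ⟨x, hx, hx1⟩ := (Subgroup.bot_or_exists_ne_one X).resolve_left hXb
  have hgenX : ∀ y ∈ X, ∃ i : ℤ, x ^ i = y := by
    intro y hy
    obtain ⟨i, hi⟩ := Subgroup.mem_zpowers_iff.1 (mem_zpowers_of_prime_card (p := Nat.card W₂)
      hXp (g := (⟨x, hx⟩ : X)) (g' := ⟨y, hy⟩) (fun e => hx1 (congrArg Subtype.val e)))
    exact ⟨i, by simpa using congrArg Subtype.val hi⟩
  have hxvP : ∀ v : W₁, (v : G) * x * (v : G)⁻¹ ∈ HH := fun v =>
    Subgroup.mem_sup_left (F.conj_P (F.W₁_le v.2) (hXP hx))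
  let Θ := {θ : ↥(HH) →* ℂˣ // (CC).subgroupOf (HH) ≤ θ.ker}
  haveI : Finite Θ := Nat.finite_of_card_ne_zero (by
    rw [F.card_killing_C]; exact pow_ne_zero _ F.p_prime.ne_zero)
  haveI : NeZero (Nat.card W₂) := ⟨F.p_prime.ne_zero⟩
  let ev : Θ → (W₁ → rootsOfUnity (Nat.card W₂) ℂ) := fun θ v =>
    ⟨θ.1 ⟨_, hxvP v⟩, by
      rw [mem_rootsOfUnity, ← map_pow]
      convert map_one θ.1 using 2
      refine Subtype.ext ?_
      simpa using F.P_exp _ (F.conj_P (F.W₁_le v.2) (hXP hx))⟩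
  have hevinj : Function.Injective ev := by
    intro θ θ' h
    refine Subtype.ext (MonoidHom.ext fun y => ?_)
    let E : Subgroup ↥(HH) := MonoidHom.eqLocus θ.1 θ'.1
    have hE : Y ≤ E.map (HH).subtype := by
      refine iSup₂_le fun v _ z hz => ?_
      obtain ⟨x', hx', rfl⟩ := hz
      obtain ⟨i, rfl⟩ := hgenX x' hx'
      refine ⟨(⟨_, hxvP v⟩ : ↥(HH)) ^ i, ?_, by simp⟩
      refine zpow_mem ?_ i
      exact congrArg Subtype.val (congrFun h v)
    obtain ⟨z, hz, c, hc, e⟩ := F.compl_H.2.2.2 y y.2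
    obtain ⟨z', hz', ez⟩ := hE (hYP ▸ hz)
    have ey : y = z' * ⟨c, Subgroup.mem_sup_right hc⟩ :=
      Subtype.ext (by rw [e]; simp [← ez])
    rw [ey, map_mul, map_mul, show θ.1 z' = θ'.1 z' from hz',
      MonoidHom.mem_ker.1 (θ.2 (Subgroup.mem_subgroupOf.2 hc :
        (⟨c, Subgroup.mem_sup_right hc⟩ : ↥(HH)) ∈ _)),
      MonoidHom.mem_ker.1 (θ'.2 (Subgroup.mem_subgroupOf.2 hc :
        (⟨c, Subgroup.mem_sup_right hc⟩ : ↥(HH)) ∈ _))]
  have hevbij : Function.Bijective ev := (Nat.bijective_iff_injective_and_card _).2 ⟨hevinj, by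
    rw [F.card_killing_C, Nat.card_fun, Complex.card_rootsOfUnity]⟩
  have hprim := Complex.isPrimitiveRoot_exp (Nat.card W₂) F.p_prime.ne_zero
  let ζ : rootsOfUnity (Nat.card W₂) ℂ := ⟨(hprim.isUnit F.p_prime.ne_zero).unit, by
    rw [mem_rootsOfUnity]
    ext
    simpa using hprim.pow_eq_one⟩
  have hζ : (ζ : ℂˣ) ≠ 1 := by
    intro h
    exact hprim.ne_one F.p_prime.one_lt (by simpa [ζ] using congrArg Units.val h)
  obtain ⟨θ, hθ⟩ := hevbij.2 fun v => if v = 1 then ζ else ζ⁻¹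
  have hval : ∀ v : W₁, θ.1 ⟨_, hxvP v⟩ = if v = 1 then (ζ : ℂˣ) else (ζ : ℂˣ)⁻¹ := by
    intro v
    have h := congrArg (fun z : rootsOfUnity (Nat.card W₂) ℂ => (z : ℂˣ)) (congrFun hθ v)
    refine h.trans ?_
    split_ifs <;> rfl
  have hval_ne : ∀ v : W₁, θ.1 ⟨_, hxvP v⟩ ≠ 1 := by
    intro v
    rw [hval]
    split_ifs
    · exact hζ
    · simpa using hζ
  refine ⟨θ.1, F.isFree_of ⟨⟨_, hxvP 1⟩, by simpa using hXP hx, hval_ne 1⟩ ?_⟩
  intro a ha v hv hc
  have hscal : ∀ u : W₁, ∃ i : ℤ,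
      a * ((u : G) * x * (u : G)⁻¹) * a⁻¹ = ((u : G) * x * (u : G)⁻¹) ^ i := by
    intro u
    obtain ⟨i, hi⟩ := hgenX _ ((Subgroup.mem_normalizer_iff.1
      (hXU (F.conj_U (inv_mem u.2) ha)) x).1 hx)
    refine ⟨i, ?_⟩
    rw [conj_zpow, hi]
    group
  by_cases hv1 : v = 1
  · refine ⟨hv1, Subgroup.mem_inf.2 ⟨ha, ?_⟩⟩
    subst hv1
    rw [mul_one] at hc
    have hfix : ∀ u : W₁, a * ((u : G) * x * (u : G)⁻¹) * a⁻¹ = (u : G) * x * (u : G)⁻¹ := by
      intro u
      obtain ⟨i, hi⟩ := hscal u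
      have h := hc ⟨_, hxvP u⟩ ((⟨_, hxvP u⟩ : ↥(HH)) ^ i) (by simp [hi])
      rw [map_zpow] at h
      have h1 : θ.1 ((⟨_, hxvP u⟩ : ↥(HH)) ^ (i - 1)) = 1 := by
        rw [map_zpow, zpow_sub_one, h, mul_inv_cancel]
      have h2 := hom_injective_on F.p_prime θ.1 (z := (⟨_, hxvP u⟩ : ↥(HH))) (Subtype.ext (by
        simpa using F.P_exp _ (F.conj_P (F.W₁_le u.2) (hXP hx)))) (hval_ne u) h1
      have h3 : ((u : G) * x * (u : G)⁻¹) ^ (i - 1) = 1 := by
        simpa using congrArg Subtype.val h2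
      rw [zpow_sub_one, mul_inv_eq_one] at h3
      rw [hi, h3]
    have hle : Y ≤ Subgroup.centralizer ({a} : Set G) := by
      refine iSup₂_le fun u _ z hz => ?_
      obtain ⟨x', hx', rfl⟩ := hz
      obtain ⟨i, rfl⟩ := hgenX x' hx'
      simp only [map_zpow, MulEquiv.coe_toMonoidHom, MulAut.conj_apply]
      exact zpow_mem (Subgroup.mem_centralizer_singleton_iff.2
        (mul_inv_eq_iff_eq_mul.1 (hfix u)).symm) i
    exact Subgroup.mem_centralizer_iff.2 fun y hy =>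
      Subgroup.mem_centralizer_singleton_iff.1 (hle (hYP ▸ hy))
  · exfalso
    obtain ⟨i, hi⟩ := hscal ⟨v, hv⟩
    have hne : (⟨v, hv⟩ : W₁) ≠ 1 := fun e => hv1 (congrArg Subtype.val e)
    have h := hc ⟨_, hxvP 1⟩ ((⟨_, hxvP ⟨v, hv⟩⟩ : ↥(HH)) ^ i) (by
      simp only [SubgroupClass.coe_zpow, OneMemClass.coe_one, inv_one, one_mul, mul_one]
      rw [← hi]
      group)
    rw [map_zpow] at h
    have hz := hval ⟨v, hv⟩
    rw [if_neg hne] at hz
    have h1 := hval 1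
    rw [if_pos rfl] at h1
    have h2 : θ.1 ((⟨_, hxvP ⟨v, hv⟩⟩ : ↥(HH)) ^ (i + 1)) = 1 := by
      rw [map_zpow, zpow_add_one, h, h1, hz, mul_inv_cancel]
    have h3 := hom_injective_on F.p_prime θ.1 (z := (⟨_, hxvP ⟨v, hv⟩⟩ : ↥(HH))) (Subtype.ext (by
      simpa using F.P_exp _ (F.conj_P (F.W₁_le hv) (hXP hx)))) (hval_ne _) h2
    obtain ⟨z, hzdef⟩ : ∃ z : G, z = v * x * v⁻¹ := ⟨_, rfl⟩
    have h4 : z ^ (i + 1) = 1 := by rw [hzdef]; simpa using congrArg Subtype.val h3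
    rw [zpow_add_one] at h4
    have hinv : a * z * a⁻¹ = z⁻¹ := by
      rw [hzdef] at h4 ⊢
      rw [show a * (v * x * v⁻¹) * a⁻¹ = (v * x * v⁻¹) ^ i from hi]
      exact eq_inv_of_mul_eq_one_left h4
    have hodd : (orderOf a).Coprime 2 :=
      ((F.odd.of_dvd_nat (orderOf_dvd_natCard a)).coprime_two_right)
    obtain ⟨n, hn⟩ := exists_pow_eq_self_of_coprime hodd.symm
    have h5 : a ^ 2 ∈ Subgroup.centralizer ({z} : Set G) := by
      rw [Subgroup.mem_centralizer_singleton_iff, ← mul_inv_eq_iff_eq_mul]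
      calc a ^ 2 * z * (a ^ 2)⁻¹ = a * (a * z * a⁻¹) * a⁻¹ := by rw [pow_two]; group
        _ = a * z⁻¹ * a⁻¹ := by rw [hinv]
        _ = (a * z * a⁻¹)⁻¹ := by group
        _ = z := by rw [hinv, inv_inv]
    have h6 := pow_mem h5 n
    rw [hn, Subgroup.mem_centralizer_singleton_iff] at h6
    rw [h6, mul_inv_cancel_right] at hinv
    have hz2 : z ^ 2 = 1 := by rw [pow_two]; exact mul_eq_one_iff_eq_inv.2 hinv
    have hzp : z ^ Nat.card W₂ = 1 := by
      rw [hzdef]; exact F.P_exp _ (F.conj_P (F.W₁_le hv) (hXP hx))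
    have hcop : Nat.Coprime 2 (Nat.card W₂) :=
      (Nat.coprime_primes Nat.prime_two F.p_prime).2 (Ne.symm F.p_ne_two)
    have hz1 : z = 1 := orderOf_eq_one_iff.1 (Nat.eq_one_of_dvd_coprimes hcop
      (orderOf_dvd_of_pow_eq_one hz2) (orderOf_dvd_of_pow_eq_one hzp))
    rw [hzdef, conj_eq_one_iff] at hz1
    exact hx1 hz1

end Facts

end Cfsg.Agent.Lib.OddOrder.PF13
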