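import Cfsg.Agent.Lib.OddOrder.PF13.Final
import Cfsg.Agent.Lib.OddOrder.Assembly.Chain

/-!
# The inputs of section 13 from the open interfaces of the chain
-/

set_option autoImplicit false

namespace Cfsg.Agent.Lib.OddOrder.PF13

open Cfsg.Agent.Lib.OddOrder.Interface

universe u

variable {G : Type u} [Group G] [Fintype G]

/-- `Inputs` from `Assembly.Open`. -/
theorem Inputs.of_open (hG : Cfsg.IsMinSimpleOddOrder G) (o : Assembly.Open G) : Inputs G :=
  have r := Assembly.ready hG o
  { bg := r.bg16, partner := r.partner, noncoherent := o.step_10_8, typeV := o.typeV,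
    sec11 := Cfsg.Agent.Lib.OddOrder.PF11.Main.step_11 }

end Cfsg.Agent.Lib.OddOrder.PF13
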