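import Cfsg.Agent.Lib.Induced.Character
import Cfsg.Agent.Lib.Isometry.Inner
import Cfsg.Agent.Lib.Isometry.TI
import Cfsg.Agent.Lib.Isometry.Inflate
import Cfsg.Prelude.Def_OddOrderLocal

/-!
# Peterfalvi (13.2): induction from a TI-subset, and a vanishing criterion
-/

set_option autoImplicit false
set_option linter.style.haveILetI false

namespace Cfsg.Agent.Lib.OddOrder.PF13.Support

open scoped ComplexConjugate
open Cfsg.Agent.Lib.Induced.Basic Cfsg.Agent.Lib.Characters.Basic

universe u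

section Vanish

variable {K : Type u} [Group K] [Finite K]

/-- An irreducible character not trivial on the normal subgroup `N` vanishes at an element with
no fixed point on `N`. -/
theorem vanish {N : Subgroup K} [N.Normal] {κ : K → ℂ} (hκ : Cfsg.IsIrrCharacter K κ)
    (hN : ∃ n ∈ N, κ n ≠ κ 1) {x : K} (hx : ∀ n ∈ N, x * n = n * x → n = 1) : κ x = 0 := by
  classical
  haveI := Fintype.ofFinite (Cfsg.IrrCharacter K)
  haveI := Fintype.ofFinite (Cfsg.IrrCharacter (K ⧸ N))
  have h1 := Characters.Complete.sum_irr_mul_conj x x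
  have h2 := Characters.Complete.sum_irr_mul_conj (x : K ⧸ N) (x : K ⧸ N)
  rw [if_pos (IsConj.refl _)] at h1 h2
  rw [← Finset.sum_filter_add_sum_filter_not Finset.univ
    (fun χ : Cfsg.IrrCharacter K => ∀ g ∈ N, (χ : K → ℂ) g = (χ : K → ℂ) 1)] at h1
  rw [Finset.sum_subtype (p := fun χ : Cfsg.IrrCharacter K =>
      ∀ g ∈ N, (χ : K → ℂ) g = (χ : K → ℂ) 1) _ (fun χ => by simp),
    ← (Characters.Kernel.inflateEquiv N).sum_comp] at h1
  simp only [Characters.Kernel.inflateEquiv_apply] at h1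
  rw [h2] at h1
  have hle : Nat.card (Subgroup.centralizer ({x} : Set K)) ≤
      Nat.card (Subgroup.centralizer ({(x : K ⧸ N)} : Set (K ⧸ N))) := by
    refine Nat.card_le_card_of_injective
      (fun c => ⟨((c : K) : K ⧸ N), Subgroup.mem_centralizer_singleton_iff.2 (by
        rw [← QuotientGroup.mk_mul, ← QuotientGroup.mk_mul,
          Subgroup.mem_centralizer_singleton_iff.1 c.2])⟩) fun c d h => ?_
    have h' : ((c : K) : K ⧸ N) = ((d : K) : K ⧸ N) := congrArg Subtype.val h
    have hn : (c : K)⁻¹ * d ∈ N := QuotientGroup.eq.1 h'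
    have hc := Subgroup.mem_centralizer_singleton_iff.1 (mul_mem (inv_mem c.2) d.2)
    exact Subtype.ext (inv_mul_eq_one.1 (hx _ hn hc.symm))
  set s := Finset.univ.filter fun χ : Cfsg.IrrCharacter K =>
    ¬ ∀ g ∈ N, (χ : K → ℂ) g = (χ : K → ℂ) 1 with hs
  have hsum : ∑ χ ∈ s, Complex.normSq ((χ : K → ℂ) x) ≤ 0 := by
    have e : ((∑ χ ∈ s, Complex.normSq ((χ : K → ℂ) x) : ℝ) : ℂ) =
        ((Nat.card (Subgroup.centralizer ({x} : Set K)) : ℝ) : ℂ) -
          ((Nat.card (Subgroup.centralizer ({(x : K ⧸ N)} : Set (K ⧸ N))) : ℝ) : ℂ) := by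
      push_cast
      simp only [← Complex.mul_conj]
      linear_combination h1
    rw [← Complex.ofReal_sub, Complex.ofReal_inj] at e
    rw [e, sub_nonpos]
    exact_mod_cast hle
  have h0 := (Finset.sum_eq_zero_iff_of_nonneg fun χ _ => Complex.normSq_nonneg _).1
    (le_antisymm hsum (Finset.sum_nonneg fun χ _ => Complex.normSq_nonneg _)) ⟨κ, hκ⟩
    (Finset.mem_filter.2 ⟨Finset.mem_univ _, fun h => by
      obtain ⟨n, hn, hne⟩ := hN
      exact hne (h n hn)⟩)
  exact Complex.normSq_eq_zero.1 h0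

end Vanish

section TI

variable {G : Type u} [Group G] [Fintype G] {S : Subgroup G} {A : Set G}

/-- `α` is a class function of `S` supported on `A`. -/
def Supp (A : Set G) (α : S → ℂ) : Prop :=
  Cfsg.IsClassFunction S α ∧ ∀ x : S, (x : G) ∉ A → α x = 0

theorem indFun_eq_zero {α : S → ℂ} (hα : Supp A α) {g : G}
    (hg : ∀ y : G, y * g * y⁻¹ ∉ A) : Cfsg.indFun S α g = 0 := by
  rw [indFun_congr (θ' := 0) S g fun x hx => ?_, indFun_zero, Pi.zero_apply]
  refine hα.2 _ fun h => hg x⁻¹ ?_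
  rwa [inv_inv]

/-- The values of the induced function on the TI-subset. -/
theorem indFun_apply (hTI : Cfsg.IsTISubset A) (h1 : (1 : G) ∉ A)
    (hN : Subgroup.normalizer A = S) {α : S → ℂ} (hα : Supp A α) {x : S} (hx : (x : G) ∈ A) :
    Cfsg.indFun S α x = α x := by
  classical
  have key : ∀ y : G, Cfsg.extendByZero S α (y⁻¹ * x * y) = if y ∈ S then α x else 0 := by
    intro y
    split_ifs with hy
    · rw [extendByZero_of_mem S α (S.mul_mem (S.mul_mem (S.inv_mem hy) x.2) hy),
        ← hα.1 x ⟨y⁻¹, S.inv_mem hy⟩]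
      congr 1
      exact Subtype.ext (by simp)
    · by_cases hm : y⁻¹ * x * y ∈ S
      · rw [extendByZero_of_mem S α hm]
        refine hα.2 _ fun h => ?_
        refine h1 (?_ : (1 : G) ∈ A)
        have := hTI y⁻¹ (fun h' => hy (inv_mem_iff.1 (hN ▸ h'))) x hx (by rwa [inv_inv])
        rwa [← this]
      · exact extendByZero_of_not_mem S α hm
  simp only [Cfsg.indFun, key]
  rw [← Finset.sum_filter, Finset.sum_const, nsmul_eq_mul, ← mul_assoc,
    show (Finset.univ.filter fun y : G => y ∈ S).card = Nat.card S by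
      rw [Nat.card_eq_fintype_card, Fintype.card_subtype],
    inv_mul_cancel₀ (subgroup_card_ne_zero S), one_mul]

variable [Fintype S]

/-- Induction from a TI-subset is an isometry. -/
theorem classInner_indFun (hTI : Cfsg.IsTISubset A) (h1 : (1 : G) ∉ A)
    (hN : Subgroup.normalizer A = S) {α β : S → ℂ} (hα : Supp A α) (hβ : Supp A β) :
    Cfsg.classInner (Cfsg.indFun S α) (Cfsg.indFun S β) = Cfsg.classInner α β := by
  rw [frobenius_reciprocity S α (isClassFunction_indFun S β)]
  refine congrArg ((Nat.card S : ℂ)⁻¹ * ·) (Finset.sum_congr rfl fun x _ => ?_)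
  by_cases hx : (x : G) ∈ A
  · dsimp only
    rw [indFun_apply hTI h1 hN hβ hx]
  · rw [hα.2 x hx, zero_mul, zero_mul]

theorem classInner_one (α : S → ℂ) :
    Cfsg.classInner (Cfsg.indFun S α) (fun _ => 1) = Cfsg.classInner α (fun _ => 1) :=
  frobenius_reciprocity S α fun _ _ => rfl

omit [Fintype S] in
/-- Two induced functions with disjoint supports are orthogonal. -/
theorem classInner_disjoint {T : Subgroup G} {B : Set G} {α : S → ℂ} {β : T → ℂ}
    (hα : Supp A α) (hβ : Supp B β) (hAB : ∀ x ∈ A, ∀ g : G, g * x * g⁻¹ ∉ B) :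
    Cfsg.classInner (Cfsg.indFun S α) (Cfsg.indFun T β) = 0 := by
  refine mul_eq_zero_of_right _ (Finset.sum_eq_zero fun g _ => ?_)
  by_cases hg : ∀ y : G, y * g * y⁻¹ ∉ A
  · rw [indFun_eq_zero hα hg, zero_mul]
  · push Not at hg
    obtain ⟨y, hy⟩ := hg
    rw [indFun_eq_zero (G := G) hβ fun z hz => hAB _ hy (z * y⁻¹) ?_, map_zero, mul_zero]
    convert hz using 1
    group

end TI

end Cfsg.Agent.Lib.OddOrder.PF13.Support
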