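import Cfsg.Agent.Lib.OddOrder.PF13.Mu
import Cfsg.Agent.Lib.OddOrder.PF13.Support
import Cfsg.Agent.Lib.OddOrder.PF13.Column
import Cfsg.Agent.Lib.OddOrder.PF9Induced
import Cfsg.Agent.Lib.OddOrder.Interface.PF9Char
import Cfsg.Agent.Lib.Characters.Indicator
import Cfsg.Agent.S1506
import Cfsg.Agent.S1509

/-!
# Peterfalvi (13.2): the members of `S(1)` for `S` of type II or III and their coherence system
-/

set_option autoImplicit false
set_option linter.style.haveILetI false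
set_option linter.unusedSectionVars false

open scoped commutatorElement ComplexConjugate

namespace Cfsg.Agent.Lib.OddOrder.PF13

open Cfsg.Agent.Lib.CyclicTI (IsP IsQ)
open Cfsg.Agent.Lib.Induced.Basic Cfsg.Agent.Lib.Characters.Basic
open Cfsg.Agent.Lib.Clifford.Basic (conjC)

universe u

variable {G : Type u} [Group G]

/-- The elements of `S' - 1` centralising an element of `S_F - 1`. -/
def AK (S : Subgroup G) : Set G :=
  {x | x ∈ ⁅S, S⁆ ∧ x ≠ 1 ∧ ∃ y ∈ Cfsg.fittingHallOf S, y ≠ 1 ∧ x * y = y * x}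

/-- `S_F` inside `S`. -/
abbrev Pin (S : Subgroup G) : Subgroup ↥S := (Cfsg.fittingHallOf S).subgroupOf S

variable [Fintype G]

/-- The characters of `S` induced from the irreducible characters of `S'` non-trivial on `S_F`. -/
abbrev memS (S : Subgroup G) [Fintype S] : Set (↥S → ℂ) :=
  PF9Char.seqS (derivedIn S) (Pin S) ⊥

/-- What is needed about the set carrying the Dade map. -/
structure AFacts (S W₁ W₂ : Subgroup G) (A : Set G) : Prop where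
  ti : Cfsg.IsTISubset A
  normalizer : Subgroup.normalizer A = S
  one_not_mem : (1 : G) ∉ A
  conj_mem : ∀ m ∈ S, ∀ a ∈ A, m * a * m⁻¹ ∈ A
  AK_subset : AK S ⊆ A
  V_subset : ∀ w ∈ W₁ ⊔ W₂, w ∉ W₁ → w ∉ W₂ → w ∈ A

variable {S W₁ U W₂ : Subgroup G} [Fintype S] [Fintype (↥(W₁ ⊔ W₂) →* ℂˣ)]
  [DecidablePred (IsP (W₁ := W₁) (W₂ := W₂))]

/-- The column sum `∑ᵩ μ (φ ψ)`. -/
noncomputable def col (μ : (↥(W₁ ⊔ W₂) →* ℂˣ) → ↥S → ℂ) (ψ : ↥(W₁ ⊔ W₂) →* ℂˣ) : ↥S → ℂ :=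
  ∑ φ ∈ Finset.univ.filter (IsP (W₁ := W₁) (W₂ := W₂)), μ (φ * ψ)

/-- The column sum `∑ᵩ η (φ ψ)`. -/
noncomputable def ecol (η : (↥(W₁ ⊔ W₂) →* ℂˣ) → G → ℂ) (ψ : ↥(W₁ ⊔ W₂) →* ℂˣ) : G → ℂ :=
  ∑ φ ∈ Finset.univ.filter (IsP (W₁ := W₁) (W₂ := W₂)), η (φ * ψ)

/-- `ψ` labels a reducible member of `S(1)`. -/
def IsCol (S : Subgroup G) [Fintype S] (μ : (↥(W₁ ⊔ W₂) →* ℂˣ) → ↥S → ℂ)
    (ψ : ↥(W₁ ⊔ W₂) →* ℂˣ) : Prop :=
  IsQ ψ ∧ ψ ≠ 1 ∧ ∃ κ : derivedIn S → ℂ, Cfsg.IsIrrCharacter (derivedIn S) κ ∧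
    (∃ x : derivedIn S, (x : ↥S) ∈ Pin S ∧ κ x ≠ κ 1) ∧
    Cfsg.indFun (derivedIn S) κ = col μ ψ ∧ ∀ k : derivedIn S, μ ψ k = κ k

/-- A signed irreducible character occurring in the image of an irreducible member of `S(1)`. -/
def IsPiece (S : Subgroup G) [Fintype S] (f : G → ℂ) : Prop :=
  ∃ (χ : ↥S → ℂ) (a b : G → ℂ), Cfsg.IsIrrCharacter G a ∧ Cfsg.IsIrrCharacter G b ∧ a ≠ b ∧
    Support.Supp (AK S) (χ - Cfsg.conjFun χ) ∧
    Cfsg.indFun S (χ - Cfsg.conjFun χ) = a - b ∧ (f = a ∨ f = -a ∨ f = b ∨ f = -b)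

variable {η μ' : (↥(W₁ ⊔ W₂) →* ℂˣ) → G → ℂ}
  {μ : (↥(W₁ ⊔ W₂) →* ℂˣ) → ↥S → ℂ} {δ : (↥(W₁ ⊔ W₂) →* ℂˣ) → ℤ}
  {A : Set G}
  (F : Facts S W₁ U W₂) (hM : IsMu S W₁ W₂ η μ' μ δ) (hη : Cfsg.IsCyclicTIFamily W₁ W₂ η)
  (hA : AFacts S W₁ W₂ A)

theorem conjFun_indFun {L : Type u} [Group L] [Fintype L] (K : Subgroup L) (θ : K → ℂ) :
    Cfsg.conjFun (Cfsg.indFun K θ) = Cfsg.indFun K (Cfsg.conjFun θ) := by
  funext g
  simp only [Cfsg.conjFun, Cfsg.indFun, map_mul, map_inv₀, map_natCast, map_sum]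
  refine congrArg ((Nat.card K : ℂ)⁻¹ * ·) (Finset.sum_congr rfl fun x _ => ?_)
  by_cases hx : x⁻¹ * g * x ∈ K
  · rw [extendByZero_of_mem K _ hx, extendByZero_of_mem K _ hx]
    rfl
  · rw [extendByZero_of_not_mem K _ hx, extendByZero_of_not_mem K _ hx, map_zero]

theorem card_isP_filter (F : Facts S W₁ U W₂) :
    (Finset.univ.filter (IsP (W₁ := W₁) (W₂ := W₂))).card = Nat.card W₁ :=
  CyclicTI.card_isP F.typeP.selfNormalizing

theorem three_le_q (F : Facts S W₁ U W₂) : 3 ≤ Nat.card W₁ :=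
  CyclicTI.three_le_card F.typeP.W₁_ne (F.odd.of_dvd_nat (Subgroup.card_subgroup_dvd_card _))

include F hM

theorem mu_cl (ω : ↥(W₁ ⊔ W₂) →* ℂˣ) : Cfsg.IsClassFunction ↥S (μ ω) :=
  isClassFunction_irr ⟨μ ω, hM.irr ω⟩

theorem mu_value (ω : ↥(W₁ ⊔ W₂) →* ℂˣ) (x : ↥S) {w : ↥(W₁ ⊔ W₂)} (hw : (w : G) ∉ W₂)
    {y : ↥S} (hy : (y : G) * x * (y : G)⁻¹ = w) : μ ω x = (δ ω : ℂ) * (ω w : ℂ) := by
  rw [← mu_cl F hM ω x y, ← hM.ext, show ((y * x * y⁻¹ : ↥S) : G) = w from hy, hM.value ω w hw]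

/-- A member is irreducible or a column. -/
theorem member_cases {χ : ↥S → ℂ} (hχ : χ ∈ memS S) :
    Cfsg.IsIrrCharacter ↥S χ ∨ ∃ ψ, IsCol S μ ψ ∧ χ = col μ ψ := by
  obtain ⟨θ, hθ, -, hmv, rfl⟩ := hχ
  by_cases hfix : ∀ g : ↥S, conjC (derivedIn S) g θ = θ
  · right
    have hne : θ ≠ fun _ => 1 := by
      rintro rfl
      obtain ⟨x, -, hx⟩ := hmv
      exact hx rfl
    obtain ⟨ψ, hψ, hψ1, hres, hind⟩ := hM.fixed θ hθ hne hfix
    exact ⟨ψ, ⟨hψ, hψ1, θ, hθ, hmv, hind, hres⟩, hind⟩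
  · left
    push Not at hfix
    obtain ⟨g, hg⟩ := hfix
    refine PF9Char.isIrr_indFun_of_prime_index _ ?_ hθ hg
    rw [F.plike.index_eq, Nat.card_congr (Subgroup.subgroupOfEquivOfLe F.W₁_le).toEquiv]
    exact F.q_prime

/-- An irreducible character of `S'` non-trivial on `S_F` vanishes off `A`. -/
theorem kappa_vanish {κ : derivedIn S → ℂ} (hκ : Cfsg.IsIrrCharacter (derivedIn S) κ)
    (hmv : ∃ x : derivedIn S, (x : ↥S) ∈ Pin S ∧ κ x ≠ κ 1) {k : derivedIn S} (hk1 : k ≠ 1)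
    (hk : ((k : ↥S) : G) ∉ AK S) : κ k = 0 := by
  haveI : ((Pin S).subgroupOf (derivedIn S)).Normal := by
    haveI : (Pin S).Normal := Subgroup.normal_subgroupOf_of_le_normalizer
      (Cfsg.Agent.Lib.OddOrder.Basic.fittingHallOf_normal S)
    exact Subgroup.normal_subgroupOf
  refine Support.vanish (N := (Pin S).subgroupOf (derivedIn S)) hκ ?_ fun n hn hc => ?_
  · obtain ⟨x, hx, hne⟩ := hmv
    exact ⟨x, Subgroup.mem_subgroupOf.2 hx, hne⟩
  · by_contra h1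
    refine hk ⟨k.2, fun e => hk1 (Subtype.ext (Subtype.ext e)), ((n : ↥S) : G), hn, ?_,
      congrArg (fun z : derivedIn S => ((z : ↥S) : G)) hc⟩
    exact fun e => h1 (Subtype.ext (Subtype.ext e))

theorem member_vanish {χ : ↥S → ℂ} (hχ : χ ∈ memS S) {x : ↥S} (hx1 : x ≠ 1)
    (hx : (x : G) ∉ AK S) : χ x = 0 := by
  obtain ⟨θ, hθ, -, hmv, rfl⟩ := hχ
  rw [indFun_congr (θ' := 0) _ x ?_, indFun_zero, Pi.zero_apply]
  intro y hy
  refine kappa_vanish F hM hθ hmv (k := ⟨_, hy⟩) (fun e => hx1 ?_) ?_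
  · have e' : y⁻¹ * x * y = 1 := congrArg Subtype.val e
    calc x = y * (y⁻¹ * x * y) * y⁻¹ := by group
      _ = 1 := by rw [e']; group
  · rintro ⟨h1, h2, z, hz, hz1, hc⟩
    simp only [Subgroup.coe_mul, Subgroup.coe_inv] at h1 h2 hc
    refine hx ⟨?_, fun e => hx1 (Subtype.ext e), (y : G) * z * (y : G)⁻¹,
      F.conj_P y.2 hz, by simpa using hz1, ?_⟩
    · have h3 := (Subgroup.mem_normalizer_iff.1 (PF8.TypeP.le_normalizer_derived S y.2) _).1 h1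
      simpa [mul_assoc] using h3
    · calc (x : G) * ((y : G) * z * (y : G)⁻¹) = (y : G) * ((y : G)⁻¹ * x * y * z) * (y : G)⁻¹ := by
            group
        _ = (y : G) * (z * ((y : G)⁻¹ * x * y)) * (y : G)⁻¹ := by rw [hc]
        _ = _ := by group

theorem span_vanish {α : ↥S → ℂ} (hα : α ∈ Cfsg.zspan (memS S)) {x : ↥S} (hx1 : x ≠ 1)
    (hx : (x : G) ∉ AK S) : α x = 0 := by
  induction hα using Submodule.span_induction with
  | mem z hz => exact member_vanish F hM hz hx1 hx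
  | zero => rfl
  | add a b _ _ ha hb => rw [Pi.add_apply, ha, hb, add_zero]
  | smul n a _ ha => rw [Pi.smul_apply, ha, smul_zero]

theorem span_supp {α : ↥S → ℂ} (hα : α ∈ Cfsg.zspanOn (memS S) {1}ᶜ) :
    Support.Supp (AK S) α := by
  obtain ⟨hα, h0⟩ := Isometry.Inner.mem_zspanOn_one.1 hα
  refine ⟨?_, fun x hx => ?_⟩
  · refine Isometry.Inner.gen_classFun (Isometry.Inner.gen_zspan (fun χ hχ => ?_) hα)
    obtain ⟨θ, hθ, -, -, rfl⟩ := hχ
    exact Isometry.Inner.gen_of_isCharacter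
      (Induced.Character.isCharacter_indFun _ (IsCharacter_of_isIrrCharacter hθ))
  · by_cases hx1 : x = 1
    · rw [hx1, h0]
    · exact span_vanish F hM hα hx1 hx

theorem mu_one_eq {φ : ↥(W₁ ⊔ W₂) →* ℂˣ} (hφ : IsP φ) (ψ : ↥(W₁ ⊔ W₂) →* ℂˣ) :
    μ (φ * ψ) 1 = μ ψ 1 :=
  hM.agree φ ψ hφ 1 (one_mem _)

omit hM in
theorem q_two_lt : 2 < Nat.card W₁ := three_le_q F

/-- Equal degrees give equal signs. -/
theorem delta_eq_of_one {ω ω' : ↥(W₁ ⊔ W₂) →* ℂˣ} (h : μ ω 1 = μ ω' 1) : δ ω = δ ω' := by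
  obtain ⟨n, hn⟩ := hM.modq ω
  obtain ⟨m, hm⟩ := hM.modq ω'
  have e : ((δ ω' - δ ω : ℤ) : ℂ) = (((n - m) * (Nat.card W₁ : ℤ) : ℤ) : ℂ) := by
    push_cast
    linear_combination hn - hm - h
  have e' : δ ω' - δ ω = (n - m) * (Nat.card W₁ : ℤ) := by exact_mod_cast e
  have hq : (2 : ℤ) < Nat.card W₁ := by exact_mod_cast q_two_lt F
  rcases hM.sign ω with a | a <;> rcases hM.sign ω' with b | b <;> rw [a, b] at e' ⊢
  all_goals
    exfalso
    rcases lt_trichotomy (n - m) 0 with c | c | c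
    · nlinarith
    · rw [c] at e'; norm_num at e'
    · nlinarith

theorem IsCol.inv {ψ : ↥(W₁ ⊔ W₂) →* ℂˣ} (h : IsCol S μ ψ) :
    IsCol S μ ψ⁻¹ ∧ col μ ψ⁻¹ = Cfsg.conjFun (col μ ψ) := by
  obtain ⟨hψ, hψ1, κ, hκ, ⟨x, hx, hne⟩, hind, hres⟩ := h
  have hκ' : Cfsg.IsIrrCharacter (derivedIn S) (Cfsg.conjFun κ) := by
    haveI := Fintype.ofFinite (derivedIn S)
    exact Isometry.Inner.conjFun_irr hκ
  have hQ : IsQ ψ⁻¹ := fun w hw => by rw [MonoidHom.inv_apply, hψ w hw, inv_one]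
  have hsum : col μ ψ⁻¹ = Cfsg.conjFun (col μ ψ) := by
    funext g
    simp only [col, Cfsg.conjFun, Finset.sum_apply, map_sum]
    have hP : ∀ φ ∈ Finset.univ.filter (IsP (W₁ := W₁) (W₂ := W₂)),
        φ⁻¹ ∈ Finset.univ.filter (IsP (W₁ := W₁) (W₂ := W₂)) := fun φ hφ =>
      Finset.mem_filter.2 ⟨Finset.mem_univ _, fun w hw => by
        rw [MonoidHom.inv_apply, (Finset.mem_filter.1 hφ).2 w hw, inv_one]⟩
    refine Finset.sum_nbij' (fun φ => φ⁻¹) (fun φ => φ⁻¹) hP hP (fun φ _ => inv_inv φ)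
      (fun φ _ => inv_inv φ) fun φ _ => ?_
    have e : φ * ψ⁻¹ = (φ⁻¹ * ψ)⁻¹ := MonoidHom.ext fun w => by
      simp [MonoidHom.mul_apply, mul_inv, inv_inv, mul_comm]
    rw [e, (hM.conj _).1]
    rfl
  refine ⟨⟨hQ, fun e => hψ1 (MonoidHom.ext fun w => inv_eq_one.1 (DFunLike.congr_fun e w)), Cfsg.conjFun κ, hκ', ⟨x, hx, fun e => hne ?_⟩, ?_,
    fun k => ?_⟩, hsum⟩
  · exact star_injective e
  · rw [hsum, ← hind, conjFun_indFun]
  · rw [(hM.conj ψ).1]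
    exact congrArg (starRingEnd ℂ) (hres k)

omit hM in
theorem IsQ.inv_ne {ψ : ↥(W₁ ⊔ W₂) →* ℂˣ} (hψ1 : ψ ≠ 1) : ψ⁻¹ ≠ ψ := by
  intro e
  apply hψ1
  have h2 : ψ * ψ = 1 := by
    have h : ψ⁻¹ * ψ = 1 := inv_mul_cancel ψ
    rwa [e] at h
  refine MonoidHom.ext fun w => ?_
  have hodd : Odd (Nat.card ↥(W₁ ⊔ W₂)) := F.odd.of_dvd_nat (Subgroup.card_subgroup_dvd_card _)
  have e1 : (ψ w) ^ 2 = 1 := by rw [pow_two]; exact DFunLike.congr_fun h2 w
  have e2 : (ψ w) ^ Nat.card ↥(W₁ ⊔ W₂) = 1 := by rw [← map_pow, pow_card_eq_one', map_one]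
  obtain ⟨k, hk⟩ := hodd
  rw [hk, pow_succ, pow_mul, e1, one_pow, one_mul] at e2
  simpa using e2

open Classical in
theorem classInner_col {ψ ψ' : ↥(W₁ ⊔ W₂) →* ℂˣ} (hψ : IsQ ψ) (hψ' : IsQ ψ') :
    Cfsg.classInner (col μ ψ) (col μ ψ') = if ψ = ψ' then (Nat.card W₁ : ℂ) else 0 := by
  classical
  simp only [col, classInner_sum_left, classInner_sum_right]
  rw [← card_isP_filter F]
  by_cases e : ψ = ψ'
  · subst e
    rw [if_pos rfl, Finset.cast_card]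
    refine Finset.sum_congr rfl fun φ hφ => ?_
    rw [Finset.sum_eq_single φ (fun φ' _ hne => ?_) (fun h => absurd hφ h),
      Isometry.Inner.classInner_irr_eq (hM.irr _) (hM.irr _), if_pos rfl]
    rw [Isometry.Inner.classInner_irr_eq (hM.irr _) (hM.irr _), if_neg]
    exact fun h => hne (mul_right_cancel (hM.inj h))
  · rw [if_neg e]
    refine Finset.sum_eq_zero fun φ hφ => Finset.sum_eq_zero fun φ' hφ' => ?_
    rw [Isometry.Inner.classInner_irr_eq (hM.irr _) (hM.irr _), if_neg]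
    exact fun h => e (CyclicTI.pair_inj (Finset.mem_filter.1 hφ').2 (Finset.mem_filter.1 hφ).2
      hψ hψ' (hM.inj h)).2

theorem col_one (ψ : ↥(W₁ ⊔ W₂) →* ℂˣ) : col μ ψ 1 = (Nat.card W₁ : ℂ) * μ ψ 1 := by
  simp only [col, Finset.sum_apply]
  rw [Finset.sum_congr rfl fun φ hφ => mu_one_eq F hM (Finset.mem_filter.1 hφ).2 ψ, Finset.sum_const,
    card_isP_filter F, nsmul_eq_mul]

theorem IsCol.mem {ψ : ↥(W₁ ⊔ W₂) →* ℂˣ} (h : IsCol S μ ψ) : col μ ψ ∈ memS S := by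
  obtain ⟨-, -, κ, hκ, hmv, hind, -⟩ := h
  refine ⟨κ, hκ, fun a ha => ?_, hmv, hind.symm⟩
  rw [Subgroup.mem_bot] at ha
  rw [show a = 1 from Subtype.ext ha]

/-- An irreducible member is not a constituent of a column. -/
theorem classInner_irr_col {χ : ↥S → ℂ} (hχ : χ ∈ memS S) (hi : Cfsg.IsIrrCharacter ↥S χ)
    (ψ : ↥(W₁ ⊔ W₂) →* ℂˣ) : Cfsg.classInner χ (col μ ψ) = 0 := by
  classical
  simp only [col, classInner_sum_right]
  refine Finset.sum_eq_zero fun φ hφ => ?_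
  rw [Isometry.Inner.classInner_irr_eq hi (hM.irr _), if_neg]
  intro e
  obtain ⟨a, ha, ha1⟩ := F.exists_W₁
  have hna : a ∉ W₂ := fun h' => ha1 (CyclicTI.eq_one_of_mem F.typeP.selfNormalizing ha h')
  have hg : (⟨a, F.W₁_le ha⟩ : ↥S) ∉ derivedIn S := fun h' => ha1 (by
    have h2 : a ∈ ⁅S, S⁆ ⊓ W₁ := ⟨h', ha⟩
    rwa [F.typeP.W₁_compl.2.2.1, Subgroup.mem_bot] at h2)
  obtain ⟨θ, -, -, -, rfl⟩ := hχ
  have h0 : Cfsg.indFun (derivedIn S) θ ⟨a, F.W₁_le ha⟩ = 0 :=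
    indFun_eq_zero_of_not_mem_normal _ _ hg
  rw [e, mu_value F hM _ _ (w := CyclicTI.inl ha) hna (y := 1) (by simp [CyclicTI.inl])] at h0
  rcases hM.sign (φ * ψ) with s | s <;> simp [s] at h0

include hη in
theorem eta_gen (ω : ↥(W₁ ⊔ W₂) →* ℂˣ) : Cfsg.IsGeneralizedCharacter G (η ω) :=
  Isometry.Inner.gen_of_signed (hη.irr_or_neg ω)

include hA hη in
/-- The image of a difference of two columns of equal degree. -/
theorem col_diff {ψ ψ' : ↥(W₁ ⊔ W₂) →* ℂˣ} (h : IsCol S μ ψ) (h' : IsCol S μ ψ')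
    (hd : μ ψ 1 = μ ψ' 1) :
    δ ψ = δ ψ' ∧
      Cfsg.indFun S (col μ ψ - col μ ψ') = (δ ψ : ℂ) • (ecol η ψ - ecol η ψ') := by
  classical
  have hδ := delta_eq_of_one F hM hd
  refine ⟨hδ, ?_⟩
  by_cases e : ψ = ψ'
  · subst e; rw [sub_self, sub_self, indFun_zero, smul_zero]
  obtain ⟨hψ, -, κ, hκ, hmv, -, hres⟩ := h
  obtain ⟨hψ', -, κ', hκ', hmv', -, hres'⟩ := h'
  let ι := {φ : ↥(W₁ ⊔ W₂) →* ℂˣ // IsP φ}
  let α : ι → ↥S → ℂ := fun φ => μ (φ.1 * ψ) - μ (φ.1 * ψ')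
  have hsupp : ∀ φ, Support.Supp A (α φ) := by
    intro φ
    refine ⟨Characters.Complete.classFun_sub (mu_cl F hM _) (mu_cl F hM _), fun x hx => ?_⟩
    simp only [α, Pi.sub_apply]
    by_cases hxK : (x : G) ∈ ⁅S, S⁆
    · rw [hM.agree _ _ φ.2 x hxK, hM.agree _ _ φ.2 x hxK]
      by_cases hx1 : x = 1
      · rw [hx1, hd, sub_self]
      · have hnot : (x : G) ∉ AK S := fun h => hx (hA.AK_subset h)
        have h1 : (⟨x, hxK⟩ : derivedIn S) ≠ 1 := fun e => hx1 (congrArg Subtype.val e)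
        rw [hres ⟨x, hxK⟩, hres' ⟨x, hxK⟩, kappa_vanish F hM hκ hmv h1 hnot,
          kappa_vanish F hM hκ' hmv' h1 hnot, sub_self]
    · obtain ⟨y, w, hw, e1⟩ := hM.cover x hxK
      by_cases hw1 : (w : G) ∈ W₁
      · rw [mu_value F hM _ x hw e1, mu_value F hM _ x hw e1, hM.delta _ _ φ.2,
          hM.delta _ _ φ.2, hδ, MonoidHom.mul_apply, MonoidHom.mul_apply, hψ w hw1, hψ' w hw1,
          sub_self]
      · exfalso
        refine hx ?_
        have h2 := hA.conj_mem _ (inv_mem y.2) _ (hA.V_subset _ w.2 hw1 hw)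
        rw [← e1] at h2
        simpa [mul_assoc] using h2
  let Z : ι → G → ℂ := fun φ => Cfsg.indFun S (α φ)
  have hcard : 3 ≤ Fintype.card ι := by
    rw [Fintype.card_subtype, card_isP_filter F]; exact three_le_q F
  have hne : ∀ φ : ι, φ.1 * ψ ≠ φ.1 * ψ' := fun φ h => e (mul_left_cancel h)
  have key := Column.grid_diff hcard (fun φ : ι => η (φ.1 * ψ)) (fun φ : ι => η (φ.1 * ψ'))
    (fun φ => eta_gen F hM hη _) (fun φ => eta_gen F hM hη _)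
    (fun φ => by rw [hη.orthonormal, if_pos rfl])
    (fun φ φ' h => by
      rw [hη.orthonormal, if_neg fun e' => h (Subtype.ext (mul_right_cancel e'))])
    (fun φ => by rw [hη.orthonormal, if_pos rfl])
    (fun φ φ' h => by
      rw [hη.orthonormal, if_neg fun e' => h (Subtype.ext (mul_right_cancel e'))])
    (fun φ φ' => by
      rw [hη.orthonormal, if_neg fun e' => e (CyclicTI.pair_inj φ.2 φ'.2 hψ hψ' e').2])
    Z
    (fun φ => Induced.Character.isGeneralizedCharacter_indFun S (Isometry.Inner.gen_sub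
      (Isometry.Inner.gen_of_irr (hM.irr _)) (Isometry.Inner.gen_of_irr (hM.irr _))))
    (fun φ => by
      simp only [Z]
      rw [Support.classInner_indFun hA.ti hA.one_not_mem hA.normalizer (hsupp φ) (hsupp φ)]
      simp only [α, classInner_sub_left, classInner_sub_right,
        Isometry.Inner.classInner_irr_eq (hM.irr _) (hM.irr _), if_pos rfl,
        if_neg (fun h => hne φ (hM.inj h)), if_neg (fun h => hne φ (hM.inj h).symm)]
      norm_num)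
    (δ ψ) (hM.sign ψ)
    (fun φ φ' => by
      simp only [Z, ← indFun_sub]
      have e3 : α φ - α φ' = ((μ (φ.1 * ψ) - μ ψ) - (μ (φ.1 * ψ') - μ ψ')) -
          ((μ (φ'.1 * ψ) - μ ψ) - (μ (φ'.1 * ψ') - μ ψ')) := by simp only [α]; abel
      rw [e3, indFun_sub, hM.diff _ _ _ φ.2 hψ hψ' hδ, hM.diff _ _ _ φ'.2 hψ hψ' hδ, ← smul_sub]
      congr 1
      abel)
  have hs : ∀ {M : Type u} [AddCommMonoid M] (f : (↥(W₁ ⊔ W₂) →* ℂˣ) → M),
      ∑ φ ∈ Finset.univ.filter (IsP (W₁ := W₁) (W₂ := W₂)), f φ = ∑ φ : ι, f φ.1 :=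
    fun f => Finset.sum_subtype _ (fun φ => by simp) f
  simp only [col, ecol, ← Finset.sum_sub_distrib]
  rw [hs, hs, indFun_sum, Finset.smul_sum]
  exact Finset.sum_congr rfl fun φ _ => key φ

include hA in
/-- Functions supported on `AK` induce to functions vanishing on `W ∖ (W₁ ∪ W₂)`. -/
theorem ind_vanish_V {α : ↥S → ℂ} (hα : Support.Supp (AK S) α) (w : ↥(W₁ ⊔ W₂))
    (h1 : (w : G) ∉ W₁) (h2 : (w : G) ∉ W₂) : Cfsg.indFun S α w = 0 := by
  have hα' : Support.Supp A α := ⟨hα.1, fun x hx => hα.2 x fun h => hx (hA.AK_subset h)⟩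
  have e := Support.indFun_apply hA.ti hA.one_not_mem hA.normalizer hα'
    (x := ⟨w, F.W_le w.2⟩) (hA.V_subset _ w.2 h1 h2)
  rw [show Cfsg.indFun S α w = α ⟨w, F.W_le w.2⟩ from e]
  refine hα.2 _ fun h => h2 ?_
  exact Subgroup.mem_subgroupOf.1 ((F.plike.mem_K_iff
    ⟨(⟨w, F.W_le w.2⟩ : ↥S), by
      rw [← Subgroup.subgroupOf_sup F.W₁_le (F.W₂_le_P.trans F.P_le)]
      exact Subgroup.mem_subgroupOf.2 w.2⟩).1 h.1)

include hA hη in
/-- Pieces are orthogonal to the cyclic TI family. -/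
theorem piece_eta {f : G → ℂ} (hf : IsPiece S f) (ω : ↥(W₁ ⊔ W₂) →* ℂˣ) :
    Cfsg.classInner f (η ω) = 0 := by
  classical
  obtain ⟨χ, a, b, ha, hb, hab, hsupp, he, hf⟩ := hf
  have hW := F.typeP.selfNormalizing
  have hodd : Odd (Nat.card ↥(W₁ ⊔ W₂)) := F.odd.of_dvd_nat (Subgroup.card_subgroup_dvd_card _)
  obtain ⟨φ, ψ, hφ, hψ, rfl⟩ := CyclicTI.exists_decomp hW ω
  have h3 : 3 ≤ Fintype.card {φ : ↥(W₁ ⊔ W₂) →* ℂˣ // IsP φ} := by
    rw [Fintype.card_subtype, card_isP_filter F]; exact three_le_q F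
  have h4 : 3 ≤ Fintype.card {ψ : ↥(W₁ ⊔ W₂) →* ℂˣ // IsQ ψ} := by
    rw [Fintype.card_subtype, CyclicTI.card_isQ hW]
    exact CyclicTI.three_le_card hW.2.1 (CyclicTI.odd_factors hodd).2
  have hz := Column.grid_two h3 h4 (fun i j => η (i.1 * j.1)) (fun i j => hη.irr_or_neg _)
    (fun i j i' j' hne => by
      rw [hη.orthonormal, if_neg]
      intro e
      obtain ⟨e1, e2⟩ := CyclicTI.pair_inj i.2 i'.2 j.2 j'.2 e
      exact hne (Prod.ext (Subtype.ext e1) (Subtype.ext e2)))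
    ha hb hab
    (fun i i' j j' => by
      rw [← he]
      exact Cfsg.Agent.S1506.result W₁ W₂ hW η hη _ (isClassFunction_indFun S _)
        (fun w h1 h2 => ind_vanish_V F hM hA hsupp w h1 h2) i.1 i'.1 j.1 j'.1
        (fun w hw => ⟨i.2 w hw, i'.2 w hw⟩) (fun w hw => ⟨j.2 w hw, j'.2 w hw⟩))
    ⟨φ, hφ⟩ ⟨ψ, hψ⟩
  rcases hf with rfl | rfl | rfl | rfl
  · exact hz.1
  · rw [Isometry.Inner.classInner_neg_left, hz.1, neg_zero]
  · exact hz.2
  · rw [Isometry.Inner.classInner_neg_left, hz.2, neg_zero]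

omit hM in
theorem pieces_orth {T : Subgroup G} [Fintype T] {χ : ↥S → ℂ} {ξ : ↥T → ℂ} {a b c d : G → ℂ}
    (ha : Cfsg.IsIrrCharacter G a) (hb : Cfsg.IsIrrCharacter G b) (hab : a ≠ b)
    (hc : Cfsg.IsIrrCharacter G c) (hd : Cfsg.IsIrrCharacter G d) (hcd : c ≠ d)
    (he : Cfsg.indFun S χ = a - b) (he' : Cfsg.indFun T ξ = c - d)
    (h1 : χ 1 = 0) (h1' : ξ 1 = 0)
    (h0 : Cfsg.classInner (Cfsg.indFun S χ) (Cfsg.indFun T ξ) = 0) :
    Cfsg.classInner a c = 0 ∧ Cfsg.classInner a d = 0 ∧ Cfsg.classInner b c = 0 ∧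
      Cfsg.classInner b d = 0 := by
  have e1 : a 1 = b 1 := by
    have h := congrFun he 1
    rw [indFun_one, h1, mul_zero, Pi.sub_apply] at h
    exact sub_eq_zero.1 h.symm
  have e2 : c 1 = d 1 := by
    have h := congrFun he' 1
    rw [indFun_one, h1', mul_zero, Pi.sub_apply] at h
    exact sub_eq_zero.1 h.symm
  refine Cfsg.Agent.S1509.result a b c d (Or.inl ha) (Or.inl hb) (Or.inl hc) (Or.inl hd) 1 1
    one_ne_zero one_ne_zero ?_ ?_ ?_ e1 ?_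
  · rw [Isometry.Inner.classInner_irr_eq ha hb, if_neg hab]
  · rw [Isometry.Inner.classInner_irr_eq hc hd, if_neg hcd]
  · simp only [Complex.ofReal_one, one_smul]
    rwa [← he, ← he']
  · simp only [Complex.ofReal_one, one_mul]
    exact e2

/-- The pieces of an irreducible member. -/
theorem exists_pair {χ : ↥S → ℂ} (hχ : χ ∈ memS S) (hi : Cfsg.IsIrrCharacter ↥S χ)
    (hA : AFacts S W₁ W₂ A) :
    Support.Supp (AK S) (χ - Cfsg.conjFun χ) ∧ (χ - Cfsg.conjFun χ) 1 = 0 ∧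
      Cfsg.conjFun χ ∈ memS S ∧ Cfsg.conjFun χ ≠ χ ∧
      ∃ a b : G → ℂ, Cfsg.IsIrrCharacter G a ∧ Cfsg.IsIrrCharacter G b ∧ a ≠ b ∧
        Cfsg.indFun S (χ - Cfsg.conjFun χ) = a - b := by
  have hc : Cfsg.conjFun χ ∈ memS S := by
    obtain ⟨θ, hθ, h1, ⟨x, hx, hne⟩, rfl⟩ := hχ
    haveI := Fintype.ofFinite (derivedIn S)
    exact ⟨Cfsg.conjFun θ, Isometry.Inner.conjFun_irr hθ,
      fun a ha => congrArg (starRingEnd ℂ) (h1 a ha),
      ⟨x, hx, fun e => hne (star_injective e)⟩, conjFun_indFun _ _⟩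
  have hne : Cfsg.conjFun χ ≠ χ := by
    intro e
    have hreal : ∀ g : ↥S, (χ g).im = 0 := fun g => Complex.conj_eq_iff_im.1 (congrFun e g)
    have h1 := congrArg Subtype.val (Characters.Indicator.eq_oneChar_of_real
      (F.odd.of_dvd_nat (Subgroup.card_subgroup_dvd_card S)) ⟨χ, hi⟩ hreal)
    obtain ⟨a, ha, ha1⟩ := F.exists_W₁
    have hg : (⟨a, F.W₁_le ha⟩ : ↥S) ∉ derivedIn S := fun h' => ha1 (by
      have h2 : a ∈ ⁅S, S⁆ ⊓ W₁ := ⟨h', ha⟩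
      rwa [F.typeP.W₁_compl.2.2.1, Subgroup.mem_bot] at h2)
    obtain ⟨θ, -, -, -, rfl⟩ := hχ
    have h0 := indFun_eq_zero_of_not_mem_normal (derivedIn S) θ hg
    rw [show Cfsg.indFun (derivedIn S) θ = fun _ => 1 from h1] at h0
    exact one_ne_zero h0
  have hone : (χ - Cfsg.conjFun χ) 1 = 0 := by
    rw [Pi.sub_apply, sub_eq_zero]
    exact (conj_apply_one (IsCharacter_of_isIrrCharacter hi)).symm
  have hsupp : Support.Supp (AK S) (χ - Cfsg.conjFun χ) :=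
    span_supp F hM (Isometry.Inner.mem_zspanOn_one.2
      ⟨Isometry.Coherence.zspan_sub (Isometry.Inner.subset_zspan _ hχ)
        (Isometry.Inner.subset_zspan _ hc), hone⟩)
  have hsA : Support.Supp A (χ - Cfsg.conjFun χ) :=
    ⟨hsupp.1, fun x hx => hsupp.2 x fun h => hx (hA.AK_subset h)⟩
  have hn : Cfsg.classInner (Cfsg.indFun S (χ - Cfsg.conjFun χ))
      (Cfsg.indFun S (χ - Cfsg.conjFun χ)) = 2 := by
    rw [Support.classInner_indFun hA.ti hA.one_not_mem hA.normalizer hsA hsA]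
    simp only [classInner_sub_left, classInner_sub_right,
      Isometry.Inner.classInner_irr_eq hi hi, Isometry.Inner.classInner_irr_eq hi
        (Isometry.Inner.conjFun_irr hi), Isometry.Inner.classInner_irr_eq
        (Isometry.Inner.conjFun_irr hi) hi, Isometry.Inner.classInner_irr_eq
        (Isometry.Inner.conjFun_irr hi) (Isometry.Inner.conjFun_irr hi), if_pos rfl, if_neg hne,
      if_neg (Ne.symm hne)]
    norm_num
  obtain ⟨a, b, hab, he⟩ := Induced.Generalized.exists_sub_of_norm_two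
    (Induced.Character.isGeneralizedCharacter_indFun S (Isometry.Inner.gen_sub
      (Isometry.Inner.gen_of_irr hi) (Isometry.Inner.gen_of_irr (Isometry.Inner.conjFun_irr hi))))
    hn (by rw [indFun_one, hone, mul_zero])
  exact ⟨hsupp, hone, hc, hne, a, b, a.2, b.2, fun e => hab (Subtype.ext e), he⟩

end Cfsg.Agent.Lib.OddOrder.PF13
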