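import Cfsg.Agent.Lib.OddOrder.PF13.Group
import Cfsg.Agent.Lib.CyclicTI.Invariant

/-!
# Peterfalvi (13.2): the characters `μ_{ij}` of `S` indexed by the characters of `W`
-/

set_option autoImplicit false
set_option linter.style.haveILetI false

open scoped commutatorElement

namespace Cfsg.Agent.Lib.OddOrder.PF13

open Cfsg.Agent.Lib.CyclicTI Cfsg.Agent.Lib.Induced.Basic Cfsg.Agent.Lib.Characters.Basic

universe u

variable {G : Type u} [Group G] [Fintype G]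

/-- `S'` inside `S`. -/
abbrev derivedIn (S : Subgroup G) : Subgroup ↥S := (⁅S, S⁆ : Subgroup G).subgroupOf S

instance derivedIn_normal {G : Type u} [Group G] [Finite G] (S : Subgroup G) : (derivedIn S).Normal :=
  Subgroup.normal_subgroupOf_of_le_normalizer (PF8.TypeP.le_normalizer_derived S)

variable {S W₁ U W₂ : Subgroup G}

namespace Facts

variable (F : Facts S W₁ U W₂)
include F

theorem W_le : W₁ ⊔ W₂ ≤ S :=
  sup_le F.typeP.W₁_compl.2.1 (F.typeP.W₂_le.trans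
    (inf_le_left.trans (Cfsg.Agent.Lib.OddOrder.Basic.fittingHallOf_le S)))

theorem plike : IsPLike (derivedIn S) (W₁.subgroupOf S) (W₂.subgroupOf S) where
  inf_eq := by
    rw [show derivedIn S ⊓ W₁.subgroupOf S = (⁅S, S⁆ ⊓ W₁).subgroupOf S from rfl,
      F.typeP.W₁_compl.2.2.1, Subgroup.bot_subgroupOf]
  sup_eq := by
    rw [← Subgroup.subgroupOf_sup F.derived_le F.W₁_le, Subgroup.subgroupOf_eq_top]
    intro s hs
    obtain ⟨a, ha, b, hb, rfl⟩ := F.typeP.W₁_compl.2.2.2 s hs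
    exact mul_mem (Subgroup.mem_sup_left ha) (Subgroup.mem_sup_right hb)
  ne₁ := by
    rw [Ne, Subgroup.subgroupOf_eq_bot, disjoint_iff, inf_eq_left.2 F.W₁_le]
    exact F.typeP.W₁_ne
  cyclic₁ := by
    haveI := F.typeP.W₁_cyclic
    exact isCyclic_of_surjective _ (Subgroup.subgroupOfEquivOfLe F.W₁_le).symm.surjective
  hall := by
    rw [Nat.card_congr (Subgroup.subgroupOfEquivOfLe F.W₁_le).toEquiv]
    exact F.typeP.W₁_hall
  ne₂ := by
    rw [Ne, Subgroup.subgroupOf_eq_bot, disjoint_iff,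
      inf_eq_left.2 (F.W₂_le_P.trans F.P_le)]
    exact F.typeP.selfNormalizing.2.1
  cyclic₂ := by
    haveI : IsCyclic W₂ := by
      haveI : Fact (Nat.card W₂).Prime := ⟨F.p_prime⟩
      exact isCyclic_of_prime_card (p := Nat.card W₂) rfl
    exact isCyclic_of_surjective _
      (Subgroup.subgroupOfEquivOfLe (F.W₂_le_P.trans F.P_le)).symm.surjective
  le := fun x hx => Subgroup.mem_subgroupOf.2
    (F.P_le_derived (F.W₂_le_P (Subgroup.mem_subgroupOf.1 hx)))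
  cent := fun x hx hx1 => by
    ext y
    rw [Subgroup.mem_inf, Subgroup.mem_centralizer_singleton_iff, Subgroup.mem_subgroupOf,
      Subgroup.mem_subgroupOf, ← F.typeP.W₂_centralizer (x : G) hx
        (fun e => hx1 (Subtype.ext e)), Subgroup.mem_inf, Subgroup.mem_centralizer_singleton_iff]
    exact and_congr_right fun _ => ⟨fun e => congrArg Subtype.val e, fun e => Subtype.ext e⟩
  odd := F.odd.of_dvd_nat ((Subgroup.card_subgroup_dvd_card _).trans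
    (Subgroup.card_subgroup_dvd_card S))

end Facts

/-- The properties of the characters `μ_{ij}` used below; `η` is a cyclic TI family of `G`. -/
structure IsMu (S W₁ W₂ : Subgroup G) [Fintype S] [Fintype (↥(W₁ ⊔ W₂) →* ℂˣ)]
    [DecidablePred (IsP (W₁ := W₁) (W₂ := W₂))]
    (η μ' : (↥(W₁ ⊔ W₂) →* ℂˣ) → G → ℂ)
    (μ : (↥(W₁ ⊔ W₂) →* ℂˣ) → ↥S → ℂ) (δ : (↥(W₁ ⊔ W₂) →* ℂˣ) → ℤ) : Prop where
  ext : ∀ ω (x : ↥S), μ' ω x = μ ω x
  irr : ∀ ω, Cfsg.IsIrrCharacter ↥S (μ ω)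
  inj : Function.Injective μ
  sign : ∀ ω, δ ω = 1 ∨ δ ω = -1
  delta : ∀ φ ψ, IsP φ → δ (φ * ψ) = δ ψ
  agree : ∀ φ ψ, IsP φ → ∀ k : ↥S, (k : G) ∈ ⁅S, S⁆ → μ (φ * ψ) k = μ ψ k
  value : ∀ ω, ∀ w : ↥(W₁ ⊔ W₂), (w : G) ∉ W₂ → μ' ω w = (δ ω : ℂ) * (ω w : ℂ)
  cover : ∀ g : ↥S, (g : G) ∉ ⁅S, S⁆ →
    ∃ x : ↥S, ∃ w : ↥(W₁ ⊔ W₂), (w : G) ∉ W₂ ∧ (x : G) * g * (x : G)⁻¹ = w
  modq : ∀ ω, ∃ n : ℤ, μ ω 1 - (δ ω : ℂ) = n * (Nat.card W₁ : ℂ)
  conj : ∀ ω, μ ω⁻¹ = Cfsg.conjFun (μ ω) ∧ δ ω⁻¹ = δ ω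
  fixed : ∀ κ : derivedIn S → ℂ, Cfsg.IsIrrCharacter (derivedIn S) κ → κ ≠ (fun _ => 1) →
    (∀ g : ↥S, Clifford.Basic.conjC (derivedIn S) g κ = κ) →
    ∃ ψ, IsQ ψ ∧ ψ ≠ 1 ∧ (∀ k : derivedIn S, μ ψ k = κ k) ∧
      Cfsg.indFun (derivedIn S) κ =
        ∑ φ ∈ Finset.univ.filter (IsP (W₁ := W₁) (W₂ := W₂)), μ (φ * ψ)
  diff : ∀ φ ψ ψ', IsP φ → IsQ ψ → IsQ ψ' → δ ψ = δ ψ' →
    Cfsg.indFun S ((μ (φ * ψ) - μ ψ) - (μ (φ * ψ') - μ ψ')) =
      (δ ψ : ℂ) • ((η (φ * ψ) - η ψ) - (η (φ * ψ') - η ψ'))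

omit [Fintype G] in
/-- A character of `W` that is constant off `W₂` is trivial. -/
theorem eq_one_of_const (hW : Cfsg.IsSelfNormalizingCyclic W₁ W₂)
    (hodd : Odd (Nat.card ↥(W₁ ⊔ W₂))) {ω : ↥(W₁ ⊔ W₂) →* ℂˣ} {c : ℂ}
    (h : ∀ w : ↥(W₁ ⊔ W₂), (w : G) ∉ W₂ → (ω w : ℂ) = c) : ω = 1 ∧ c = 1 := by
  obtain ⟨a, ha, ha1⟩ := (Subgroup.bot_or_exists_ne_one W₁).resolve_left hW.1
  have hna : a ∉ W₂ := fun h' => ha1 (eq_one_of_mem hW ha h')
  have ha2 : a * a ≠ 1 := by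
    intro e
    apply ha1
    have h2 : orderOf a ∣ 2 := orderOf_dvd_of_pow_eq_one (by rw [pow_two]; exact e)
    have hd : orderOf a ∣ Nat.card ↥(W₁ ⊔ W₂) :=
      Subgroup.orderOf_dvd_natCard _ (Subgroup.mem_sup_left ha)
    exact orderOf_eq_one_iff.1 (Nat.eq_one_of_dvd_coprimes hodd.coprime_two_left h2 hd)
  have hna2 : a * a ∉ W₂ := fun h' => ha2 (eq_one_of_mem hW (mul_mem ha ha) h')
  have e1 := h (inl ha) hna
  have e2 := h (inl (mul_mem ha ha)) hna2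
  have e3 : (ω (inl (mul_mem ha ha)) : ℂ) = (ω (inl ha) : ℂ) * (ω (inl ha) : ℂ) := by
    rw [← Units.val_mul, ← map_mul]; rfl
  rw [e3, e1] at e2
  have hc0 : c ≠ 0 := by rw [← e1]; exact Units.ne_zero _
  have hc : c = 1 := mul_left_cancel₀ hc0 (e2.trans (mul_one c).symm)
  subst hc
  refine ⟨hom_ext (fun w hw => ?_) (fun w hw => ?_), rfl⟩
  · by_cases h2 : (w : G) ∈ W₂
    · obtain rfl : w = 1 := Subtype.ext (eq_one_of_mem hW hw h2)
      simp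
    · exact Units.ext (by simpa using h w h2)
  · have hn : ((inl ha * w : ↥(W₁ ⊔ W₂)) : G) ∉ W₂ := fun h' => hna (by
      have h3 := mul_mem h' (inv_mem hw)
      rwa [Subgroup.coe_mul, mul_inv_cancel_right] at h3)
    refine Units.ext ?_
    have h4 := h _ hn
    rw [map_mul, Units.val_mul, e1, one_mul] at h4
    simpa using h4

/-- The characters `μ_{ij}` of `S`. -/
theorem exists_mu [Fintype S] [Fintype (↥(W₁ ⊔ W₂) →* ℂˣ)]
    [DecidablePred (IsP (W₁ := W₁) (W₂ := W₂))] (F : Facts S W₁ U W₂)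
    {η : (↥(W₁ ⊔ W₂) →* ℂˣ) → G → ℂ} (hη : Cfsg.IsCyclicTIFamily W₁ W₂ η) :
    ∃ μ' μ δ, IsMu S W₁ W₂ η μ' μ δ := by
  classical
  have h := F.plike
  have hWS := F.W_le
  have hW := F.typeP.selfNormalizing
  have hoddW : Odd (Nat.card ↥(W₁ ⊔ W₂)) := F.odd.of_dvd_nat (Subgroup.card_subgroup_dvd_card _)
  obtain ⟨μ₀, δ₀, hinj, hirr, hδ, hdiff, hval, hvan, hmod⟩ := h.exists_characters
  have hsup : W₁.subgroupOf S ⊔ W₂.subgroupOf S = (W₁ ⊔ W₂).subgroupOf S :=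
    (Subgroup.subgroupOf_sup F.W₁_le (F.W₂_le_P.trans F.P_le)).symm
  let toG : ↥(W₁.subgroupOf S ⊔ W₂.subgroupOf S) →* ↥(W₁ ⊔ W₂) :=
    { toFun := fun w => ⟨((w : ↥S) : G), Subgroup.mem_subgroupOf.1
        (hsup ▸ w.2 : (w : ↥S) ∈ (W₁ ⊔ W₂).subgroupOf S)⟩
      map_one' := rfl
      map_mul' := fun _ _ => rfl }
  let toL : ↥(W₁ ⊔ W₂) →* ↥(W₁.subgroupOf S ⊔ W₂.subgroupOf S) :=
    { toFun := fun w => ⟨⟨w, hWS w.2⟩, hsup.symm ▸ Subgroup.mem_subgroupOf.2 w.2⟩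
      map_one' := rfl
      map_mul' := fun _ _ => rfl }
  have hGL : ∀ w, toG (toL w) = w := fun _ => rfl
  have hLG : ∀ w, toL (toG w) = w := fun _ => rfl
  let r : (↥(W₁ ⊔ W₂) →* ℂˣ) → (↥(W₁.subgroupOf S ⊔ W₂.subgroupOf S) →* ℂˣ) := fun ω => ω.comp toG
  have hr : Function.Injective r := fun a b e => MonoidHom.ext fun w => by
    simpa [r, hGL] using DFunLike.congr_fun e (toL w)
  have hrs : ∀ ω, ∃ ω', r ω' = ω := fun ω =>
    ⟨ω.comp toL, MonoidHom.ext fun w => by simp [r, hLG]⟩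
  let μ : (↥(W₁ ⊔ W₂) →* ℂˣ) → ↥S → ℂ := fun ω => μ₀ (r ω)
  let μ' : (↥(W₁ ⊔ W₂) →* ℂˣ) → G → ℂ := fun ω => Cfsg.extendByZero S (μ ω)
  let δ : (↥(W₁ ⊔ W₂) →* ℂˣ) → ℤ := fun ω => if δ₀ (r ω) = 1 then 1 else -1
  have hδc : ∀ ω, (δ ω : ℂ) = δ₀ (r ω) := fun ω => by
    rcases hδ (r ω) with e | e
    · simp [δ, e]
    · simp [δ, e, show (-1 : ℂ) ≠ 1 by norm_num]
  have hsame : ∀ φ ψ, IsP φ → ∀ w : ↥(W₁.subgroupOf S ⊔ W₂.subgroupOf S),
      (w : ↥S) ∈ W₂.subgroupOf S → r (φ * ψ) w = r ψ w := fun φ ψ hφ w hw => by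
    simp [r, hφ (toG w) (Subgroup.mem_subgroupOf.1 hw)]
  have hagree : ∀ φ ψ, IsP φ → ∀ k : ↥S, (k : G) ∈ ⁅S, S⁆ → μ (φ * ψ) k = μ ψ k := by
    intro φ ψ hφ k hk
    obtain ⟨-, e⟩ := hdiff (r (φ * ψ)) (r ψ) (hsame φ ψ hφ)
    have h0 : Cfsg.indFun (W₁.subgroupOf S ⊔ W₂.subgroupOf S)
        (lin (r (φ * ψ)) - lin (r ψ)) k = 0 := by
      rw [indFun_congr (θ' := 0) _ k ?_, indFun_zero, Pi.zero_apply]
      intro x hx
      have hx2 : x⁻¹ * k * x ∈ W₂.subgroupOf S := (h.mem_K_iff ⟨_, hx⟩).1 (by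
        simpa using (derivedIn_normal S).conj_mem k (Subgroup.mem_subgroupOf.2 hk) x⁻¹)
      simp [lin, hsame φ ψ hφ ⟨_, hx⟩ hx2]
    rw [e, Pi.smul_apply, Pi.sub_apply, smul_eq_mul, mul_eq_zero] at h0
    refine sub_eq_zero.1 (h0.resolve_left ?_)
    rcases hδ (r (φ * ψ)) with a | a <;> simp [a]
  have hvalue : ∀ ω, ∀ w : ↥(W₁ ⊔ W₂), (w : G) ∉ W₂ → μ' ω w = (δ ω : ℂ) * (ω w : ℂ) := by
    intro ω w hw
    have h2 := hval (r ω) (toL w) hw
    rw [hδc]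
    exact (extendByZero_coe S (μ ω) ⟨w, hWS w.2⟩).trans h2
  have hcover : ∀ g : ↥S, (g : G) ∉ ⁅S, S⁆ →
      ∃ x : ↥S, ∃ w : ↥(W₁ ⊔ W₂), (w : G) ∉ W₂ ∧ (x : G) * g * (x : G)⁻¹ = w := by
    intro g hg
    obtain ⟨x, w, hw, e⟩ := h.exists_conj_mem (g := g) hg
    exact ⟨x, toG w, hw, congrArg Subtype.val e⟩
  have hcl : ∀ ω, Cfsg.IsClassFunction ↥S (μ ω) := fun ω => isClassFunction_irr ⟨μ ω, hirr _⟩
  -- irreducible characters with no zero on `W ∖ W₂` are among the `μ`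
  have hmem : ∀ χ : ↥S → ℂ, Cfsg.IsIrrCharacter ↥S χ →
      ∀ w : ↥(W₁ ⊔ W₂), ∀ hw : (w : G) ∉ W₂, χ ⟨w, hWS w.2⟩ ≠ 0 → ∃ ω, χ = μ ω := by
    intro χ hχ w hw hne
    by_contra hcon
    push Not at hcon
    refine hne (hvan χ hχ (fun ω e => ?_) (toL w) hw)
    obtain ⟨ω', rfl⟩ := hrs ω
    exact hcon ω' e
  refine ⟨μ', μ, δ,
    { ext := fun ω x => extendByZero_coe S (μ ω) x
      irr := fun ω => hirr _
      inj := hinj.comp hr
      sign := fun ω => by simp only [δ]; split_ifs <;> simp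
      delta := fun φ ψ hφ => ?_
      agree := hagree
      value := hvalue
      cover := hcover
      modq := fun ω => ?_
      conj := fun ω => ?_
      fixed := fun κ hκ hκ1 hfix => ?_
      diff := fun φ ψ ψ' hφ hψ hψ' hd => ?_ }⟩
  · simp only [δ, (hdiff (r (φ * ψ)) (r ψ) (hsame φ ψ hφ)).1]
  · obtain ⟨n, hn⟩ := hmod (r ω)
    refine ⟨n, ?_⟩
    rw [hδc, hn, Nat.card_congr (Subgroup.subgroupOfEquivOfLe F.W₁_le).toEquiv]
  · obtain ⟨a, ha, ha1⟩ := (Subgroup.bot_or_exists_ne_one W₁).resolve_left hW.1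
    have hna : a ∉ W₂ := fun h' => ha1 (eq_one_of_mem hW ha h')
    have hv : ∀ w : ↥(W₁ ⊔ W₂), (w : G) ∉ W₂ → Cfsg.conjFun (μ ω) ⟨w, hWS w.2⟩ =
        (δ ω : ℂ) * ((ω⁻¹ : ↥(W₁ ⊔ W₂) →* ℂˣ) w : ℂ) := by
      intro w hw
      have h1 := hvalue ω w hw
      rw [show μ' ω w = μ ω ⟨w, hWS w.2⟩ from extendByZero_coe S (μ ω) ⟨w, hWS w.2⟩] at h1
      have hu : (ω w : ℂ) ^ orderOf w = 1 := by
        rw [← Units.val_pow_eq_pow_val, ← map_pow, pow_orderOf_eq_one, map_one, Units.val_one]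
      have hn : ‖(ω w : ℂ)‖ = 1 := Complex.norm_eq_one_of_pow_eq_one hu (orderOf_pos w).ne'
      show (starRingEnd ℂ) (μ ω _) = _
      rw [h1, map_mul, map_intCast, MonoidHom.inv_apply, Units.val_inv_eq_inv_val,
        Complex.inv_eq_conj hn]
    have hne : Cfsg.conjFun (μ ω)
        ⟨((inl ha : ↥(W₁ ⊔ W₂)) : G), hWS (inl ha).2⟩ ≠ 0 := by
      rw [hv (inl ha) hna]
      refine mul_ne_zero ?_ (Units.ne_zero _)
      rw [hδc]
      rcases hδ (r ω) with e | e <;> simp [e]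
    obtain ⟨ω', hω'⟩ := hmem _ (Isometry.Inner.conjFun_irr (hirr _)) (inl ha) hna hne
    have hall : ∀ w : ↥(W₁ ⊔ W₂), (w : G) ∉ W₂ →
        ((ω' * ω : ↥(W₁ ⊔ W₂) →* ℂˣ) w : ℂ) = (δ ω : ℂ) * (δ ω' : ℂ) := by
      intro w hw
      have h1 := hv w hw
      have h2 : μ ω' ⟨w, hWS w.2⟩ = (δ ω' : ℂ) * (ω' w : ℂ) :=
        (extendByZero_coe S (μ ω') ⟨w, hWS w.2⟩).symm.trans (hvalue ω' w hw)
      rw [hω', h2, MonoidHom.inv_apply, Units.val_inv_eq_inv_val] at h1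
      have h3 : (δ ω' : ℂ) * (δ ω' : ℂ) = 1 := by
        rw [hδc]; rcases hδ (r ω') with e | e <;> simp [e]
      rw [MonoidHom.mul_apply, Units.val_mul]
      have h4 := congrArg (fun z => (δ ω' : ℂ) * z * (ω w : ℂ)) h1
      rw [← mul_assoc, h3, one_mul] at h4
      rw [h4]
      field_simp
    obtain ⟨e1, e2⟩ := eq_one_of_const hW hoddW hall
    have e3 : ω' = ω⁻¹ :=
      MonoidHom.ext fun w => eq_inv_of_mul_eq_one_left (DFunLike.congr_fun e1 w)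
    subst e3
    refine ⟨hω'.symm, ?_⟩
    have e4 : ((δ ω * δ ω⁻¹ : ℤ) : ℂ) = ((1 : ℤ) : ℂ) := by push_cast; exact e2
    have e5 : δ ω * δ ω⁻¹ = 1 := by exact_mod_cast e4
    rcases Int.eq_one_or_neg_one_of_mul_eq_one' e5 with ⟨x, y⟩ | ⟨x, y⟩ <;> rw [x, y]
  · haveI := Fintype.ofFinite (derivedIn S)
    haveI := Fintype.ofFinite (Cfsg.IrrCharacter ↥S)
    obtain ⟨C, hCcard, hCirr, hCsum⟩ :
        ∃ C : Finset (↥S → ℂ), C.card = Nat.card (W₁.subgroupOf S) ∧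
          (∀ m ∈ C, Cfsg.IsIrrCharacter ↥S m) ∧ Cfsg.indFun (derivedIn S) κ = ∑ m ∈ C, m := by
      obtain ⟨a, ha, ha1⟩ := (Subgroup.bot_or_exists_ne_one (W₁.subgroupOf S)).resolve_left h.ne₁
      obtain ⟨Q, hQf, θ, hQ, hθinj, hθirr, hθfix, hsum, hall⟩ := h.exists_invariant
      obtain ⟨q, rfl⟩ := hall κ a hκ ha ha1 (hfix a)
      exact hsum q
    obtain ⟨m, hm⟩ : C.Nonempty := by
      rw [← Finset.card_pos, hCcard]; exact Nat.card_pos
    have hidx : (derivedIn S).index = C.card := by rw [hCcard, h.index_eq]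
    -- the restriction of each constituent is `κ`
    have hres : ∀ m ∈ C, ∀ k : derivedIn S, m k = κ k := by
      intro m hm k
      have hone : Cfsg.classInner (Cfsg.indFun (derivedIn S) κ) m = 1 := by
        rw [hCsum, classInner_sum_left, Finset.sum_congr rfl fun m' hm' =>
          Isometry.Inner.classInner_irr_eq (hCirr m' hm') (hCirr m hm),
          Finset.sum_ite_eq' C, if_pos hm]
      rw [frobenius_reciprocity _ _ (isClassFunction_irr ⟨m, hCirr m hm⟩)] at hone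
      have hne : Cfsg.classInner (fun k : derivedIn S => m k) κ ≠ 0 :=
        Clifford.Basic.classInner_ne_zero_symm (by rw [hone]; exact one_ne_zero)
      have h2 := Clifford.Basic.restrict_eq_smul (derivedIn S) (hCirr m hm) ⟨κ, hκ⟩ hne hfix
      have h3 := congrFun h2 k
      rw [← classInner_conj_symm, hone, map_one, one_smul] at h3
      exact h3
    -- one of them is some `μ ω`
    obtain ⟨ω, hω⟩ : ∃ ω, ∃ m ∈ C, m = μ ω := by
      by_contra hcon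
      push Not at hcon
      have hz : ∀ g : ↥S, (g : G) ∉ ⁅S, S⁆ → m g = 0 := by
        intro g hg
        obtain ⟨x, w, hw, e⟩ := hcover g hg
        have hclm : Cfsg.IsClassFunction ↥S m := isClassFunction_irr ⟨m, hCirr m hm⟩
        rw [← hclm g x]
        by_contra hne
        obtain ⟨ω, hω⟩ := hmem m (hCirr m hm) w hw (by
          convert hne using 2; exact Subtype.ext e.symm)
        exact hcon ω m hm hω
      have h1 := classInner_self_irr ⟨m, hCirr m hm⟩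
      have h2 := classInner_self_irr ⟨κ, hκ⟩
      simp only [Cfsg.classInner] at h1 h2
      rw [← Finset.sum_filter_add_sum_filter_not Finset.univ (fun g : ↥S => g ∈ derivedIn S),
        Finset.sum_eq_zero (s := Finset.univ.filter fun g : ↥S => g ∉ derivedIn S)
          (fun g hg => by rw [hz g (Finset.mem_filter.1 hg).2, zero_mul]), add_zero,
        Finset.sum_subtype (p := fun g : ↥S => g ∈ derivedIn S) _ (fun g => by simp),
        inv_mul_eq_iff_eq_mul₀ natCard_ne_zero, mul_one] at h1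
      rw [inv_mul_eq_iff_eq_mul₀ natCard_ne_zero, mul_one] at h2
      simp only [hres m hm] at h1
      rw [h2] at h1
      have h3 : Nat.card (derivedIn S) = Nat.card S := by exact_mod_cast h1
      rw [← (derivedIn S).card_mul_index, hidx, hCcard,
        Nat.card_congr (Subgroup.subgroupOfEquivOfLe F.W₁_le).toEquiv] at h3
      exact F.q_prime.one_lt.ne'
        ((Nat.mul_eq_left Nat.card_pos.ne').1 h3.symm)
    obtain ⟨m₁, hm₁, rfl⟩ := hω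
    obtain ⟨φ₁, ψ, hφ₁, hψ, rfl⟩ := exists_decomp hW ω
    have hκψ : ∀ k : derivedIn S, μ ψ k = κ k := fun k => by
      rw [← hres _ hm₁ k, hagree φ₁ ψ hφ₁ k k.2]
    refine ⟨ψ, hψ, fun e => ?_, hκψ, ?_⟩
    · subst e
      apply hκ1
      obtain ⟨a, ha, ha1⟩ := (Subgroup.bot_or_exists_ne_one W₁).resolve_left hW.1
      have hna : a ∉ W₂ := fun h' => ha1 (eq_one_of_mem hW ha h')
      obtain ⟨ω', hω'⟩ := hmem _ (oneChar ↥S).2 (inl ha) hna (by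
        simp only [oneChar_apply]; exact one_ne_zero)
      obtain ⟨e1, -⟩ := eq_one_of_const hW hoddW (ω := ω') (c := (δ ω' : ℂ)) fun w hw => by
        have h2 : μ ω' ⟨w, hWS w.2⟩ = (δ ω' : ℂ) * (ω' w : ℂ) :=
          (extendByZero_coe S (μ ω') ⟨w, hWS w.2⟩).symm.trans (hvalue ω' w hw)
        rw [← hω', oneChar_apply] at h2
        have h3 : (δ ω' : ℂ) * (δ ω' : ℂ) = 1 := by
          rw [hδc]; rcases hδ (r ω') with e | e <;> simp [e]
        calc (ω' w : ℂ) = (δ ω' : ℂ) * (δ ω' : ℂ) * (ω' w : ℂ) := by rw [h3, one_mul]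
          _ = (δ ω' : ℂ) := by rw [mul_assoc, ← h2, mul_one]
      subst e1
      funext k
      rw [← hκψ k, ← hω', oneChar_apply]
    · funext g
      rw [Finset.sum_apply]
      by_cases hg : (g : G) ∈ ⁅S, S⁆
      · have hgK : g ∈ derivedIn S := hg
        rw [Finset.sum_congr rfl (fun φ hφ => (hagree φ ψ (Finset.mem_filter.1 hφ).2 g hg).trans
          (hκψ ⟨g, hgK⟩)), Finset.sum_const, card_isP hW, nsmul_eq_mul, hCsum, Finset.sum_apply,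
          Finset.sum_congr rfl (fun m' hm' => hres m' hm' ⟨g, hgK⟩), Finset.sum_const,
          nsmul_eq_mul, hCcard, Nat.card_congr (Subgroup.subgroupOfEquivOfLe F.W₁_le).toEquiv]
      · rw [indFun_eq_zero_of_not_mem_normal (derivedIn S) _
          (fun h' : g ∈ derivedIn S => hg h')]
        obtain ⟨x, w, hw, e⟩ := hcover g hg
        have e' : ∀ φ ∈ Finset.univ.filter (IsP (W₁ := W₁) (W₂ := W₂)),
            μ (φ * ψ) g = (δ ψ : ℂ) * (ψ w : ℂ) * (φ w : ℂ) := by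
          intro φ hφ
          have h2 : μ (φ * ψ) ⟨w, hWS w.2⟩ = (δ (φ * ψ) : ℂ) * ((φ * ψ) w : ℂ) :=
            (extendByZero_coe S (μ (φ * ψ)) ⟨w, hWS w.2⟩).symm.trans (hvalue _ w hw)
          rw [← hcl (φ * ψ) g x, show x * g * x⁻¹ = ⟨w, hWS w.2⟩ from Subtype.ext e, h2,
            hδc, (hdiff (r (φ * ψ)) (r ψ) (hsame φ ψ (Finset.mem_filter.1 hφ).2)).1, ← hδc,
            MonoidHom.mul_apply, Units.val_mul]
          ring
        rw [Finset.sum_congr rfl e', ← Finset.mul_sum]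
        refine (mul_eq_zero_of_right _ ?_).symm
        convert (sum_isP hW w).trans (if_neg hw)
  · have hd0 : δ₀ (r ψ) = δ₀ (r ψ') := by rw [← hδc, ← hδc, hd]
    have hδψ : δ₀ (r ψ) * δ₀ (r ψ) = 1 := by rcases hδ (r ψ) with e | e <;> simp [e]
    obtain ⟨a1, a2⟩ := hdiff (r (φ * ψ)) (r ψ) (hsame φ ψ hφ)
    obtain ⟨b1, b2⟩ := hdiff (r (φ * ψ')) (r ψ') (hsame φ ψ' hφ)
    set f : ↥(W₁ ⊔ W₂) → ℂ := (lin (φ * ψ) - lin ψ) - (lin (φ * ψ') - lin ψ') with hf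
    have e1 : Cfsg.indFun ((W₁ ⊔ W₂).subgroupOf S)
        (fun x => f ⟨(x : ↥S), Subgroup.mem_subgroupOf.mp x.2⟩) =
        δ₀ (r ψ) • ((μ (φ * ψ) - μ ψ) - (μ (φ * ψ') - μ ψ')) := by
      have key : ∀ (A : Subgroup ↥S) (he : A = W₁.subgroupOf S ⊔ W₂.subgroupOf S)
          (g : ↥A → ℂ) (g' : ↥(W₁.subgroupOf S ⊔ W₂.subgroupOf S) → ℂ),
          (∀ x : ↥A, g x = g' ⟨x, he ▸ x.2⟩) → Cfsg.indFun A g = Cfsg.indFun _ g' := by
        rintro A rfl g g' hg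
        rw [funext hg]
      rw [key _ hsup.symm
        (fun x => f ⟨(x : ↥S), Subgroup.mem_subgroupOf.mp x.2⟩) ((lin (r (φ * ψ)) - lin (r ψ)) - (lin (r (φ * ψ')) - lin (r ψ')))
        (fun _ => rfl)]
      calc Cfsg.indFun _ ((lin (r (φ * ψ)) - lin (r ψ)) - (lin (r (φ * ψ')) - lin (r ψ')))
          = δ₀ (r (φ * ψ)) • (μ₀ (r (φ * ψ)) - μ₀ (r ψ)) -
              δ₀ (r (φ * ψ')) • (μ₀ (r (φ * ψ')) - μ₀ (r ψ')) := by rw [indFun_sub]; exact congrArg₂ (· - ·) a2 b2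
        _ = _ := by rw [a1, b1, ← hd0, ← smul_sub]
    have e2 : (μ (φ * ψ) - μ ψ) - (μ (φ * ψ') - μ ψ') =
        δ₀ (r ψ) • Cfsg.indFun ((W₁ ⊔ W₂).subgroupOf S)
          (fun x => f ⟨(x : ↥S), Subgroup.mem_subgroupOf.mp x.2⟩) := by
      rw [e1, smul_smul, hδψ, one_smul]
    have e3 : Cfsg.indFun (W₁ ⊔ W₂) f = (η (φ * ψ) - η ψ) - (η (φ * ψ') - η ψ') := by
      have hb : ∀ χ : ↥(W₁ ⊔ W₂) →* ℂˣ, IsQ χ →
          Cfsg.indFun (W₁ ⊔ W₂) (CyclicTI.beta φ χ) = η 1 - η φ - η χ + η (φ * χ) := by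
        intro χ hχ
        by_cases h1 : φ = 1
        · subst h1; rw [beta_one_left, indFun_zero,
            show (1 : ↥(W₁ ⊔ W₂) →* ℂˣ) * χ = χ by ext; simp]; abel
        by_cases h2 : χ = 1
        · subst h2; rw [beta_one_right, indFun_zero,
            show φ * (1 : ↥(W₁ ⊔ W₂) →* ℂˣ) = φ by ext; simp]; abel
        rw [hη.map_one]
        exact hη.induced_eq φ χ h1 h2 hφ hχ
      rw [show f = CyclicTI.beta φ ψ - CyclicTI.beta φ ψ' by rw [hf, beta_eq, beta_eq]; abel, indFun_sub, hb ψ hψ,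
        hb ψ' hψ']
      abel
    rw [e2, indFun_smul, indFun_trans (W₁ ⊔ W₂) S hWS f, e3, hδc]

end Cfsg.Agent.Lib.OddOrder.PF13
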