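import Cfsg.Agent.Lib.OddOrder.PF13.FreeChar

/-!
# Peterfalvi (13.2): the group-theoretical `Side` facts
-/

set_option autoImplicit false

namespace Cfsg.Agent.Lib.OddOrder.PF13

universe u

variable {G : Type u} [Group G] [Finite G]

/-- The interface structure `Side` from `Facts`. -/
theorem Facts.side {S W₁ U W₂ : Subgroup G} (F : Facts S W₁ U W₂) :
    Side (Nat.card W₂) (Nat.card W₁) S (Cfsg.fittingHallOf S)
      (U ⊓ Subgroup.centralizer (Cfsg.fittingHallOf S : Set G)) U W₁ W₂ where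
  p_prime := F.p_prime
  q_prime := F.q_prime
  p_odd := F.p_ne_two
  q_odd := F.q_ne_two
  p_ne_q := F.p_ne_q
  card_W₁ := rfl
  card_W₂ := rfl
  card_P := F.P_card
  P_exponent := F.P_exp
  C_eq := rfl
  H_comm := F.H_comm
  U_comm := F.U_comm
  P_le := F.P_le
  U_le := F.U_le
  W₁_le := F.W₁_le
  S_normalizes_P := Cfsg.Agent.Lib.OddOrder.Basic.fittingHallOf_normal S
  S_normalizes_H := F.H_normal
  decomp _ hs := F.decomp hs
  card_S := F.card_S
  not_dvd_p := F.not_dvd_p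
  not_dvd_q := F.not_dvd_q
  W₁_normalizes_U := F.typeP.U_normal
  fpf _ hw hw1 _ ha h := F.fpf hw hw1 ha h
  W₂_le := F.W₂_le_P
  W₂_comm _ hw _ hy := F.W₂_comm hw hy
  fixed_P x hx h := by
    obtain ⟨w, hw, hw1⟩ := F.exists_W₁
    exact F.fixed_P hx hw hw1 (h w hw)
  cent_W₂ := le_inf inf_le_left F.cent_W₂
  u_le := F.u_le
  ti := F.ti
  exists_free := F.exists_free

end Cfsg.Agent.Lib.OddOrder.PF13
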