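import Cfsg.Agent.Lib.OddOrder.PF13.Members
import Cfsg.Agent.Lib.OddOrder.PF13.Side
import Cfsg.Agent.Lib.OddOrder.PF13.SideAction
import Cfsg.Agent.Lib.Characters.Linear

/-!
# Peterfalvi (13.3): the characters of `S` induced from the linear characters of `H = P C`
-/

set_option autoImplicit false
set_option linter.style.haveILetI false
set_option linter.unusedSectionVars false

open scoped commutatorElement ComplexConjugate

namespace Cfsg.Agent.Lib.OddOrder.PF13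

open Cfsg.Agent.Lib.CyclicTI (IsP IsQ)
open Cfsg.Agent.Lib.Induced.Basic Cfsg.Agent.Lib.Characters.Basic
open Cfsg.Agent.Lib.Clifford.Basic (conjC)

universe u

variable {G : Type u} [Group G] [Fintype G]

/-- `H = P C`. -/
abbrev Hof (S U : Subgroup G) : Subgroup G :=
  Cfsg.fittingHallOf S ⊔ (U ⊓ Subgroup.centralizer (Cfsg.fittingHallOf S : Set G))

/-- `H` inside `S`. -/
abbrev Hin (S U : Subgroup G) : Subgroup ↥S := (Hof S U).subgroupOf S

/-- `θ` read on `H` inside `S`. -/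
noncomputable def lift {S U : Subgroup G} (θ : ↥(Hof S U) →* ℂˣ) : ↥(Hin S U) → ℂ :=
  fun x => (θ ⟨((x : ↥S) : G), Subgroup.mem_subgroupOf.mp x.2⟩ : ℂ)

/-- `Ind_H^S θ`. -/
noncomputable def Phi {S U : Subgroup G} [Fintype S] (θ : ↥(Hof S U) →* ℂˣ) : ↥S → ℂ :=
  Cfsg.indFun (Hin S U) (lift θ)

/-- `θ` read on `H` inside `S'`. -/
noncomputable def liftK {S U : Subgroup G} (θ : ↥(Hof S U) →* ℂˣ) :
    ↥((Hin S U).subgroupOf (derivedIn S)) → ℂ :=
  fun x => lift θ ⟨((x : derivedIn S) : ↥S), Subgroup.mem_subgroupOf.mp x.2⟩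

/-- `Ind_H^{S'} θ`. -/
noncomputable def Kap {S U : Subgroup G} [Fintype (derivedIn S)] (θ : ↥(Hof S U) →* ℂˣ) :
    derivedIn S → ℂ :=
  Cfsg.indFun ((Hin S U).subgroupOf (derivedIn S)) (liftK θ)

/-- `θ` is conjugate in `S` to a character fixed by `W₁`. -/
def NearFixed (S W₁ : Subgroup G) {H : Subgroup G} (θ : ↥H →* ℂˣ) : Prop :=
  ∃ s ∈ S, ∃ θ', ConjTo s θ θ' ∧ FixedBy W₁ θ'

variable {S W₁ U W₂ : Subgroup G} (F : Facts S W₁ U W₂)
include F

theorem Hof_le_derived : Hof S U ≤ ⁅S, S⁆ :=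
  sup_le F.P_le_derived (inf_le_left.trans F.U_le_derived)

theorem Hin_normal : (Hin S U).Normal :=
  Subgroup.normal_subgroupOf_of_le_normalizer F.H_normal

theorem Hin_le : Hin S U ≤ derivedIn S := fun _ hx => Hof_le_derived F hx

variable [Fintype S]

/-- Transitivity of induction. -/
theorem indFun_Phi (θ : ↥(Hof S U) →* ℂˣ) :
    Cfsg.indFun S (Phi θ) = Cfsg.indFun (Hof S U) fun x => (θ x : ℂ) :=
  indFun_trans (Hof S U) S F.H_le fun x => (θ x : ℂ)

theorem indFun_Kap [Fintype (derivedIn S)] (θ : ↥(Hof S U) →* ℂˣ) :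
    Cfsg.indFun (derivedIn S) (Kap θ) = Phi θ :=
  indFun_trans (Hin S U) (derivedIn S) (Hin_le F) (lift θ)

omit [Fintype S] in
/-- The linear character on `H` inside `S`. -/
theorem lift_irr (θ : ↥(Hof S U) →* ℂˣ) : Cfsg.IsIrrCharacter ↥(Hin S U) (lift θ) :=
  Induced.Character.isIrrCharacter_hom
    (θ.comp ((Subgroup.subgroupOfEquivOfLe F.H_le).toMonoidHom))

theorem conjC_lift {θ θ' : ↥(Hof S U) →* ℂˣ} (g : ↥S) :
    (haveI := Hin_normal F; conjC (Hin S U) g (lift θ) = lift θ') ↔ ConjTo (g : G) θ θ' := by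
  haveI := Hin_normal F
  constructor
  · intro h x y hy
    have hx : (⟨(x : G), F.H_le x.2⟩ : ↥S) ∈ Hin S U := x.2
    have h1 := congrFun h ⟨⟨(x : G), F.H_le x.2⟩, hx⟩
    have e : y = (⟨(g : G) * x * (g : G)⁻¹, F.conj_H g.2 x.2⟩ : ↥(Hof S U)) := Subtype.ext hy
    rw [e]
    exact Units.ext h1
  · intro h
    funext n
    exact congrArg Units.val (h ⟨((n : ↥S) : G), n.2⟩ _ rfl)

/-- The inner products of the induced characters. -/
theorem classInner_Phi (θ θ' : ↥(Hof S U) →* ℂˣ) :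
    Cfsg.classInner (Phi θ) (Phi θ') =
      (Nat.card {s : G // s ∈ S ∧ ConjTo s θ θ'} : ℂ) / (Nat.card (Hof S U) : ℂ) := by
  haveI := Hin_normal F
  have h := Induced.Mackey.card_mul_classInner_indFun (Hin S U) (lift_irr F θ') (lift_irr F θ)
  have hc : Nat.card (Hin S U) = Nat.card (Hof S U) :=
    Nat.card_congr (Subgroup.subgroupOfEquivOfLe F.H_le).toEquiv
  have e : Nat.card {g : ↥S // conjC (Hin S U) g (lift θ) = lift θ'} =
      Nat.card {s : G // s ∈ S ∧ ConjTo s θ θ'} :=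
    Nat.card_congr
      { toFun := fun g => ⟨(g.1 : G), g.1.2, (conjC_lift F g.1).1 g.2⟩
        invFun := fun s => ⟨⟨s.1, s.2.1⟩, (conjC_lift F ⟨s.1, s.2.1⟩).2 s.2.2⟩
        left_inv := fun _ => rfl
        right_inv := fun _ => rfl }
  rw [e, hc] at h
  have h' : Cfsg.classInner (Phi θ') (Phi θ) =
      (Nat.card {s : G // s ∈ S ∧ ConjTo s θ θ'} : ℂ) / (Nat.card (Hof S U) : ℂ) := by
    rw [eq_div_iff (subgroup_card_ne_zero _), mul_comm]
    exact h
  rw [← classInner_conj_symm (Phi θ') (Phi θ), h', map_div₀, map_natCast, map_natCast]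

/-- A constituent of `Ind_H^{S'} θ` is non-trivial on `P` if `θ` is. -/
theorem moves_of_constituent [Fintype (derivedIn S)] {θ : ↥(Hof S U) →* ℂˣ}
    (hθ : Moves (Cfsg.fittingHallOf S) θ) {κ : derivedIn S → ℂ}
    (hκ : Cfsg.IsIrrCharacter (derivedIn S) κ) (h : Cfsg.classInner (Kap θ) κ ≠ 0) :
    ∃ x : derivedIn S, (x : ↥S) ∈ Pin S ∧ κ x ≠ κ 1 := by
  by_contra hc
  push Not at hc
  apply h
  haveI := Fintype.ofFinite ((Hin S U).subgroupOf (derivedIn S))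
  rw [Kap, frobenius_reciprocity _ _ (isClassFunction_irr ⟨κ, hκ⟩)]
  obtain ⟨x, hx, hx1⟩ := hθ
  let x' : ↥((Hin S U).subgroupOf (derivedIn S)) :=
    ⟨⟨⟨x, F.H_le x.2⟩, Hof_le_derived F x.2⟩, x.2⟩
  haveI : (Pin S).Normal := Subgroup.normal_subgroupOf_of_le_normalizer
    (Cfsg.Agent.Lib.OddOrder.Basic.fittingHallOf_normal S)
  -- `κ` is constant on the cosets of `P`
  have hker : ∀ y : derivedIn S, κ ((x' : derivedIn S) * y) = κ y := fun y => by
    exact (Characters.Kernel.apply_mul_of_apply_eq_one (IsCharacter_of_isIrrCharacter hκ)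
      (hc (x' : derivedIn S) hx) y).1
  set T := Cfsg.classInner (liftK θ)
    (fun h : ↥((Hin S U).subgroupOf (derivedIn S)) => κ (h : derivedIn S)) with hT
  have key : (θ x : ℂ) * T = T := by
    rw [hT, Cfsg.classInner, ← mul_assoc, mul_comm (θ x : ℂ), mul_assoc, Finset.mul_sum]
    refine congrArg _ (Fintype.sum_equiv (Equiv.mulLeft x') _ _ fun y => ?_)
    rw [Equiv.coe_mulLeft, Subgroup.coe_mul, hker, ← mul_assoc]
    refine congrArg (· * _) ?_
    show (θ x : ℂ) * (θ _ : ℂ) = (θ _ : ℂ)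
    rw [← Units.val_mul, ← map_mul]
    rfl
  rcases mul_left_eq_self₀.1 key with h1 | h1
  · exact absurd (Units.ext h1) hx1
  · exact h1

theorem Kap_char [Fintype (derivedIn S)] (θ : ↥(Hof S U) →* ℂˣ) :
    Cfsg.IsCharacter (derivedIn S) (Kap θ) :=
  Induced.Character.isCharacter_indFun _ (Induced.Character.isCharacter_hom
    ((θ.comp ((Subgroup.subgroupOfEquivOfLe F.H_le).toMonoidHom)).comp
      ((Subgroup.subgroupOfEquivOfLe (Hin_le F)).toMonoidHom)))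

/-- `Ind_H^S θ` is a combination of the members of `S(1)` induced from its constituents. -/
theorem Phi_mem_zspan [Fintype (derivedIn S)] {θ : ↥(Hof S U) →* ℂˣ}
    (hθ : Moves (Cfsg.fittingHallOf S) θ) :
    Phi θ ∈ Cfsg.zspan {φ : ↥S → ℂ | ∃ κ : derivedIn S → ℂ, Cfsg.IsIrrCharacter (derivedIn S) κ ∧
      Cfsg.classInner (Kap θ) κ ≠ 0 ∧ φ = Cfsg.indFun (derivedIn S) κ ∧ φ ∈ memS S} := by
  classical
  haveI := Fintype.ofFinite (Cfsg.IrrCharacter (derivedIn S))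
  have hK := Kap_char F θ
  have e := character_eq_finsum hK
  rw [finsum_eq_sum_of_fintype] at e
  rw [← indFun_Kap F θ, show Cfsg.indFun (derivedIn S) (Kap θ) = _ from
    congrArg (Cfsg.indFun (derivedIn S)) e, indFun_sum]
  refine Submodule.sum_mem _ fun κ _ => ?_
  obtain ⟨n, hn⟩ := exists_classInner_nat hK (isCharacter_irr κ)
  by_cases h0 : Cfsg.classInner (Kap θ) (κ : derivedIn S → ℂ) = 0
  · rw [h0, zero_smul, indFun_zero]
    exact Submodule.zero_mem _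
  · rw [indFun_smul, hn, show (n : ℂ) = ((n : ℤ) : ℂ) from (Int.cast_natCast n).symm,
      Int.cast_smul_eq_zsmul]
    refine Submodule.smul_mem _ _ (Submodule.subset_span ⟨κ, κ.2, h0, rfl, κ, κ.2, ?_,
      moves_of_constituent F hθ κ.2 h0, rfl⟩)
    intro a ha
    rw [Subgroup.mem_bot] at ha
    rw [show a = 1 from Subtype.ext ha]

theorem Phi_one (θ : ↥(Hof S U) →* ℂˣ) : Phi θ 1 = ((Hin S U).index : ℂ) := by
  rw [Phi, indFun_one, show lift θ 1 = 1 from congrArg Units.val (map_one θ), mul_one]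

variable [Fintype (↥(W₁ ⊔ W₂) →* ℂˣ)] [DecidablePred (IsP (W₁ := W₁) (W₂ := W₂))]
  [Fintype (derivedIn S)]
  {η μ' : (↥(W₁ ⊔ W₂) →* ℂˣ) → G → ℂ}
  {μ : (↥(W₁ ⊔ W₂) →* ℂˣ) → ↥S → ℂ} {δ : (↥(W₁ ⊔ W₂) →* ℂˣ) → ℤ}
  (hM : IsMu S W₁ W₂ η μ' μ δ)

include hM

/-- A fixed character gives a reducible member. -/
theorem fixed_col {θ : ↥(Hof S U) →* ℂˣ} (hθ : Moves (Cfsg.fittingHallOf S) θ)
    (hf : FixedBy W₁ θ) : ∃ ψ, IsCol S μ ψ ∧ Phi θ = col μ ψ := by
  classical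
  haveI : ((Hin S U).subgroupOf (derivedIn S)).Normal := by
    haveI := Hin_normal F
    exact Subgroup.normal_subgroupOf
  have hside := F.side
  have hirr : Cfsg.IsIrrCharacter (derivedIn S) (Kap θ) := by
    refine Induced.Mackey.isIrrCharacter_indFun _ ?_ fun g hg => ?_
    · exact Induced.Character.isIrrCharacter_hom
        ((θ.comp ((Subgroup.subgroupOfEquivOfLe F.H_le).toMonoidHom)).comp
          ((Subgroup.subgroupOfEquivOfLe (Hin_le F)).toMonoidHom))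
    · have hc : ConjTo ((g : ↥S) : G) θ θ := by
        intro x y hy
        have hx : (⟨⟨(x : G), F.H_le x.2⟩, Hof_le_derived F x.2⟩ : derivedIn S) ∈
            (Hin S U).subgroupOf (derivedIn S) := x.2
        have h1 := congrFun hg ⟨_, hx⟩
        rw [show y = (⟨((g : ↥S) : G) * x * ((g : ↥S) : G)⁻¹, F.conj_H (g : ↥S).2 x.2⟩ :
          ↥(Hof S U)) from Subtype.ext hy]
        exact Units.ext h1
      obtain ⟨x, hx, w, hw, e⟩ := hside.mem_stab_fixed hf hθ (g : ↥S).2 hc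
      have hw1 : w = 1 := by
        have h2 : w ∈ ⁅S, S⁆ ⊓ W₁ := Subgroup.mem_inf.2 ⟨by
          rw [show w = x⁻¹ * ((g : ↥S) : G) by rw [e]; group]
          exact mul_mem (inv_mem (Hof_le_derived F hx)) g.2, hw⟩
        rwa [F.typeP.W₁_compl.2.2.1, Subgroup.mem_bot] at h2
      rw [hw1, mul_one] at e
      show ((g : ↥S) : G) ∈ Hof S U
      rw [e]; exact hx
  have hmv := moves_of_constituent F hθ hirr (by
    rw [classInner_self_irr ⟨_, hirr⟩]; exact one_ne_zero)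
  have hfix : ∀ g : ↥S, conjC (derivedIn S) g (Kap θ) = Kap θ := by
    by_contra hcon
    push Not at hcon
    obtain ⟨g, hg⟩ := hcon
    have hi := PF9Char.isIrr_indFun_of_prime_index _ (by
      rw [F.plike.index_eq, Nat.card_congr (Subgroup.subgroupOfEquivOfLe F.W₁_le).toEquiv]
      exact F.q_prime) hirr hg
    rw [indFun_Kap F θ] at hi
    have h1 : Cfsg.classInner (Phi θ) (Phi θ) = 1 := classInner_self_irr ⟨_, hi⟩
    rw [classInner_Phi F θ θ, div_eq_one_iff_eq (subgroup_card_ne_zero _), Nat.cast_inj] at h1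
    have h2 : Nat.card (↥(Hof S U) × W₁) ≤ Nat.card {s : G // s ∈ S ∧ ConjTo s θ θ} := by
      refine Nat.card_le_card_of_injective (fun z => ⟨(z.1 : G) * (z.2 : G),
        mul_mem (F.H_le z.1.2) (F.W₁_le z.2.2),
        (hside.conjTo_of_mem z.1.2 θ).trans (fun y hy => F.conj_H (F.W₁_le z.2.2) hy)
          (hf _ z.2.2)⟩) fun z z' he => ?_
      have he' : (z.1 : G) * z.2 = (z'.1 : G) * z'.2 := congrArg Subtype.val he
      have h3 : (z'.1 : G)⁻¹ * z.1 ∈ ⁅S, S⁆ ⊓ W₁ := Subgroup.mem_inf.2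
        ⟨mul_mem (inv_mem (Hof_le_derived F z'.1.2)) (Hof_le_derived F z.1.2), by
          rw [show (z'.1 : G)⁻¹ * z.1 = (z'.2 : G) * (z.2 : G)⁻¹ by
            rw [eq_mul_inv_iff_mul_eq, mul_assoc, he', inv_mul_cancel_left]]
          exact mul_mem z'.2.2 (inv_mem z.2.2)⟩
      rw [F.typeP.W₁_compl.2.2.1, Subgroup.mem_bot, inv_mul_eq_one] at h3
      rw [← h3] at he'
      exact Prod.ext (Subtype.ext h3.symm) (Subtype.ext (mul_left_cancel he'))
    rw [Nat.card_prod, h1] at h2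
    exact absurd h2 (not_le.2 ((Nat.lt_mul_iff_one_lt_right Nat.card_pos).2 F.q_prime.one_lt))
  have hne : Kap θ ≠ fun _ => 1 := by
    intro e
    obtain ⟨x, -, hx⟩ := hmv
    exact hx (by rw [e])
  obtain ⟨ψ, hψ, hψ1, hres, hind⟩ := hM.fixed _ hirr hne hfix
  exact ⟨ψ, ⟨hψ, hψ1, Kap θ, hirr, hmv, hind, hres⟩, (indFun_Kap F θ).symm.trans hind⟩

theorem mu_one_of_fixed {θ : ↥(Hof S U) →* ℂˣ} {ψ : ↥(W₁ ⊔ W₂) →* ℂˣ} (h : Phi θ = col μ ψ) :
    μ ψ 1 = ((Hin S U).index : ℂ) / (Nat.card W₁ : ℂ) := by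
  rw [eq_div_iff (subgroup_card_ne_zero _), mul_comm, ← col_one F hM ψ, ← h, Phi_one F θ]

/-- If no conjugate of `θ` is fixed, the constituents give irreducible members. -/
theorem constituent_irr {θ : ↥(Hof S U) →* ℂˣ} (_hθ : Moves (Cfsg.fittingHallOf S) θ)
    (hn : ¬ NearFixed S W₁ θ) {κ : derivedIn S → ℂ} (hκ : Cfsg.IsIrrCharacter (derivedIn S) κ)
    (h0 : Cfsg.classInner (Kap θ) κ ≠ 0) :
    Cfsg.IsIrrCharacter ↥S (Cfsg.indFun (derivedIn S) κ) := by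
  classical
  by_contra hcon
  apply hn
  have hside := F.side
  have hfix : ∀ g : ↥S, conjC (derivedIn S) g κ = κ := by
    by_contra hc
    push Not at hc
    obtain ⟨g, hg⟩ := hc
    exact hcon (PF9Char.isIrr_indFun_of_prime_index _ (by
      rw [F.plike.index_eq, Nat.card_congr (Subgroup.subgroupOfEquivOfLe F.W₁_le).toEquiv]
      exact F.q_prime) hκ hg)
  set N := (Hin S U).subgroupOf (derivedIn S) with hN
  haveI : N.Normal := by
    haveI := Hin_normal F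
    exact Subgroup.normal_subgroupOf
  haveI := Fintype.ofFinite N
  obtain ⟨w, hw, hw1⟩ := F.exists_W₁
  have hwS := F.W₁_le hw
  let θw : ↥(Hof S U) →* ℂˣ := θ.comp (hside.conjHom hwS)
  have hlin : ∀ ν : ↥(Hof S U) →* ℂˣ, Cfsg.IsIrrCharacter N (liftK ν) := fun ν =>
    Induced.Character.isIrrCharacter_hom
      ((ν.comp ((Subgroup.subgroupOfEquivOfLe F.H_le).toMonoidHom)).comp
        ((Subgroup.subgroupOfEquivOfLe (Hin_le F)).toMonoidHom))
  rw [Kap, frobenius_reciprocity _ _ (isClassFunction_irr ⟨κ, hκ⟩)] at h0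
  have h1 : Cfsg.classInner (fun n : N => κ n) (liftK θ) ≠ 0 :=
    Clifford.Basic.classInner_ne_zero_symm h0
  let σ : N ≃ N :=
    { toFun := fun n => ⟨⟨⟨w, hwS⟩ * ((n : derivedIn S) : ↥S) * ⟨w, hwS⟩⁻¹,
          (derivedIn_normal S).conj_mem _ (n : derivedIn S).2 _⟩,
        (Hin_normal F).conj_mem _ n.2 _⟩
      invFun := fun n => ⟨⟨⟨w, hwS⟩⁻¹ * ((n : derivedIn S) : ↥S) * ⟨w, hwS⟩⁻¹⁻¹,
          (derivedIn_normal S).conj_mem _ (n : derivedIn S).2 _⟩,
        (Hin_normal F).conj_mem _ n.2 _⟩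
      left_inv := fun n => Subtype.ext (Subtype.ext (by
        show (⟨w, hwS⟩ : ↥S)⁻¹ * (⟨w, hwS⟩ * ((n : derivedIn S) : ↥S) * ⟨w, hwS⟩⁻¹) *
          ⟨w, hwS⟩⁻¹⁻¹ = _
        group))
      right_inv := fun n => Subtype.ext (Subtype.ext (by
        show (⟨w, hwS⟩ : ↥S) * (⟨w, hwS⟩⁻¹ * ((n : derivedIn S) : ↥S) * ⟨w, hwS⟩⁻¹⁻¹) *
          ⟨w, hwS⟩⁻¹ = _
        group)) }
  have h2 : Cfsg.classInner (fun n : N => κ n) (liftK θw) =
      Cfsg.classInner (fun n : N => κ n) (liftK θ) := by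
    simp only [Cfsg.classInner]
    refine congrArg (_ * ·) (Fintype.sum_equiv σ _ _ fun n => ?_)
    have e : κ (σ n : derivedIn S) = κ n := congrFun (hfix ⟨w, hwS⟩) n
    simp only [e]
    rfl
  obtain ⟨k, hk⟩ := Clifford.Basic.exists_conj_of_constituents N hκ
    (θ := ⟨liftK θ, hlin θ⟩) (ψ := ⟨liftK θw, hlin θw⟩) h1 (by rw [h2]; exact h1)
  have hkS : ((k : ↥S) : G) ∈ S := (k : ↥S).2
  have hck : ConjTo ((k : ↥S) : G) θ θw := by
    intro x y hy
    have hx : (⟨⟨(x : G), F.H_le x.2⟩, Hof_le_derived F x.2⟩ : derivedIn S) ∈ N := x.2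
    have h3 := congrFun hk ⟨_, hx⟩
    rw [show y = (⟨((k : ↥S) : G) * x * ((k : ↥S) : G)⁻¹, F.conj_H hkS x.2⟩ :
      ↥(Hof S U)) from Subtype.ext hy]
    exact Units.ext h3
  have hcw : ConjTo w θ θw := (hside.conjTo_iff hwS).2 rfl
  set s := w * ((k : ↥S) : G)⁻¹ with hs
  have hsS : s ∈ S := mul_mem hwS (inv_mem hkS)
  have hcs : ConjTo s θ θ :=
    hcw.trans (fun y hy => F.conj_H (inv_mem hkS) hy) hck.symm'
  have hsK : s ∉ ⁅S, S⁆ := fun h => hw1 (by
    have h2 : w ∈ ⁅S, S⁆ ⊓ W₁ := Subgroup.mem_inf.2 ⟨by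
      rw [show w = s * ((k : ↥S) : G) by rw [hs]; group]
      exact mul_mem h k.2, hw⟩
    rwa [F.typeP.W₁_compl.2.2.1, Subgroup.mem_bot] at h2)
  obtain ⟨x, v, hv, e⟩ := hM.cover ⟨s, hsS⟩ hsK
  have hxS : ((x : ↥S) : G) ∈ S := x.2
  let θ' : ↥(Hof S U) →* ℂˣ := θ.comp (hside.conjHom (inv_mem hxS))
  have hcx : ConjTo ((x : ↥S) : G)⁻¹ θ θ' := (hside.conjTo_iff (inv_mem hxS)).2 rfl
  refine ⟨((x : ↥S) : G)⁻¹, inv_mem hxS, θ', hcx, ?_⟩
  have hvS : (v : G) ∈ S := F.W_le v.2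
  have hcv : ConjTo (v : G) θ' θ' := by
    have h3 := (hcx.symm'.trans (fun y hy => F.conj_H hsS hy) hcs).trans
      (fun y hy => F.conj_H (inv_mem hxS) hy) hcx
    rw [inv_inv] at h3
    rwa [← e]
  obtain ⟨π₁, π₂, hπ⟩ := CyclicTI.exists_proj F.typeP.selfNormalizing
  have ev : (v : G) = π₁ v * π₂ v := congrArg Subtype.val (hπ v).1
  have hyH : (π₂ v : G) ∈ Hof S U := Subgroup.mem_sup_left (F.W₂_le_P (hπ v).2.2)
  have hca : ConjTo (π₁ v : G) θ' θ' := by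
    have h3 := hcv.trans (fun y hy => F.conj_H (inv_mem (F.H_le hyH)) hy)
      (hside.conjTo_of_mem (inv_mem hyH) θ')
    rwa [ev, mul_inv_cancel_right] at h3
  have ha1 : (π₁ v : G) ≠ 1 := fun h => hv (by rw [ev, h, one_mul]; exact (hπ v).2.2)
  intro b hb
  let St : Subgroup G :=
    { carrier := {g | g ∈ S ∧ ConjTo g θ' θ'}
      one_mem' := ⟨one_mem _, fun x y h => by rw [show y = x from Subtype.ext (by simpa using h)]⟩
      mul_mem' := fun {g g'} hg hg' =>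
        ⟨mul_mem hg.1 hg'.1, hg.2.trans (fun y hy => F.conj_H hg'.1 hy) hg'.2⟩
      inv_mem' := fun {g} hg => ⟨inv_mem hg.1, hg.2.symm'⟩ }
  haveI : Fact (Nat.card W₁).Prime := ⟨F.q_prime⟩
  obtain ⟨n, hn⟩ := Subgroup.mem_zpowers_iff.1
    (mem_zpowers_of_prime_card (g := (⟨_, (hπ v).2.1⟩ : W₁)) (g' := ⟨b, hb⟩) rfl
      (fun h => ha1 (congrArg Subtype.val h)))
  have hn' : (π₁ v : G) ^ n = b := by simpa using congrArg Subtype.val hn
  rw [← hn']
  exact (zpow_mem (show (π₁ v : G) ∈ St from ⟨F.W₁_le (hπ v).2.1, hca⟩) n).2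

/-- A free character induces to an irreducible member. -/
theorem free_member {θ : ↥(Hof S U) →* ℂˣ} (hθ : IsFree S (Cfsg.fittingHallOf S) θ) :
    Cfsg.IsIrrCharacter ↥S (Phi θ) ∧ Phi θ ∈ memS S ∧ ¬ NearFixed S W₁ θ := by
  haveI := Hin_normal F
  have hi : Cfsg.IsIrrCharacter ↥S (Phi θ) := by
    refine Induced.Mackey.isIrrCharacter_indFun _ (lift_irr F θ) fun g hg => ?_
    exact hθ.2 _ g.2 ((conjC_lift F g).1 hg)
  refine ⟨hi, ?_, fun ⟨s, hs, θ', hc, hf⟩ => F.side.not_fixed_of_free hθ hs hc hf⟩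
  by_contra hno
  have h1 := Isometry.Inner.classInner_zspan_eq_zero (φ := Phi θ) (Phi_mem_zspan F hθ.1) ?_
  · rw [classInner_self_irr ⟨_, hi⟩] at h1
    exact one_ne_zero h1
  rintro χ ⟨κ, hκ, h0, rfl, hmem⟩
  rw [Isometry.Inner.classInner_irr_eq
    (constituent_irr F hM hθ.1 (fun ⟨s, hs, θ', hc, hf⟩ =>
      F.side.not_fixed_of_free hθ hs hc hf) hκ h0) hi, if_neg]
  exact fun e => hno (e ▸ hmem)

end Cfsg.Agent.Lib.OddOrder.PF13
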