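import Cfsg.Agent.Lib.OddOrder.PF13.Pair

/-!
# Peterfalvi (13.3)-(13.12) from the interfaces of §§8-11

`step_13_12_of` composes `step_13_2_of` with the counting argument; `s1547` is the statement
`C_U(S_F) = 1` of row S1547.
-/

set_option autoImplicit false

namespace Cfsg.Agent.Lib.OddOrder.PF13

open Interface.PF8 (BG16)

universe u

variable {G : Type u} [Group G]

theorem step_13_12_of [Fintype G] (hB : BG16 G) (h5 : Interface.PF12.NoTypeV G)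
    (h7 : Interface.PF12.Step_12_7 G) (h10 : Interface.PF13Needs.Step_10_11 G)
    (h11 : TypeThreeFacts G) : Step_13_12 G :=
  step_13_12 (step_13_2_of hB h5 h7 h10 h11)

theorem s1547 [Finite G] (hG : Cfsg.IsMinSimpleOddOrder G) (hB : BG16 G)
    (h5 : Interface.PF12.NoTypeV G) (h7 : Interface.PF12.Step_12_7 G)
    (h10 : Interface.PF13Needs.Step_10_11 G) (h11 : TypeThreeFacts G)
    (S T W₁ W₂ U V : Subgroup G) (hS : IsCoatom S) (hT : IsCoatom T)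
    (hSP : Cfsg.IsTypePWith S W₁ U W₂) (hTP : Cfsg.IsTypePWith T W₂ V W₁) (hST : S ⊓ T = W₁ ⊔ W₂)
    (hII : Cfsg.IsOfTypeII S ∨ Cfsg.IsOfTypeII T)
    (hS25 : Cfsg.IsOfTypeII S ∨ Cfsg.IsOfTypeIII S ∨ Cfsg.IsOfTypeIV S ∨ Cfsg.IsOfTypeV S)
    (hT25 : Cfsg.IsOfTypeII T ∨ Cfsg.IsOfTypeIII T ∨ Cfsg.IsOfTypeIV T ∨ Cfsg.IsOfTypeV T) :
    U ⊓ Subgroup.centralizer ((Cfsg.fittingHallOf S : Subgroup G) : Set G) = ⊥ := by
  haveI := Fintype.ofFinite G
  exact (step_13_12_of hB h5 h7 h10 h11 hG S T W₁ W₂ U V hS hT hSP hTP hST hII hS25 hT25).1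

end Cfsg.Agent.Lib.OddOrder.PF13
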